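import Cfsg.Agent.Transfer.CentralTransfer

/-!
# Criteria for the p-part of the kernel of a perfect central extension (helper47)

`π : L →* X` is a finite perfect central extension.

* `kill_comm` : `x, y` commuting elements of order `p` (odd), `t` centralises `x` and inverts `y`, `⟨x, y⟩` of index
  prime to `p`: then `p` does not divide `|ker π|`.
* `kill_ext` : `x, y` generate a group of index prime to `p` with `z = [x, y] ≠ 1` central in `⟨x, y⟩`, `x ^ p = 1`,
  `t` inverts `x` and `y`: then `p` does not divide `|ker π|`.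
* `bound_comm` : `x, y` commuting, `x ^ p = 1`, `⟨x, y⟩` of index prime to `p`: `p ^ 2` does not divide `|ker π|`
  and the `p`-part of the kernel is cyclic (of order dividing `p`).
* `kill_prime` : `p` divides `|X|` exactly once (or not at all).
* `not_dvd_index_comm`, `not_dvd_index_ext` : the index conditions from `|X|`.
-/

set_option autoImplicit false

namespace Cfsg.Agent.H47.Kill

open Subgroup Cfsg.Agent.Transfer.CentralTransfer
open scoped commutatorElement

universe u v

variable {L : Type u} {X : Type v} [Group L] [Group X]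

/-- the kernel elements commute with everything -/
theorem ker_comm {π : L →* X} (hz : π.ker ≤ center L) {k : L} (hk : π k = 1) (g : L) : g * k = k * g :=
  mem_center_iff.1 (hz (MonoidHom.mem_ker.2 hk)) g

/-- an element above `1 * …` -/
theorem exists_eq_mul {π : L →* X} {a b : L} (h : π a = π b) : ∃ k, π k = 1 ∧ a = b * k :=
  ⟨b⁻¹ * a, by rw [map_mul, map_inv, h, inv_mul_cancel], by rw [mul_inv_cancel_left]⟩

/-- the commutator of two elements above commuting elements, raised to `n`, if `(π a) ^ n = 1` -/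
theorem comm_pow {π : L →* X} (hz : π.ker ≤ center L) {a b : L} (hab : π a * π b = π b * π a) {n : ℕ}
    (hn : (π a) ^ n = 1) : ⁅a, b⁆ ^ n = 1 := by
  have hc : π ⁅a, b⁆ = 1 := by
    rw [map_commutatorElement, commutatorElement_eq_one_iff_mul_comm]; exact hab
  have h1 : a * b * a⁻¹ = ⁅a, b⁆ * b := by rw [commutatorElement_def]; group
  have h2 : ∀ k : ℕ, a ^ k * b * (a ^ k)⁻¹ = ⁅a, b⁆ ^ k * b := by
    intro k
    induction k with
    | zero => simp
    | succ k ih =>
      have h3 : a ^ (k + 1) * b * (a ^ (k + 1))⁻¹ = a * (a ^ k * b * (a ^ k)⁻¹) * a⁻¹ := by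
        rw [pow_succ' a k]; group
      rw [h3, ih]
      have h4 : π (⁅a, b⁆ ^ k) = 1 := by rw [map_pow, hc, one_pow]
      have h5 := ker_comm hz h4 a
      calc a * (⁅a, b⁆ ^ k * b) * a⁻¹ = (a * ⁅a, b⁆ ^ k) * b * a⁻¹ := by group
        _ = ⁅a, b⁆ ^ k * (a * b * a⁻¹) := by rw [h5]; group
        _ = ⁅a, b⁆ ^ (k + 1) * b := by rw [h1, pow_succ]; group
  have h6 : π (a ^ n) = 1 := by rw [map_pow, hn]
  have h7 := h2 n
  have h8 := ker_comm hz h6 b
  rw [← h8, mul_inv_cancel_right] at h7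
  exact (mul_eq_right.1 h7.symm)

theorem eq_one_of_sq_of_odd {M : Type*} [Group M] {c : M} {n : ℕ} (hn : Odd n) (h2 : c * c = 1) (h : c ^ n = 1) :
    c = 1 := by
  obtain ⟨k, rfl⟩ := hn
  rw [pow_succ, pow_mul, pow_two, h2, one_pow, one_mul] at h
  exact h

/-- transfer: a homomorphism from a subgroup of finite index to an abelian group -/
theorem pow_mem_commutator [Finite L] (hL : commutator L = ⊤) (H : Subgroup L) {z : L} (hzH : z ∈ H)
    (hz : z ∈ center L) : z ^ H.index ∈ ⁅H, H⁆ := by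
  have h1 := map_pow_index_eq_one_of_perfect hL (Abelianization.of : H →* Abelianization H) ⟨z, hzH⟩ hz
  rw [← map_pow] at h1
  have h2 : (⟨z, hzH⟩ : H) ^ H.index ∈ commutator H := by
    rw [← Abelianization.ker_of]
    exact MonoidHom.mem_ker.2 h1
  have h3 := mem_map_of_mem H.subtype h2
  rw [map_subtype_commutator] at h3
  exact h3

/-- the subgroup above `⟨x, y⟩` -/
theorem mem_comap_closure {π : L →* X} {a b : L} {x y : X} (ha : π a = x) (hb : π b = y) {h : L}
    (hh : h ∈ (closure {x, y}).comap π) : ∃ g ∈ closure ({a, b} : Set L), ∃ k, π k = 1 ∧ h = g * k := by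
  have h1 : closure ({x, y} : Set X) = (closure ({a, b} : Set L)).map π := by
    rw [MonoidHom.map_closure]
    congr 1
    rw [Set.image_pair, ha, hb]
  rw [mem_comap, h1] at hh
  obtain ⟨g, hg, h2⟩ := hh
  obtain ⟨k, hk, rfl⟩ := exists_eq_mul h2.symm
  exact ⟨g, hg, k, hk, rfl⟩

/-- If the commutator of `a` and `b` is in the group `N` of elements commuting with `a`, `b`, the commutator group of
the preimage of `⟨x, y⟩` is in `N`. -/
theorem commutator_le {π : L →* X} (hz : π.ker ≤ center L) {a b : L} {x y : X} (ha : π a = x) (hb : π b = y)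
    {c : L} (hc : ⁅a, b⁆ = c) (hca : c * a = a * c) (hcb : c * b = b * c) :
    ⁅(closure {x, y}).comap π, (closure {x, y}).comap π⁆ ≤ zpowers c := by
  classical
  -- `c` commutes with the preimage
  have hcH : ∀ h ∈ (closure {x, y}).comap π, c * h = h * c := by
    intro h hh
    obtain ⟨g, hg, k, hk, rfl⟩ := mem_comap_closure ha hb hh
    have h1 : g ∈ centralizer ({c} : Set L) := by
      have h2 : closure ({a, b} : Set L) ≤ centralizer ({c} : Set L) := by
        rw [closure_le]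
        rintro w (rfl | hw)
        · exact mem_centralizer_singleton_iff.2 hca.symm
        · rw [Set.mem_singleton_iff.1 hw]
          exact mem_centralizer_singleton_iff.2 hcb.symm
      exact h2 hg
    have h3 := mem_centralizer_singleton_iff.1 h1
    have h4 := ker_comm hz hk c
    calc c * (g * k) = (c * g) * k := by group
      _ = g * (c * k) := by rw [← h3]; group
      _ = g * k * c := by rw [h4]; group
  -- for `g` in `⟨a, b⟩` : commutators with `a`
  let N : Subgroup L := zpowers c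
  have hN : ∀ n ∈ N, ∀ h ∈ (closure {x, y}).comap π, n * h = h * n := by
    rintro n ⟨k, rfl⟩ h hh
    have h1 : Commute c h := hcH h hh
    exact (h1.zpow_left k).eq
  have haH : a ∈ (closure {x, y}).comap π := by
    rw [mem_comap, ha]; exact subset_closure (by simp)
  have hbH : b ∈ (closure {x, y}).comap π := by
    rw [mem_comap, hb]; exact subset_closure (by simp)
  have hkH : ∀ k, π k = 1 → k ∈ (closure {x, y}).comap π := fun k hk => by
    rw [mem_comap, hk]; exact one_mem _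
  -- the centralizer of an element modulo `N`
  have key : ∀ u ∈ (closure {x, y}).comap π, ⁅a, u⁆ ∈ N → ⁅b, u⁆ ∈ N →
      ∀ g ∈ (closure {x, y}).comap π, ⁅g, u⁆ ∈ N := by
    intro u hu h1 h2
    have hmul : ∀ g ∈ (closure {x, y}).comap π, ∀ h ∈ (closure {x, y}).comap π, ⁅g, u⁆ ∈ N → ⁅h, u⁆ ∈ N →
        ⁅g * h, u⁆ ∈ N := by
      intro g hg h hh h3 h4
      have h5 : ⁅g * h, u⁆ = g * ⁅h, u⁆ * g⁻¹ * ⁅g, u⁆ := by
        simp only [commutatorElement_def]; group
      rw [h5, ← hN _ h4 g hg, mul_inv_cancel_right]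
      exact mul_mem h4 h3
    have hinv : ∀ g ∈ (closure {x, y}).comap π, ⁅g, u⁆ ∈ N → ⁅g⁻¹, u⁆ ∈ N := by
      intro g hg h3
      have h5 : ⁅g⁻¹, u⁆ = g⁻¹ * ⁅g, u⁆⁻¹ * g := by
        simp only [commutatorElement_def]; group
      rw [h5, ← hN _ (inv_mem h3) g⁻¹ (inv_mem hg), inv_mul_cancel_right]
      exact inv_mem h3
    intro g hg
    obtain ⟨g', hg', k, hk, rfl⟩ := mem_comap_closure ha hb hg
    have hcl : closure ({a, b} : Set L) ≤ (closure {x, y}).comap π := by
      rw [closure_le]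
      rintro w (rfl | hw)
      · exact haH
      · rw [Set.mem_singleton_iff.1 hw]; exact hbH
    have hku : ⁅k, u⁆ ∈ N := by
      have : ⁅k, u⁆ = 1 := by
        rw [commutatorElement_eq_one_iff_mul_comm]
        exact (ker_comm hz hk u).symm
      rw [this]; exact one_mem _
    refine hmul _ (hcl hg') _ (hkH k hk) ?_ hku
    refine closure_induction (p := fun g _ => ⁅g, u⁆ ∈ N) ?_ ?_ ?_ ?_ hg'
    · rintro w (rfl | hw)
      · exact h1
      · rw [Set.mem_singleton_iff.1 hw]; exact h2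
    · rw [commutatorElement_one_left]; exact one_mem _
    · intro g h hg hh h3 h4
      exact hmul g (hcl hg) h (hcl hh) h3 h4
    · intro g hg h3
      exact hinv g (hcl hg) h3
  have hsymm : ∀ g h : L, ⁅g, h⁆ ∈ N → ⁅h, g⁆ ∈ N := by
    intro g h h1
    rw [← commutatorElement_inv]; exact inv_mem h1
  have hab : ⁅a, b⁆ ∈ N := by rw [hc]; exact mem_zpowers c
  have haa : ∀ g : L, ⁅g, g⁆ ∈ N := fun g => by rw [commutatorElement_self]; exact one_mem _
  have hga : ∀ g ∈ (closure {x, y}).comap π, ⁅g, a⁆ ∈ N := key a haH (haa a) (hsymm _ _ hab)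
  have hgb : ∀ g ∈ (closure {x, y}).comap π, ⁅g, b⁆ ∈ N := key b hbH hab (haa b)
  rw [Subgroup.commutator_le]
  intro g hg h hh
  exact key h hh (hsymm _ _ (hga h hh)) (hsymm _ _ (hgb h hh)) g hg

/-- **commuting `x`, `y` : the power of a kernel element is a power of the commutator of lifts** -/
theorem exists_comm [Finite L] {π : L →* X} (hs : Function.Surjective π) (hz : π.ker ≤ center L)
    (hL : commutator L = ⊤) {x y : X} (hxy : x * y = y * x) {a b : L} (ha : π a = x) (hb : π b = y) {z : L}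
    (hz1 : π z = 1) : z ^ (closure {x, y}).index ∈ zpowers ⁅a, b⁆ := by
  have hc : π ⁅a, b⁆ = 1 := by
    rw [map_commutatorElement, commutatorElement_eq_one_iff_mul_comm, ha, hb]; exact hxy
  have h1 := pow_mem_commutator hL ((closure {x, y}).comap π) (z := z)
    (by rw [mem_comap, hz1]; exact one_mem _) (hz (MonoidHom.mem_ker.2 hz1))
  rw [index_comap_of_surjective _ hs] at h1
  exact commutator_le hz ha hb rfl (ker_comm hz hc a).symm (ker_comm hz hc b).symm h1

/-- If a power prime to `p` of every kernel element is trivial then `p` does not divide the order of the kernel. -/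
theorem not_dvd_of_pow [Finite L] {π : L →* X} {p n : ℕ} [Fact p.Prime] (hn : ¬ p ∣ n)
    (h : ∀ z : L, π z = 1 → z ^ n = 1) : ¬ p ∣ Nat.card π.ker := by
  intro hd
  obtain ⟨z, hz⟩ := exists_prime_orderOf_dvd_card' p hd
  have h1 : (z : L) ^ n = 1 := h z z.2
  have h2 := orderOf_dvd_of_pow_eq_one h1
  rw [Subgroup.orderOf_coe, hz] at h2
  exact hn h2

/-- **`⟨x, y⟩` abelian, `t` acting with determinant `-1`.** -/
theorem kill_comm [Finite L] {π : L →* X} (hs : Function.Surjective π) (hz : π.ker ≤ center L)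
    (hL : commutator L = ⊤) {p : ℕ} [Fact p.Prime] (hp : Odd p) {x y t : X} (hxy : x * y = y * x)
    (hx : x ^ p = 1) (htx : t * x = x * t) (hty : t * y = y⁻¹ * t)
    (hi : ¬ p ∣ (closure {x, y}).index) : ¬ p ∣ Nat.card π.ker := by
  obtain ⟨a, rfl⟩ := hs x
  obtain ⟨b, rfl⟩ := hs y
  obtain ⟨s, rfl⟩ := hs t
  have hc : π ⁅a, b⁆ = 1 := by
    rw [map_commutatorElement, commutatorElement_eq_one_iff_mul_comm]; exact hxy
  obtain ⟨u, hu, h1⟩ : ∃ u, π u = 1 ∧ s * a * s⁻¹ = a * u := by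
    apply exists_eq_mul
    rw [map_mul, map_mul, map_inv, htx, mul_inv_cancel_right]
  obtain ⟨w, hw, h2⟩ : ∃ w, π w = 1 ∧ s * b * s⁻¹ = b⁻¹ * w := by
    apply exists_eq_mul
    rw [map_mul, map_mul, map_inv, map_inv, hty, mul_inv_cancel_right]
  have h3 : s * ⁅a, b⁆ * s⁻¹ = ⁅a, b⁆ := by
    rw [ker_comm hz hc s, mul_inv_cancel_right]
  have h4 : s * ⁅a, b⁆ * s⁻¹ = ⁅a * u, b⁻¹ * w⁆ := by
    rw [← h1, ← h2]; simp only [commutatorElement_def]; group
  have h5 : ⁅a * u, b⁻¹ * w⁆ = ⁅a, b⁻¹⁆ := by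
    have hu' := ker_comm hz hu
    have hw' := ker_comm hz hw
    simp only [commutatorElement_def]
    calc a * u * (b⁻¹ * w) * (a * u)⁻¹ * (b⁻¹ * w)⁻¹
        = a * (u * (b⁻¹ * w)) * u⁻¹ * a⁻¹ * w⁻¹ * b := by group
      _ = a * (b⁻¹ * w) * a⁻¹ * w⁻¹ * b := by rw [← hu' (b⁻¹ * w)]; group
      _ = a * b⁻¹ * (w * a⁻¹) * w⁻¹ * b := by group
      _ = a * b⁻¹ * a⁻¹ * b⁻¹⁻¹ := by rw [← hw' a⁻¹]; group
  have h6 : ⁅a, b⁻¹⁆ = ⁅a, b⁆⁻¹ := by
    have h7 := ker_comm hz (by rw [map_inv, hc, inv_one] : π (⁅a, b⁆⁻¹) = 1) b⁻¹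
    calc ⁅a, b⁻¹⁆ = b⁻¹ * ⁅a, b⁆⁻¹ * b := by simp only [commutatorElement_def]; group
      _ = ⁅a, b⁆⁻¹ := by rw [h7]; group
  have h7 : ⁅a, b⁆ * ⁅a, b⁆ = 1 := by
    have : ⁅a, b⁆ = ⁅a, b⁆⁻¹ := by rw [← h6, ← h5, ← h4, h3]
    nth_rw 2 [this]
    exact mul_inv_cancel _
  have h8 : ⁅a, b⁆ = 1 := eq_one_of_sq_of_odd hp h7 (comm_pow hz hxy hx)
  refine not_dvd_of_pow hi fun z hz1 => ?_
  have h9 := exists_comm hs hz hL hxy rfl rfl hz1
  rw [h8, zpowers_one_eq_bot, mem_bot] at h9
  exact h9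

/-- **The `p`-part of the kernel is cyclic of order dividing `p`, if `⟨x, y⟩` is abelian of index prime to `p` and
`x ^ p = 1`.** -/
theorem bound_comm [Finite L] {π : L →* X} (hs : Function.Surjective π) (hz : π.ker ≤ center L)
    (hL : commutator L = ⊤) {p : ℕ} [Fact p.Prime] {x y : X} (hxy : x * y = y * x)
    (hx : x ^ p = 1) (hi : ¬ p ∣ (closure {x, y}).index) : ¬ p ^ 2 ∣ Nat.card π.ker := by
  intro hd
  obtain ⟨a, rfl⟩ := hs x
  obtain ⟨b, rfl⟩ := hs y
  have hc : ⁅a, b⁆ ^ p = 1 := comm_pow hz hxy hx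
  obtain ⟨P, hP⟩ := Sylow.exists_subgroup_card_pow_prime p hd
  let i := (closure {π a, π b}).index
  -- the map `z ↦ z ^ i` is injective on `P`
  have hcop : (Nat.card P).Coprime i := by
    rw [hP]
    exact Nat.Coprime.pow_left 2 ((Nat.Prime.coprime_iff_not_dvd Fact.out).2 hi)
  have hinj : Function.Injective (fun z : P => z ^ i) := by
    exact (powCoprime hcop).injective
  let f : P → zpowers ⁅a, b⁆ := fun z => ⟨(((z : π.ker) : L)) ^ i, exists_comm hs hz hL hxy rfl rfl
    (MonoidHom.mem_ker.1 (z : π.ker).2)⟩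
  have hf : Function.Injective f := by
    intro z w h
    apply hinj
    apply Subtype.ext
    apply Subtype.ext
    simpa [f] using congrArg Subtype.val h
  have h1 := Nat.card_le_card_of_injective f hf
  rw [hP, Nat.card_zpowers] at h1
  have h2 := Nat.le_of_dvd (Nat.Prime.pos Fact.out) (orderOf_dvd_of_pow_eq_one hc)
  have h3 : 1 < p := Nat.Prime.one_lt Fact.out
  have h4 : p ^ 2 = p * p := pow_two p
  nlinarith

/-- **`⟨x, y⟩` of class two, `t` inverts `x` and `y`.** -/
theorem kill_ext [Finite L] {π : L →* X} (hs : Function.Surjective π) (hz : π.ker ≤ center L)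
    (hL : commutator L = ⊤) {p : ℕ} [Fact p.Prime] (hp : Odd p) {x y t z : X} (hxy : x * y = z * y * x)
    (hzx : x * z = z * x) (hzy : y * z = z * y) (hx : x ^ p = 1) (hy : y ^ p = 1) (hz1 : z ≠ 1)
    (htx : t * x = x⁻¹ * t) (hty : t * y = y⁻¹ * t)
    (hi : ¬ p ∣ (closure {x, y}).index) : ¬ p ∣ Nat.card π.ker := by
  obtain ⟨a, rfl⟩ := hs x
  obtain ⟨b, rfl⟩ := hs y
  obtain ⟨s, rfl⟩ := hs t
  obtain ⟨d, hd⟩ : ∃ d, d = ⁅a, b⁆ := ⟨_, rfl⟩
  have hdz : π d = z := by
    rw [hd, map_commutatorElement, commutatorElement_def, hxy]; group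
  subst hdz
  -- `t` centralises `z`
  have ht : ∀ g : L, π g * π d = π d * π g → π (s * g * s⁻¹) = (π g)⁻¹ → ⁅g, d⁆ * ⁅g, d⁆ = 1 := by
    intro g hgd hg
    have hc : π ⁅g, d⁆ = 1 := by
      rw [map_commutatorElement, commutatorElement_eq_one_iff_mul_comm]; exact hgd
    -- `s d s⁻¹ = d k`
    have h1 : π (s * d * s⁻¹) = π d := by
      have h2 : s * d * s⁻¹ = ⁅s * a * s⁻¹, s * b * s⁻¹⁆ := by
        rw [hd]; simp only [commutatorElement_def]; group
      have h3 : π (s * a * s⁻¹) = (π a)⁻¹ := by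
        rw [map_mul, map_mul, map_inv, htx, mul_inv_cancel_right]
      have h4 : π (s * b * s⁻¹) = (π b)⁻¹ := by
        rw [map_mul, map_mul, map_inv, hty, mul_inv_cancel_right]
      rw [h2, map_commutatorElement, h3, h4]
      -- `[x⁻¹, y⁻¹] = z` as `z` is central
      have h5 : π a * π b * (π a)⁻¹ = π d * π b := by rw [hxy]; group
      have h6 : (π a)⁻¹ * (π b)⁻¹ * π a = π d * (π b)⁻¹ := by
        have h7 : (π a)⁻¹ * π b * π a = (π d)⁻¹ * π b := by
          have h8 : π b = (π a)⁻¹ * (π d * π b) * π a := by rw [← h5]; group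
          have h9 : (π a)⁻¹ * (π d * π b) * π a = π d * ((π a)⁻¹ * π b * π a) := by
            have h10 : (π a)⁻¹ * π d = π d * (π a)⁻¹ := by
              rw [inv_mul_eq_iff_eq_mul, ← mul_assoc, hzx, mul_inv_cancel_right]
            calc (π a)⁻¹ * (π d * π b) * π a = ((π a)⁻¹ * π d) * π b * π a := by group
              _ = _ := by rw [h10]; group
          rw [h9] at h8
          rw [eq_inv_mul_iff_mul_eq]
          exact h8.symm
        have h11 : (π a)⁻¹ * (π b)⁻¹ * π a = ((π a)⁻¹ * π b * π a)⁻¹ := by group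
        rw [h11, h7, mul_inv_rev, inv_inv]
        rw [inv_mul_eq_iff_eq_mul, ← mul_assoc, hzy, mul_inv_cancel_right]
      rw [commutatorElement_def, inv_inv, inv_inv, h6, inv_mul_cancel_right]
    obtain ⟨k, hk, h2⟩ := exists_eq_mul h1
    obtain ⟨l, hl, h3⟩ : ∃ l, π l = 1 ∧ s * g * s⁻¹ = g⁻¹ * l := by
      apply exists_eq_mul
      rw [hg, map_inv]
    have h4 : s * ⁅g, d⁆ * s⁻¹ = ⁅g, d⁆ := by
      rw [ker_comm hz hc s, mul_inv_cancel_right]
    have h5 : s * ⁅g, d⁆ * s⁻¹ = ⁅g⁻¹ * l, d * k⁆ := by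
      rw [← h3, ← h2]; simp only [commutatorElement_def]; group
    have h6 : ⁅g⁻¹ * l, d * k⁆ = ⁅g⁻¹, d⁆ := by
      have hl' := ker_comm hz hl
      have hk' := ker_comm hz hk
      simp only [commutatorElement_def]
      calc g⁻¹ * l * (d * k) * (g⁻¹ * l)⁻¹ * (d * k)⁻¹
          = g⁻¹ * (l * (d * k)) * l⁻¹ * g * k⁻¹ * d⁻¹ := by group
        _ = g⁻¹ * d * (k * g) * k⁻¹ * d⁻¹ := by rw [← hl' (d * k)]; group
        _ = g⁻¹ * d * g⁻¹⁻¹ * d⁻¹ := by rw [← hk' g]; group
    have h7 : ⁅g⁻¹, d⁆ = ⁅g, d⁆⁻¹ := by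
      have h8 := ker_comm hz (by rw [map_inv, hc, inv_one] : π (⁅g, d⁆⁻¹) = 1) g⁻¹
      calc ⁅g⁻¹, d⁆ = g⁻¹ * ⁅g, d⁆⁻¹ * g := by simp only [commutatorElement_def]; group
        _ = ⁅g, d⁆⁻¹ := by rw [h8]; group
    have h8 : ⁅g, d⁆ = ⁅g, d⁆⁻¹ := by rw [← h7, ← h6, ← h5, h4]
    nth_rw 2 [h8]
    exact mul_inv_cancel _
  have hda : ⁅a, d⁆ = 1 := by
    refine eq_one_of_sq_of_odd hp (ht a hzx ?_) (comm_pow hz hzx hx)
    rw [map_mul, map_mul, map_inv, htx, mul_inv_cancel_right]
  have hdb : ⁅b, d⁆ = 1 := by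
    refine eq_one_of_sq_of_odd hp (ht b hzy ?_) (comm_pow hz hzy hy)
    rw [map_mul, map_mul, map_inv, hty, mul_inv_cancel_right]
  rw [commutatorElement_eq_one_iff_mul_comm] at hda hdb
  -- `d ^ p = 1`
  have hdp : d ^ p = 1 := by
    have h1 : a * b * a⁻¹ = d * b := by rw [hd, commutatorElement_def]; group
    have h2 : ∀ k : ℕ, a ^ k * b * (a ^ k)⁻¹ = d ^ k * b := by
      intro k
      induction k with
      | zero => simp
      | succ k ih =>
        have h3 : a ^ (k + 1) * b * (a ^ (k + 1))⁻¹ = a * (a ^ k * b * (a ^ k)⁻¹) * a⁻¹ := by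
          rw [pow_succ' a k]; group
        have h4 : a * d ^ k = d ^ k * a := ((show Commute a d from hda).pow_right k).eq
        rw [h3, ih]
        calc a * (d ^ k * b) * a⁻¹ = (a * d ^ k) * b * a⁻¹ := by group
          _ = d ^ k * (a * b * a⁻¹) := by rw [h4]; group
          _ = d ^ (k + 1) * b := by rw [h1, pow_succ]; group
    have h6 : π (a ^ p) = 1 := by rw [map_pow, hx]
    have h7 := h2 p
    rw [← ker_comm hz h6 b, mul_inv_cancel_right] at h7
    exact (mul_eq_right.1 h7.symm)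
  refine not_dvd_of_pow hi fun w hw1 => ?_
  have h1 := pow_mem_commutator hL ((closure {π a, π b}).comap π) (z := w)
    (by rw [mem_comap, hw1]; exact one_mem _) (hz (MonoidHom.mem_ker.2 hw1))
  rw [index_comap_of_surjective _ hs] at h1
  obtain ⟨k, hk⟩ := mem_zpowers_iff.1 (commutator_le hz rfl rfl hd.symm hda.symm hdb.symm h1)
  have h2 : π d ^ k = 1 := by
    rw [← map_zpow, hk, map_pow, hw1, one_pow]
  have ho : orderOf (π d) = p := by
    refine orderOf_eq_prime ?_ hz1
    rw [← map_pow, hdp, map_one]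
  have h3 : (p : ℤ) ∣ k := by
    rw [← ho]; exact orderOf_dvd_iff_zpow_eq_one.2 h2
  obtain ⟨m, rfl⟩ := h3
  rw [← hk, zpow_mul, zpow_natCast, hdp, one_zpow]

/-- a `p`-group with `k + 1` members in a strictly increasing chain -/
theorem pow_succ_dvd_card [Finite X] {p : ℕ} [Fact p.Prime] {H K : Subgroup X} (hK : IsPGroup p K) {k : ℕ}
    (hH : p ^ k ∣ Nat.card H) (hlt : H < K) : p ^ (k + 1) ∣ Nat.card K := by
  obtain ⟨n, hn⟩ := IsPGroup.iff_card.1 hK
  obtain ⟨m, hm⟩ := IsPGroup.iff_card.1 (hK.to_le hlt.le)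
  have hp : 1 < p := Nat.Prime.one_lt Fact.out
  rw [hm] at hH
  have h1 : k ≤ m := (Nat.pow_dvd_pow_iff_le_right hp).1 hH
  have h2 : m < n := by
    have h3 : Nat.card H < Nat.card K := by
      refine lt_of_le_of_ne (Nat.le_of_dvd Nat.card_pos (card_dvd_of_le hlt.le)) ?_
      intro h
      exact hlt.ne (eq_of_le_of_card_ge hlt.le h.ge)
    rw [hn, hm] at h3
    exact (Nat.pow_lt_pow_iff_right hp).1 h3
  rw [hn]
  exact pow_dvd_pow p (by omega)

theorem isPGroup_zpowers {p : ℕ} [Fact p.Prime] {x : X} (hx : x ^ p = 1) : IsPGroup p (zpowers x) := by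
  rintro ⟨g, hg⟩
  obtain ⟨m, rfl⟩ := mem_zpowers_iff.1 hg
  refine ⟨1, Subtype.ext ?_⟩
  show (x ^ m) ^ (p ^ 1) = 1
  rw [pow_one, ← zpow_natCast, ← zpow_mul, mul_comm, zpow_mul, zpow_natCast, hx, one_zpow]

theorem closure_pair_eq_sup (x y : X) : closure ({x, y} : Set X) = zpowers y ⊔ zpowers x := by
  rw [zpowers_eq_closure, zpowers_eq_closure, ← Subgroup.closure_union]
  congr 1
  ext w
  simp

/-- the order of `⟨x, y⟩` is divisible by `p²` -/
theorem sq_dvd_card [Finite X] {p : ℕ} [Fact p.Prime] {x y : X} (hxy : x * y = y * x) (hx : x ^ p = 1)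
    (hy : y ^ p = 1) (hx1 : x ≠ 1) (hyx : y ∉ zpowers x) : p ^ 2 ∣ Nat.card (closure {x, y} : Subgroup X) := by
  have h0 : zpowers x < closure ({x, y} : Set X) := by
    refine lt_of_le_of_ne ?_ ?_
    · rw [zpowers_le]; exact subset_closure (by simp)
    · intro h
      apply hyx
      rw [h]
      exact subset_closure (by simp)
  have h1 : IsPGroup p (closure ({x, y} : Set X)) := by
    rw [closure_pair_eq_sup]
    refine (isPGroup_zpowers hy).to_sup_of_normal_right' (isPGroup_zpowers hx) ?_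
    rw [zpowers_le]
    apply mem_normalizer_fintype
    rintro _ ⟨k, rfl⟩
    have : Commute y (x ^ k) := (show Commute x y from hxy).symm.zpow_right k
    rw [this.eq, mul_inv_cancel_right]
    exact ⟨k, rfl⟩
  refine pow_succ_dvd_card h1 (k := 1) ?_ h0
  rw [pow_one, Nat.card_zpowers, orderOf_eq_prime hx hx1]

/-- the order of `⟨x, y⟩` is divisible by `p³` -/
theorem cube_dvd_card [Finite X] {p : ℕ} [Fact p.Prime] {x y z : X} (hxy : x * y = z * y * x)
    (hzx : x * z = z * x) (hzy : y * z = z * y) (hx : x ^ p = 1) (hy : y ^ p = 1) (hz : z ^ p = 1) (hz1 : z ≠ 1)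
    (hxz : x ∉ zpowers z) : p ^ 3 ∣ Nat.card (closure {x, y} : Subgroup X) := by
  have hzc : z ∈ closure ({x, y} : Set X) := by
    have h1 : x ∈ closure ({x, y} : Set X) := subset_closure (by simp)
    have h2 : y ∈ closure ({x, y} : Set X) := subset_closure (by simp)
    have h3 : z = x * y * x⁻¹ * y⁻¹ := by rw [hxy]; group
    rw [h3]
    exact mul_mem (mul_mem (mul_mem h1 h2) (inv_mem h1)) (inv_mem h2)
  have hsq := sq_dvd_card hzx.symm hz hx hz1 hxz
  have hle : closure ({z, x} : Set X) ≤ closure ({x, y} : Set X) := by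
    rw [closure_le]
    rintro w (rfl | hw)
    · exact hzc
    · rw [Set.mem_singleton_iff.1 hw]; exact subset_closure (by simp)
  have hlt : closure ({z, x} : Set X) < closure ({x, y} : Set X) := by
    refine lt_of_le_of_ne hle ?_
    intro h
    have h2 : y ∈ closure ({z, x} : Set X) := by rw [h]; exact subset_closure (by simp)
    have h3 : closure ({z, x} : Set X) ≤ centralizer ({x} : Set X) := by
      rw [closure_le]
      rintro w (rfl | hw)
      · exact mem_centralizer_singleton_iff.2 hzx.symm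
      · rw [Set.mem_singleton_iff.1 hw]; exact mem_centralizer_singleton_iff.2 rfl
    have h4 := mem_centralizer_singleton_iff.1 (h3 h2)
    apply hz1
    rw [← h4, mul_assoc] at hxy
    exact (mul_eq_right.1 hxy.symm)
  refine pow_succ_dvd_card ?_ hsq hlt
  -- a `p`-group
  have h5 : closure ({x, y} : Set X) = zpowers y ⊔ closure {z, x} := by
    apply le_antisymm
    · rw [closure_le]
      rintro w (rfl | hw)
      · exact mem_sup_right (subset_closure (by simp))
      · rw [Set.mem_singleton_iff.1 hw]; exact mem_sup_left (mem_zpowers y)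
    · refine sup_le ?_ hle
      rw [zpowers_le]; exact subset_closure (by simp)
  have h6 : IsPGroup p (closure ({z, x} : Set X)) := by
    rw [closure_pair_eq_sup]
    refine (isPGroup_zpowers hx).to_sup_of_normal_right' (isPGroup_zpowers hz) ?_
    rw [zpowers_le]
    apply mem_normalizer_fintype
    rintro _ ⟨k, rfl⟩
    have : Commute x (z ^ k) := (show Commute x z from hzx).zpow_right k
    rw [this.eq, mul_inv_cancel_right]
    exact ⟨k, rfl⟩
  rw [h5]
  refine (isPGroup_zpowers hy).to_sup_of_normal_right' h6 ?_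
  rw [zpowers_le]
  apply mem_normalizer_fintype
  intro w hw
  have h7 : (closure ({z, x} : Set X)).map (MulAut.conj y).toMonoidHom ≤ closure ({z, x} : Set X) := by
    rw [MonoidHom.map_closure, closure_le]
    rintro _ ⟨v, (rfl | hv), rfl⟩
    · show y * v * y⁻¹ ∈ _
      rw [hzy, mul_inv_cancel_right]
      exact subset_closure (by simp)
    · rw [Set.mem_singleton_iff.1 hv]
      show y * x * y⁻¹ ∈ _
      have h8 : y * x * y⁻¹ = z⁻¹ * x := by
        rw [mul_inv_eq_iff_eq_mul, mul_assoc, hxy]; group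
      rw [h8]
      exact mul_mem (inv_mem (subset_closure (by simp))) (subset_closure (by simp))
  exact h7 (mem_map_of_mem _ hw)

/-- the index of `H` is prime to `p`, if `|X| = p ^ k * m`, `p ∤ m`, and `p ^ k` divides `|H|` -/
theorem not_dvd_index [Finite X] {p k m : ℕ} [Fact p.Prime] (hX : Nat.card X = p ^ k * m) (hm : ¬ p ∣ m)
    {H : Subgroup X} (hH : p ^ k ∣ Nat.card H) : ¬ p ∣ H.index := by
  obtain ⟨l, hl⟩ := hH
  intro hd
  have h1 := H.card_mul_index
  rw [hX, hl, mul_assoc] at h1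
  have h2 := Nat.eq_of_mul_eq_mul_left (pow_pos (Nat.Prime.pos Fact.out) k) h1
  exact hm (h2 ▸ (hd.mul_left l))

/-- **`kill_comm` with the order of `X`**; `t` centralises `x` and inverts `y`. -/
theorem kill_comm' [Finite X] [Finite L] {π : L →* X} (hs : Function.Surjective π) (hz : π.ker ≤ center L)
    (hL : commutator L = ⊤) {p m : ℕ} [Fact p.Prime] (hp : Odd p) (hX : Nat.card X = p ^ 2 * m) (hm : ¬ p ∣ m)
    {x y t : X} (hxy : x * y = y * x)
    (hx : x ^ p = 1) (hy : y ^ p = 1) (hx1 : x ≠ 1) (hy1 : y ≠ 1) (htx : t * x = x * t) (hty : t * y = y⁻¹ * t) :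
    ¬ p ∣ Nat.card π.ker := by
  refine kill_comm hs hz hL hp hxy hx htx hty (not_dvd_index hX hm (sq_dvd_card hxy hx hy hx1 ?_))
  rintro ⟨k, rfl⟩
  have h1 : t * x ^ k = x ^ k * t := ((show Commute t x from htx).zpow_right k).eq
  simp only at hty h1 hy1 hy
  rw [h1] at hty
  have h2 := mul_right_cancel hty
  have h3 : x ^ k * x ^ k = 1 := by
    nth_rw 2 [h2]
    exact mul_inv_cancel _
  exact hy1 (eq_one_of_sq_of_odd hp h3 hy)

/-- **`bound_comm` with the order of `X`**. -/
theorem bound_comm' [Finite X] [Finite L] {π : L →* X} (hs : Function.Surjective π) (hz : π.ker ≤ center L)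
    (hL : commutator L = ⊤) {p m : ℕ} [Fact p.Prime] (hX : Nat.card X = p ^ 2 * m) (hm : ¬ p ∣ m)
    {x y : X} (hxy : x * y = y * x) (hx : x ^ p = 1) (hy : y ^ p = 1) (hx1 : x ≠ 1) (hyx : y ∉ zpowers x) :
    ¬ p ^ 2 ∣ Nat.card π.ker :=
  bound_comm hs hz hL hxy hx (not_dvd_index hX hm (sq_dvd_card hxy hx hy hx1 hyx))

/-- **`kill_ext` with the order of `X`**. -/
theorem kill_ext' [Finite X] [Finite L] {π : L →* X} (hs : Function.Surjective π) (hz : π.ker ≤ center L)
    (hL : commutator L = ⊤) {p m : ℕ} [Fact p.Prime] (hp : Odd p) (hX : Nat.card X = p ^ 3 * m) (hm : ¬ p ∣ m)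
    {x y t z : X} (hxy : x * y = z * y * x)
    (hzx : x * z = z * x) (hzy : y * z = z * y) (hx : x ^ p = 1) (hy : y ^ p = 1) (hzp : z ^ p = 1) (hz1 : z ≠ 1)
    (htx : t * x = x⁻¹ * t) (hty : t * y = y⁻¹ * t) : ¬ p ∣ Nat.card π.ker := by
  refine kill_ext hs hz hL hp hxy hzx hzy hx hy hz1 htx hty
    (not_dvd_index hX hm (cube_dvd_card hxy hzx hzy hx hy hzp hz1 ?_))
  rintro ⟨k, rfl⟩
  simp only at hxy
  have h1 : z ^ k * y = y * z ^ k := ((show Commute z y from hzy.symm).zpow_left k).eq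
  rw [h1, mul_assoc] at hxy
  exact hz1 (mul_eq_right.1 hxy.symm)

/-- **`p` divides `|X|` at most once.** -/
theorem kill_prime [Finite X] [Finite L] {π : L →* X} (hs : Function.Surjective π) (hz : π.ker ≤ center L)
    (hL : commutator L = ⊤) {p : ℕ} [Fact p.Prime] (hX : ¬ p ^ 2 ∣ Nat.card X) : ¬ p ∣ Nat.card π.ker := by
  by_cases hd : p ∣ Nat.card X
  · obtain ⟨x, hx⟩ := exists_prime_orderOf_dvd_card' p hd
    have hx' : x ^ p = 1 := by rw [← hx]; exact pow_orderOf_eq_one x
    obtain ⟨m, hm⟩ := hd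
    have hm' : ¬ p ∣ m := by
      rintro ⟨k, rfl⟩
      exact hX ⟨k, by rw [hm]; ring⟩
    have hi : ¬ p ∣ (closure {x, x}).index := by
      refine not_dvd_index (k := 1) (by rw [hm, pow_one]) hm' ?_
      rw [Set.pair_eq_singleton, ← zpowers_eq_closure, Nat.card_zpowers, hx, pow_one]
    refine not_dvd_of_pow hi fun z hz1 => ?_
    obtain ⟨a, ha⟩ := hs x
    have h9 := exists_comm hs hz hL (x := x) (y := x) rfl ha ha hz1
    rw [commutatorElement_self, zpowers_one_eq_bot, mem_bot] at h9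
    exact h9
  · refine not_dvd_of_pow (n := (closure {(1 : X), 1}).index) ?_ fun z hz1 => ?_
    · rw [Set.pair_eq_singleton, closure_singleton_one, index_bot]
      exact hd
    · have h9 := exists_comm hs hz hL (x := (1 : X)) (y := 1) rfl (map_one π) (map_one π) hz1
      rw [commutatorElement_self, zpowers_one_eq_bot, mem_bot] at h9
      exact h9

end Cfsg.Agent.H47.Kill
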