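import Cfsg.Agent.SporadicStructure.M24El
import Cfsg.Prelude.Def_Spor_Mathieu
import Cfsg.Agent.H51.Mult
import Cfsg.Agent.H47.Kill

/-!
# The 3-parts of the multipliers of the subgroups `M11`, `M12`, `M22`, `M23` of `M24` (helper47)

Packed elements (see `SporadicStructure.M24El`): `three_M11`, `three_M12`, `three_M22`, `three_M23` from the order of
the group.
-/

set_option autoImplicit false

namespace Cfsg.Agent.H47.Three

open Cfsg Cfsg.Agent.SporadicA.GolayBase Cfsg.Agent.SporadicA.GolayPerm
open Cfsg.Agent.SporadicStructure.M24El Cfsg.Agent.H51.Mult Cfsg.Agent.H47.Kill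
open scoped Pointwise commutatorElement

/-- a finite simple group whose order is not a prime is perfect -/
theorem perfect_of_simple {G : Type*} [Group G] [Finite G] (hs : IsSimpleGroup G) (hp : ¬ (Nat.card G).Prime) :
    commutator G = ⊤ := by
  refine (Subgroup.Normal.eq_bot_or_eq_top (inferInstance : (commutator G).Normal)).resolve_left ?_
  intro h
  apply hp
  let _ : CommGroup G := { (inferInstance : Group G) with
    mul_comm := fun a b => by
      have h1 : ⁅a, b⁆ ∈ commutator G := by
        rw [commutator_def]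
        exact Subgroup.commutator_mem_commutator (Subgroup.mem_top a) (Subgroup.mem_top b)
      rw [h, Subgroup.mem_bot, commutatorElement_eq_one_iff_mul_comm] at h1
      exact h1 }
  exact IsSimpleGroup.prime_card

/-- `p² ∤ 2 ^ a * (3 ^ b * m)`, `p ≠ 2, 3`, `m` squarefree -/
theorem not_sq_dvd {p N a b m : ℕ} (hp : p.Prime) (h2 : p ≠ 2) (h3 : p ≠ 3) (hN : N = 2 ^ a * (3 ^ b * m))
    (hm : Squarefree m) : ¬ p ^ 2 ∣ N := by
  intro h4
  rw [hN] at h4
  have c2 : Nat.Coprime (p ^ 2) (2 ^ a) := Nat.Coprime.pow _ _ ((Nat.coprime_primes hp Nat.prime_two).2 h2)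
  have c3 : Nat.Coprime (p ^ 2) (3 ^ b) := Nat.Coprime.pow _ _ ((Nat.coprime_primes hp Nat.prime_three).2 h3)
  have h6 := c3.dvd_of_dvd_mul_left (c2.dvd_of_dvd_mul_left h4)
  rw [pow_two] at h6
  exact hp.not_isUnit (hm p h6)

/-! ### elements -/

theorem el_mul_eq {P Q R S : ℕ} (hP : ok P = true) (hQ : ok Q = true) (hR : ok R = true) (hS : ok S = true)
    (h : pcomp P Q = pcomp R S) : el P * el Q = el R * el S := by
  rw [← el_pcomp hP hQ, ← el_pcomp hR hS, h]

theorem el_cube {P : ℕ} (hP : ok P = true) (h : pcomp P (pcomp P P) = idP) : el P ^ 3 = 1 := by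
  rw [pow_succ', pow_two, ← el_pcomp hP hP, ← el_pcomp hP (ok_pcomp hP hP), h, el_idP]

theorem el_ne_one {P : ℕ} (hP : ok P = true) {i : ℕ} (hi : i < 24) (h : papp P i ≠ i) : el P ≠ 1 := by
  intro h1
  have h2 := idx_el_smul hP (pt i)
  rw [h1, one_smul, idx_pt hi] at h2
  exact h h2.symm

/-- `t x = x⁻¹ t` from `t x = x² t`, `x³ = 1` -/
theorem el_inv {T P : ℕ} (hT : ok T = true) (hP : ok P = true) (h3 : pcomp P (pcomp P P) = idP)
    (h : pcomp T P = pcomp (pcomp P P) T) : el T * el P = (el P)⁻¹ * el T := by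
  have h1 : (el P)⁻¹ = el P * el P := by
    rw [inv_eq_iff_mul_eq_one, ← el_pcomp hP hP, ← el_pcomp hP (ok_pcomp hP hP), h3, el_idP]
  rw [h1, ← el_pcomp hP hP, ← el_pcomp (ok_pcomp hP hP) hT, ← el_pcomp hT hP, h]

section sub

variable {K : Subgroup (Equiv.Perm GolayPt)}

/-- the element of the subgroup -/
noncomputable def mk (P : ℕ) (h : (el P : Equiv.Perm GolayPt) ∈ K) : K := ⟨el P, h⟩

theorem ext_of {x y : K} {a b : M24} (hx : (x : Equiv.Perm GolayPt) = a) (hy : (y : Equiv.Perm GolayPt) = b)
    (h : a = b) : x = y := Subtype.ext (by rw [hx, hy, h])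

/-- elements `x`, `y`, `t` in `K`: `x y = y x`, `x³ = y³ = 1`, `t x = x t`, `t y = y⁻¹ t` -/
theorem kill3 [Finite K] {m : ℕ} (hK : Nat.card K = 3 ^ 2 * m) (hm : ¬ 3 ∣ m) {X Y T : ℕ}
    (hX : (el X : Equiv.Perm GolayPt) ∈ K) (hY : (el Y : Equiv.Perm GolayPt) ∈ K)
    (hT : (el T : Equiv.Perm GolayPt) ∈ K) (hXY : el X * el Y = el Y * el X) (hX3 : el X ^ 3 = 1)
    (hY3 : el Y ^ 3 = 1) (hX1 : el X ≠ 1) (hY1 : el Y ≠ 1) (hTX : el T * el X = el X * el T)
    (hTY : el T * el Y = (el Y)⁻¹ * el T) : NoCov 3 K := by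
  intro L _ _ π h hc
  have : Fact (Nat.Prime 3) := ⟨Nat.prime_three⟩
  refine kill_comm' h.surj h.cen h.perf (by decide) hK hm (x := mk X hX) (y := mk Y hY) (t := mk T hT) ?_ ?_ ?_ ?_ ?_
    ?_ ?_ (by rw [hc])
  · exact Subtype.ext (congrArg (Subtype.val : M24 → Equiv.Perm GolayPt) hXY)
  · exact Subtype.ext (congrArg (Subtype.val : M24 → Equiv.Perm GolayPt) hX3)
  · exact Subtype.ext (congrArg (Subtype.val : M24 → Equiv.Perm GolayPt) hY3)
  · intro h1; exact hX1 (Subtype.ext (congrArg (Subtype.val : K → Equiv.Perm GolayPt) h1))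
  · intro h1; exact hY1 (Subtype.ext (congrArg (Subtype.val : K → Equiv.Perm GolayPt) h1))
  · exact Subtype.ext (congrArg (Subtype.val : M24 → Equiv.Perm GolayPt) hTX)
  · exact Subtype.ext (congrArg (Subtype.val : M24 → Equiv.Perm GolayPt) hTY)

/-- elements `x`, `y`, `z`, `t` in `K`: `x y = z y x`, `z` central, `t` inverts `x`, `y` -/
theorem killE [Finite K] {m : ℕ} (hK : Nat.card K = 3 ^ 3 * m) (hm : ¬ 3 ∣ m) {X Y Z T : ℕ}
    (hX : (el X : Equiv.Perm GolayPt) ∈ K) (hY : (el Y : Equiv.Perm GolayPt) ∈ K)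
    (hZ : (el Z : Equiv.Perm GolayPt) ∈ K)
    (hT : (el T : Equiv.Perm GolayPt) ∈ K) (hXY : el X * el Y = el Z * el Y * el X)
    (hXZ : el X * el Z = el Z * el X) (hYZ : el Y * el Z = el Z * el Y) (hX3 : el X ^ 3 = 1)
    (hY3 : el Y ^ 3 = 1) (hZ3 : el Z ^ 3 = 1) (hZ1 : el Z ≠ 1) (hTX : el T * el X = (el X)⁻¹ * el T)
    (hTY : el T * el Y = (el Y)⁻¹ * el T) : NoCov 3 K := by
  intro L _ _ π h hc
  have : Fact (Nat.Prime 3) := ⟨Nat.prime_three⟩
  refine kill_ext' h.surj h.cen h.perf (by decide) hK hm (x := mk X hX) (y := mk Y hY) (t := mk T hT) (z := mk Z hZ)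
    ?_ ?_ ?_ ?_ ?_ ?_ ?_ ?_ ?_ (by rw [hc])
  · exact Subtype.ext (congrArg (Subtype.val : M24 → Equiv.Perm GolayPt) hXY)
  · exact Subtype.ext (congrArg (Subtype.val : M24 → Equiv.Perm GolayPt) hXZ)
  · exact Subtype.ext (congrArg (Subtype.val : M24 → Equiv.Perm GolayPt) hYZ)
  · exact Subtype.ext (congrArg (Subtype.val : M24 → Equiv.Perm GolayPt) hX3)
  · exact Subtype.ext (congrArg (Subtype.val : M24 → Equiv.Perm GolayPt) hY3)
  · exact Subtype.ext (congrArg (Subtype.val : M24 → Equiv.Perm GolayPt) hZ3)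
  · intro h1; exact hZ1 (Subtype.ext (congrArg (Subtype.val : K → Equiv.Perm GolayPt) h1))
  · exact Subtype.ext (congrArg (Subtype.val : M24 → Equiv.Perm GolayPt) hTX)
  · exact Subtype.ext (congrArg (Subtype.val : M24 → Equiv.Perm GolayPt) hTY)

end sub

/-! ### `M11 ≤ M23`, `M12` -/

/-- packed elements preserving the dodecad of squares and fixing the point 0 -/
def PX : ℕ := 965096119284569887558704105181848672
def PY : ℕ := 444572319133977448504083841375357312
def PT : ℕ := 818496306144062415656110241739771264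

/-- the mask of the dodecad of squares -/
def dm : ℕ := 340831

theorem ddm_eq : Spor.squareDodecad = fin dm := by
  unfold Spor.squareDodecad
  ext p
  rw [mem_fin]
  revert p
  decide +kernel

/-- the elements of `M12` -/
theorem mem_M12 {P : ℕ} (h : ok P = true) (hd : pimg P dm = dm) : (el P : Equiv.Perm GolayPt) ∈ Spor.M12 := by
  refine Subgroup.mem_inf.2 ⟨(el P).2, ?_⟩
  rw [MulAction.mem_stabilizer_iff, ddm_eq, ← coe_smul_finset, el_smul_fin h, hd]

theorem fix_pt {P i : ℕ} (h : ok P = true) (hi : i < 24) (h0 : papp P i = i) :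
    (el P : Equiv.Perm GolayPt) ∈ MulAction.stabilizer (Equiv.Perm GolayPt) (pt i) := by
  rw [MulAction.mem_stabilizer_iff]
  have h1 := el_smul_pt h (pt i)
  rw [idx_pt hi, h0] at h1
  exact h1

theorem pt_zero : pt 0 = some 0 := by decide
theorem pt_inf : pt 23 = none := by decide

theorem mem_M11 {P : ℕ} (h : ok P = true) (hd : pimg P dm = dm) (h0 : papp P 0 = 0) :
    (el P : Equiv.Perm GolayPt) ∈ Spor.M11 := by
  refine Subgroup.mem_inf.2 ⟨mem_M12 h hd, ?_⟩
  rw [← pt_zero]
  exact fix_pt h (by norm_num) h0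

theorem mem_M23 {P : ℕ} (h : ok P = true) (h0 : papp P 23 = 23) :
    (el P : Equiv.Perm GolayPt) ∈ Spor.M23 := by
  refine Subgroup.mem_inf.2 ⟨(el P).2, ?_⟩
  rw [← pt_inf]
  exact fix_pt h (by norm_num) h0

theorem mem_M22 {P : ℕ} (h : ok P = true) (h1 : papp P 23 = 23) (h0 : papp P 0 = 0) :
    (el P : Equiv.Perm GolayPt) ∈ Spor.M22 := by
  refine Subgroup.mem_inf.2 ⟨mem_M23 h h1, ?_⟩
  rw [← pt_zero]
  exact fix_pt h (by norm_num) h0

theorem okX : ok PX = true := by decide +kernel
theorem okY : ok PY = true := by decide +kernel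
theorem okT : ok PT = true := by decide +kernel

theorem relXY : el PX * el PY = el PY * el PX := el_mul_eq okX okY okY okX (by decide +kernel)
theorem relX : el PX ^ 3 = 1 := el_cube okX (by decide +kernel)
theorem relY : el PY ^ 3 = 1 := el_cube okY (by decide +kernel)
theorem X_ne : el PX ≠ 1 := el_ne_one okX (i := 1) (by norm_num) (by decide +kernel)
theorem Y_ne : el PY ≠ 1 := el_ne_one okY (i := 1) (by norm_num) (by decide +kernel)
theorem relTX : el PT * el PX = el PX * el PT := el_mul_eq okT okX okX okT (by decide +kernel)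
theorem relTY : el PT * el PY = (el PY)⁻¹ * el PT := el_inv okT okY (by decide +kernel) (by decide +kernel)

theorem three_M11 (hc : Nat.card Spor.M11 = 7920) : NoCov 3 Spor.M11 := by
  have : Finite Spor.M11 := Nat.finite_of_card_ne_zero (by rw [hc]; norm_num)
  exact kill3 (m := 880) (by rw [hc]; norm_num) (by norm_num)
    (mem_M11 okX (by decide +kernel) (by decide +kernel))
    (mem_M11 okY (by decide +kernel) (by decide +kernel)) (mem_M11 okT (by decide +kernel) (by decide +kernel))
    relXY relX relY X_ne Y_ne relTX relTY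

/-! ### `M23` -/

/-- packed elements fixing the point 23 -/
def QX : ℕ := 975326059238986764913914159527178656
def QY : ℕ := 983073944531344625729927263654326320
def QT : ℕ := 983559487296617400067232961491388454

theorem okQX : ok QX = true := by decide +kernel
theorem okQY : ok QY = true := by decide +kernel
theorem okQT : ok QT = true := by decide +kernel

theorem three_M23 (hc : Nat.card Spor.M23 = 10200960) : NoCov 3 Spor.M23 := by
  have : Finite Spor.M23 := Nat.finite_of_card_ne_zero (by rw [hc]; norm_num)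
  exact kill3 (m := 1133440) (X := QX) (Y := QY) (T := QT) (by rw [hc]; norm_num) (by norm_num)
    (mem_M23 okQX (by decide +kernel)) (mem_M23 okQY (by decide +kernel)) (mem_M23 okQT (by decide +kernel))
    (el_mul_eq okQX okQY okQY okQX (by decide +kernel)) (el_cube okQX (by decide +kernel))
    (el_cube okQY (by decide +kernel)) (el_ne_one okQX (i := 1) (by norm_num) (by decide +kernel))
    (el_ne_one okQY (i := 0) (by norm_num) (by decide +kernel))
    (el_mul_eq okQT okQX okQX okQT (by decide +kernel))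
    (el_inv okQT okQY (by decide +kernel) (by decide +kernel))

/-! ### `M12` -/

def RX : ℕ := 726522646669442125173340962317186182
def RY : ℕ := 938798860950946449681192312280041666
def RZ : ℕ := 938980154730759962661046479489177857
def RT : ℕ := 318946398034154727092944143496022546

theorem okRX : ok RX = true := by decide +kernel
theorem okRY : ok RY = true := by decide +kernel
theorem okRZ : ok RZ = true := by decide +kernel
theorem okRT : ok RT = true := by decide +kernel

theorem three_M12 (hc : Nat.card Spor.M12 = 95040) : NoCov 3 Spor.M12 := by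
  have : Finite Spor.M12 := Nat.finite_of_card_ne_zero (by rw [hc]; norm_num)
  exact killE (m := 3520) (X := RX) (Y := RY) (Z := RZ) (T := RT) (by rw [hc]; norm_num) (by norm_num)
    (mem_M12 okRX (by decide +kernel)) (mem_M12 okRY (by decide +kernel)) (mem_M12 okRZ (by decide +kernel))
    (mem_M12 okRT (by decide +kernel))
    (by rw [mul_assoc, ← el_pcomp okRX okRY, ← el_pcomp okRY okRX, ← el_pcomp okRZ (ok_pcomp okRY okRX)]
        exact congrArg el (by decide +kernel))
    (el_mul_eq okRX okRZ okRZ okRX (by decide +kernel)) (el_mul_eq okRY okRZ okRZ okRY (by decide +kernel))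
    (el_cube okRX (by decide +kernel)) (el_cube okRY (by decide +kernel)) (el_cube okRZ (by decide +kernel))
    (el_ne_one okRZ (i := 0) (by norm_num) (by decide +kernel))
    (el_inv okRT okRX (by decide +kernel) (by decide +kernel))
    (el_inv okRT okRY (by decide +kernel) (by decide +kernel))

/-! ### `M22` -/

/-- packed elements fixing the points 23 and 0 -/
def SX : ℕ := 965850374839488097915705104594481280
def SY : ℕ := 982213922940824177498661776902425152

theorem okSX : ok SX = true := by decide +kernel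
theorem okSY : ok SY = true := by decide +kernel

/-- `y` is not in `⟨x⟩` -/
theorem notMem_of {K : Subgroup (Equiv.Perm GolayPt)} {X Y : ℕ} (okX : ok X = true) (okY : ok Y = true)
    (hX : (el X : Equiv.Perm GolayPt) ∈ K) (hY : (el Y : Equiv.Perm GolayPt) ∈ K) {i : ℕ} (hi : i < 24)
    (hx : papp X i = i) (hy : papp Y i ≠ i) : mk Y hY ∉ Subgroup.zpowers (mk X hX) := by
  rintro ⟨k, hk⟩
  have h1 : (el X : Equiv.Perm GolayPt) ∈ MulAction.stabilizer (Equiv.Perm GolayPt) (pt i) := fix_pt okX hi hx
  have h2 : (el Y : Equiv.Perm GolayPt) ∈ MulAction.stabilizer (Equiv.Perm GolayPt) (pt i) := by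
    have h3 : (el Y : Equiv.Perm GolayPt) = (el X : Equiv.Perm GolayPt) ^ k :=
      (congrArg (Subtype.val : K → Equiv.Perm GolayPt) hk).symm
    rw [h3]
    exact zpow_mem h1 k
  rw [MulAction.mem_stabilizer_iff] at h2
  have h4 := idx_el_smul okY (pt i)
  rw [idx_pt hi] at h4
  exact hy (h4.symm.trans ((congrArg idx h2).trans (idx_pt hi)))

/-- the 3-part of the multiplier of `M22` is cyclic of order at most 3 -/
theorem three_M22 (hc : Nat.card Spor.M22 = 443520) : Bd 3 1 Spor.M22 := by
  have : Finite Spor.M22 := Nat.finite_of_card_ne_zero (by rw [hc]; norm_num)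
  apply bd_one Nat.prime_three
  intro L _ _ π h h9
  have : Fact (Nat.Prime 3) := ⟨Nat.prime_three⟩
  have hX := mem_M22 okSX (by decide +kernel) (by decide +kernel)
  have hY := mem_M22 okSY (by decide +kernel) (by decide +kernel)
  refine bound_comm' h.surj h.cen h.perf (p := 3) (m := 49280) (by rw [hc]; norm_num) (by norm_num)
    (x := mk SX hX) (y := mk SY hY) ?_ ?_ ?_ ?_ ?_ (by rw [h9])
  · exact Subtype.ext (congrArg (Subtype.val : M24 → Equiv.Perm GolayPt)
      (el_mul_eq okSX okSY okSY okSX (by decide +kernel)))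
  · exact Subtype.ext (congrArg (Subtype.val : M24 → Equiv.Perm GolayPt) (el_cube okSX (by decide +kernel)))
  · exact Subtype.ext (congrArg (Subtype.val : M24 → Equiv.Perm GolayPt) (el_cube okSY (by decide +kernel)))
  · intro h1
    exact el_ne_one okSX (i := 1) (by norm_num) (by decide +kernel)
      (Subtype.ext (congrArg (Subtype.val : Spor.M22 → Equiv.Perm GolayPt) h1))
  · exact notMem_of okSX okSY hX hY (i := 3) (by norm_num) (by decide +kernel) (by decide +kernel)

end Cfsg.Agent.H47.Three
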