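import Cfsg.Agent.KFacts.MulSpor.HN
import Cfsg.Agent.H51.Tools

/-!
# Odd covers of the Harada–Norton group (helper47)

`noCov` : if the Higman–Sims group `Q` (even automorphisms of the graph) has no perfect `p`-fold cover, `p` an odd prime,
then `HN` has none. Let `π : L → HN` be a cover with kernel of order `p`; `D = [P, P]`, `P = π⁻¹(2.HS)`, meets the
kernel trivially; `Z` = the lift of order two of `z`; the relations of `⟨x, y, z⟩ = 2.HS.2` hold in `D⟨Z⟩`. `T` = the
lift of `t` inverted by `X²`: all relators of `HN` with `T` have defects inverted by `X²` or of order dividing 5 and 6.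
-/

set_option autoImplicit false
set_option linter.style.haveILetI false
set_option linter.unusedSectionVars false

namespace Cfsg.Agent.H47.HNOdd

open Subgroup Cfsg.Agent.H51.Mult Cfsg.Agent.H51.Tools
open Cfsg.Agent.HN Cfsg.Agent.HN.Pres Cfsg.Agent.HN.HS100 Cfsg.Agent.HN.P1408 Cfsg.Agent.HN.H0Basic
open Cfsg.Agent.HN.AutHS
open Cfsg.Agent.KFacts.MulSpor.HN (N comm_N f f_surj f_ker ψ_inj ψ_mem_N mem_of_ψ_mem conj_N relt)
open scoped commutatorElement

universe u v w

section general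

variable {M : Type u} {X : Type v} {Y : Type w} [Group M] [Group X] [Group Y]

/-- A composition of perfect central extensions is a perfect central extension. -/
theorem pce_comp {ρ : M →* X} (h : PCE ρ) {g : X →* Y} (hg : Function.Surjective g) (hc : g.ker ≤ center X) :
    PCE (g.comp ρ) := by
  refine ⟨hg.comp h.surj, ?_, h.perf⟩
  intro k hk
  have hk' : ρ k ∈ center X := hc hk
  -- `m ↦ ⁅m, k⁆` is a homomorphism to the kernel
  have hcen : ∀ m : M, ρ ⁅m, k⁆ = 1 := by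
    intro m
    rw [map_commutatorElement, commutatorElement_eq_one_iff_mul_comm]
    exact mem_center_iff.1 hk' (ρ m)
  have hmul : ∀ a b : M, ⁅a * b, k⁆ = ⁅a, k⁆ * ⁅b, k⁆ := by
    intro a b
    have h1 : ⁅b, k⁆ * a⁻¹ = a⁻¹ * ⁅b, k⁆ := h.comm (hcen b) a⁻¹
    have h2 : ⁅b, k⁆ * k = k * ⁅b, k⁆ := h.comm (hcen b) k
    calc ⁅a * b, k⁆ = a * (⁅b, k⁆ * k) * a⁻¹ * k⁻¹ := by rw [commutatorElement_def, commutatorElement_def]; group
      _ = a * k * (⁅b, k⁆ * a⁻¹) * k⁻¹ := by rw [h2]; group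
      _ = a * k * a⁻¹ * (⁅b, k⁆ * k⁻¹) := by rw [h1]; group
      _ = a * k * a⁻¹ * (k⁻¹ * ⁅b, k⁆) := by rw [h.comm (hcen b) k⁻¹]
      _ = ⁅a, k⁆ * ⁅b, k⁆ := by rw [commutatorElement_def a k]; group
  have hall : (⊤ : Subgroup M) ≤ { carrier := {m | ⁅m, k⁆ = 1}
                                   one_mem' := by
                                     show ⁅(1 : M), k⁆ = 1
                                     exact commutatorElement_one_left k
                                   mul_mem' := fun {a b} ha hb => by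
                                     show ⁅a * b, k⁆ = 1
                                     rw [hmul, show ⁅a, k⁆ = 1 from ha, show ⁅b, k⁆ = 1 from hb, mul_one]
                                   inv_mem' := fun {a} ha => by
                                     show ⁅a⁻¹, k⁆ = 1
                                     have h3 := hmul a⁻¹ a
                                     rw [inv_mul_cancel, commutatorElement_one_left,
                                       show ⁅a, k⁆ = 1 from ha, mul_one] at h3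
                                     exact h3.symm : Subgroup M } := by
    rw [← h.perf, commutator_def, commutator_le]
    intro a _ b _
    show ⁅⁅a, b⁆, k⁆ = 1
    have h1 : ∀ c : M, ⁅c⁻¹, k⁆ = ⁅c, k⁆⁻¹ := by
      intro c
      have h3 := hmul c⁻¹ c
      rw [inv_mul_cancel, commutatorElement_one_left] at h3
      exact eq_inv_of_mul_eq_one_left h3.symm
    rw [commutatorElement_def a b, hmul, hmul, hmul, h1, h1, h.comm (hcen a) ⁅b, k⁆, mul_assoc (⁅b, k⁆),
      mul_inv_cancel, mul_one, mul_inv_cancel]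
  rw [mem_center_iff]
  intro m
  exact commutatorElement_eq_one_iff_mul_comm.1 (hall (mem_top m))

/-- in a subgroup whose preimage of perfect type has no cover, the commutator subgroup of the preimage splits -/
theorem meet_eq_one {L : Type} [Group L] [Finite L] {π : L →* X} (h : PCE π) {p : ℕ} (hp : p.Prime)
    (hk : Nat.card π.ker = p) {S : Subgroup X} (hS : commutator S = ⊤) {g : S →* Y} (hg : Function.Surjective g)
    (hgc : g.ker ≤ center S) (hY : NoCov p Y) {l : L} (hl : l ∈ ⁅S.comap π, S.comap π⁆) (h1 : π l = 1) : l = 1 := by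
  let q : S.comap π →* S := (π.comp (S.comap π).subtype).codRestrict S (fun x => x.2)
  have hq : Function.Surjective q := by
    rintro ⟨s, hs⟩
    obtain ⟨l, rfl⟩ := h.surj s
    exact ⟨⟨l, hs⟩, rfl⟩
  have hqc : q.ker ≤ center (S.comap π) := by
    rintro ⟨x, hx⟩ hx1
    have hx2 : π x = 1 := congrArg Subtype.val hx1
    rw [mem_center_iff]
    rintro ⟨y, hy⟩
    exact Subtype.ext (h.comm hx2 y).symm
  have h2 := pce_comp (pce_of_central hq hqc hS) hg hgc
  have h3 := hY.not_dvd hp h2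
  by_contra hne
  apply h3
  -- `l` as an element of the commutator subgroup of the preimage
  have h4 : (⁅S.comap π, S.comap π⁆ : Subgroup L) = (commutator (S.comap π)).map (S.comap π).subtype := by
    rw [_root_.commutator_def (S.comap π), Subgroup.map_commutator, ← MonoidHom.range_eq_map, Subgroup.range_subtype]
  rw [h4] at hl
  obtain ⟨l', hl', rfl⟩ := hl
  have h5 : g (q l') = 1 := by
    have : q l' = 1 := Subtype.ext h1
    rw [this, map_one]
  have h6 : orderOf (⟨⟨l', hl'⟩, h5⟩ : (g.comp (q.comp (commutator (S.comap π)).subtype)).ker) = p := by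
    rw [← Subgroup.orderOf_coe, ← Subgroup.orderOf_coe]
    show orderOf l' = p
    rw [← Subgroup.orderOf_coe]
    haveI : Fact p.Prime := ⟨hp⟩
    refine orderOf_eq_prime ?_ hne
    have h7 := pow_card_eq_one' (x := (⟨(l' : L), h1⟩ : π.ker))
    rw [hk] at h7
    exact congrArg Subtype.val h7
  rw [← h6]
  exact orderOf_dvd_natCard _

/-- a square root of the inverse in a group of odd order -/
theorem exists_half {c : M} {p : ℕ} (hp : p % 2 = 1) (hc : c ^ p = 1) : ∃ e ∈ zpowers c, e * e * c = 1 := by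
  refine ⟨c ^ ((p - 1) / 2), pow_mem (mem_zpowers c) _, ?_⟩
  rw [← pow_add, ← pow_succ]
  have : (p - 1) / 2 + (p - 1) / 2 + 1 = p := by omega
  rw [this, hc]

theorem eq_one_of_sq {c : M} {p : ℕ} (hp : p % 2 = 1) (hc : c ^ p = 1) (h2 : c * c = 1) : c = 1 := by
  have h1 : c ^ p = c := by
    have : p = 2 * (p / 2) + 1 := by omega
    rw [this, pow_succ, pow_mul, pow_two, h2, one_pow, one_mul]
  rw [← h1, hc]

/-- a split perfect central extension has trivial kernel -/
theorem not_split {π : M →* X} (h : PCE π) {p : ℕ} (hp : p.Prime) (hk : Nat.card π.ker = p) {s : X →* M}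
    (hs : π.comp s = MonoidHom.id X) : False := by
  have hs' : ∀ x, π (s x) = x := fun x => DFunLike.congr_fun hs x
  have h1 : (⊤ : Subgroup M) ≤ s.range := by
    rw [← h.perf, commutator_def, commutator_le]
    intro a _ b _
    have key : ∀ m : M, ∃ z, π z = 1 ∧ m = z * s (π m) := fun m =>
      ⟨m * (s (π m))⁻¹, by rw [map_mul, map_inv, hs', mul_inv_cancel], by group⟩
    obtain ⟨z, hz, hz'⟩ := key a
    obtain ⟨w, hw, hw'⟩ := key b
    have e : ⁅a, b⁆ = ⁅s (π a), s (π b)⁆ := by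
      rw [Cfsg.Agent.H51.Crit.mul_comm_of_comm]
      have h2 := (Cfsg.Agent.H51.Crit.mul_comm_of_comm (a := s (π a)) (b := s (π b))).1 rfl
      rw [hz', hw']
      rw [show π (z * s (π a)) = π a by rw [← hz'], show π (w * s (π b)) = π b by rw [← hw']]
      calc z * s (π a) * (w * s (π b)) = z * (s (π a) * w) * s (π b) := by group
        _ = z * w * (s (π a) * s (π b)) := by rw [← h.comm hw]; group
        _ = z * w * (⁅s (π a), s (π b)⁆ * (s (π b) * s (π a))) := by rw [← h2]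
        _ = ⁅s (π a), s (π b)⁆ * (z * w) * (s (π b) * s (π a)) := by
          rw [← mul_assoc, h.comm (z := z * w) (by rw [map_mul, hz, hw, one_mul])]
        _ = ⁅s (π a), s (π b)⁆ * (w * s (π b) * (z * s (π a))) := by
          have h3 : z * w = w * z := h.comm hz w
          have h4 : z * s (π b) = s (π b) * z := h.comm hz _
          calc _ = ⁅s (π a), s (π b)⁆ * ((z * w) * s (π b) * s (π a)) := by group
            _ = ⁅s (π a), s (π b)⁆ * (w * (z * s (π b)) * s (π a)) := by rw [h3]; group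
            _ = _ := by rw [h4]; group
    rw [e, ← map_commutatorElement]
    exact ⟨_, rfl⟩
  have h2 : Nat.card π.ker = 1 := by
    rw [Subgroup.card_eq_one, eq_bot_iff]
    intro z hz
    obtain ⟨x, rfl⟩ := h1 (mem_top z)
    have h3 : π (s x) = 1 := hz
    rw [hs'] at h3
    rw [h3, map_one]
    exact one_mem _
  rw [hk] at h2
  exact hp.one_lt.ne' h2

end general

variable {L : Type} [Group L] [Finite L] {π : L →* Cfsg.Spor.HN} {p : ℕ}

/-- the lift of `2.HS` -/
def D (π : L →* Cfsg.Spor.HN) : Subgroup L := ⁅N.comap π, N.comap π⁆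

theorem perfect_N : commutator N = ⊤ := by
  apply map_injective N.subtype_injective
  rw [commutator_def, map_commutator, ← MonoidHom.range_eq_map, range_subtype, comm_N]

theorem D_map (h : PCE π) : (D π).map π = N := by
  rw [D, map_commutator, map_comap_eq_self_of_surjective h.surj, comm_N]

theorem exists_D (h : PCE π) {n : Cfsg.Spor.HN} (hn : n ∈ N) : ∃ d ∈ D π, π d = n := by
  rw [← D_map h] at hn
  exact hn

theorem D_le : D π ≤ N.comap π := by
  rw [D, commutator_le]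
  intro a ha b hb
  exact mul_mem (mul_mem (mul_mem ha hb) (inv_mem ha)) (inv_mem hb)

theorem D_conj (g : L) (hg : ∀ n ∈ N, π g * n * (π g)⁻¹ ∈ N) {d : L} (hd : d ∈ D π) : g * d * g⁻¹ ∈ D π := by
  have h1 : (D π).map (MulAut.conj g).toMonoidHom ≤ D π := by
    rw [D, map_commutator]
    have h2 : (N.comap π).map (MulAut.conj g).toMonoidHom ≤ N.comap π := by
      rintro _ ⟨y, hy, rfl⟩
      show π (g * y * g⁻¹) ∈ N
      rw [map_mul, map_mul, map_inv]
      exact hg _ hy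
    exact commutator_mono h2 h2
  exact h1 ⟨d, hd, rfl⟩

/-- `D⟨Z⟩` -/
def SS {Z : L} (hZ : Z * Z = 1) (hDZ : ∀ d ∈ D π, Z * d * Z⁻¹ ∈ D π) : Subgroup L where
  carrier := {l | l ∈ D π ∨ l * Z ∈ D π}
  one_mem' := Or.inl (one_mem _)
  mul_mem' := by
    have hZi : Z⁻¹ = Z := inv_eq_of_mul_eq_one_left hZ
    rintro a b (ha | ha) (hb | hb)
    · exact Or.inl (mul_mem ha hb)
    · right
      rw [mul_assoc]
      exact mul_mem ha hb
    · right
      have h1 : a * b * Z = a * Z * (Z * b * Z⁻¹) := by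
        rw [hZi]
        calc a * b * Z = a * 1 * b * Z := by rw [mul_one]
          _ = a * (Z * Z) * b * Z := by rw [hZ]
          _ = _ := by group
      rw [h1]
      exact mul_mem ha (hDZ b hb)
    · left
      have h1 : a * b = a * Z * (Z * (b * Z) * Z⁻¹) := by
        calc a * b = a * 1 * b := by rw [mul_one]
          _ = a * (Z * Z) * b := by rw [hZ]
          _ = _ := by group
      rw [h1]
      exact mul_mem ha (hDZ _ hb)
  inv_mem' := by
    have hZi : Z⁻¹ = Z := inv_eq_of_mul_eq_one_left hZ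
    rintro a (ha | ha)
    · exact Or.inl (inv_mem ha)
    · right
      have h1 : a⁻¹ * Z = (Z * (a * Z) * Z⁻¹)⁻¹ := by
        calc a⁻¹ * Z = a⁻¹ * Z⁻¹ := by rw [hZi]
          _ = _ := by group
      rw [h1]
      exact inv_mem (hDZ _ ha)

/-- the relations of `2.HS.2` lift, and those of `X ^ 2`. -/
theorem rels (hQ : ∀ l ∈ D π, π l = 1 → l = 1) {X Y Z : L} (hX : X ∈ D π) (hY : Y ∈ D π)
    (hXp : π X = hx) (hYp : π Y = hy) (hZp : π Z = hz) (hZ : Z * Z = 1) :
    Rels X Y Z ∧ X ^ 2 * X ^ 2 = 1 ∧ X ^ 2 * Z = Z * X ^ 2 := by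
  have hzz : π Z = NormalH.ψ gz := by rw [hZp, NormalH.ψ_gz]
  have hDZ : ∀ d ∈ D π, Z * d * Z⁻¹ ∈ D π := fun d hd => D_conj Z (fun n hn => by
    rw [hzz]; exact conj_N gz hn) hd
  have hXS : X ∈ SS hZ hDZ := Or.inl hX
  have hYS : Y ∈ SS hZ hDZ := Or.inl hY
  have hZS : Z ∈ SS hZ hDZ := Or.inr (by rw [hZ]; exact one_mem _)
  have hone : ∀ l ∈ SS hZ hDZ, π l = 1 → l = 1 := fun l hl h => by
    rcases hl with h1 | h1
    · exact hQ l h1 h
    · exfalso
      have h2 : π (l * Z) ∈ N := D_le h1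
      rw [map_mul, h, one_mul, hzz] at h2
      exact gz_not_mem (mem_of_ψ_mem h2)
  have hR := rels_HN
  refine ⟨?_, ?_, ?_⟩
  · constructor
    · refine hone _ ?_ ?_
      · exact pow_mem hYS _
      · simpa only [map_mul, map_pow, map_inv, hXp, hYp, hZp] using hR.r1
    · refine hone _ ?_ ?_
      · exact mul_mem (mul_mem (mul_mem (pow_mem hXS _) hYS) (pow_mem hXS _)) (inv_mem hYS)
      · simpa only [map_mul, map_pow, map_inv, hXp, hYp, hZp] using hR.r2
    · refine hone _ ?_ ?_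
      · exact pow_mem (mul_mem (mul_mem (mul_mem (inv_mem hXS) (inv_mem hYS)) hXS) hYS) _
      · simpa only [map_mul, map_pow, map_inv, hXp, hYp, hZp] using hR.r3
    · refine hone _ ?_ ?_
      · exact pow_mem (mul_mem (mul_mem (mul_mem (inv_mem hXS) (pow_mem hYS _)) hXS) (pow_mem hYS _)) _
      · simpa only [map_mul, map_pow, map_inv, hXp, hYp, hZp] using hR.r4
    · refine hone _ ?_ ?_
      · exact pow_mem (mul_mem hXS hYS) _
      · simpa only [map_mul, map_pow, map_inv, hXp, hYp, hZp] using hR.r5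
    · refine hone _ ?_ ?_
      · exact pow_mem (mul_mem (mul_mem (mul_mem hXS hYS) hXS) (pow_mem hYS _)) _
      · simpa only [map_mul, map_pow, map_inv, hXp, hYp, hZp] using hR.r6
    · refine hone _ ?_ ?_
      · exact pow_mem hZS _
      · simpa only [map_mul, map_pow, map_inv, hXp, hYp, hZp] using hR.r7
    · refine hone _ ?_ ?_
      · exact pow_mem (mul_mem hZS hXS) _
      · simpa only [map_mul, map_pow, map_inv, hXp, hYp, hZp] using hR.r8
    · refine hone _ ?_ ?_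
      · have hw : Y * X * Y * X * (Y ^ 2) * X * (Y⁻¹) ∈ SS hZ hDZ :=
          mul_mem (mul_mem (mul_mem (mul_mem (mul_mem (mul_mem hYS hXS) hYS) hXS) (pow_mem hYS _)) hXS) (inv_mem hYS)
        exact mul_mem (mul_mem (mul_mem (mul_mem (inv_mem hZS) (inv_mem hw)) hZS) hw) (inv_mem (pow_mem hXS _))
      · simpa only [map_mul, map_pow, map_inv, hXp, hYp, hZp] using hR.r9
    · refine hone _ ?_ ?_
      · have hw : Y ^ 3 * X * Y * X * Y ∈ SS hZ hDZ :=
          mul_mem (mul_mem (mul_mem (mul_mem (pow_mem hYS _) hXS) hYS) hXS) hYS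
        exact mul_mem hZS (pow_mem (mul_mem (mul_mem (mul_mem (inv_mem hw) hZS) hw) hXS) _)
      · simpa only [map_mul, map_pow, map_inv, hXp, hYp, hZp] using hR.r10
  · refine hone _ (mul_mem (pow_mem hXS _) (pow_mem hXS _)) ?_
    rw [map_mul, map_pow, hXp, ← NormalH.ψ_gx, ← map_pow]
    show NormalH.ψ τ * NormalH.ψ τ = 1
    rw [← map_mul, τ_mul_τ, map_one]
  · have h1 : X ^ 2 * Z * (Z * X ^ 2)⁻¹ = 1 := by
      refine hone _ (mul_mem (mul_mem (pow_mem hXS _) hZS) (inv_mem (mul_mem hZS (pow_mem hXS _)))) ?_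
      rw [map_mul, map_inv, map_mul, map_mul, map_pow, hXp, hZp, ← NormalH.ψ_gx, ← NormalH.ψ_gz, ← map_pow]
      show NormalH.ψ τ * NormalH.ψ gz * (NormalH.ψ gz * NormalH.ψ τ)⁻¹ = 1
      rw [← map_mul, ← map_mul, τ_comm, mul_inv_cancel]
    exact mul_inv_eq_one.1 h1

theorem false_of_pce (h : PCE π) (hp : p.Prime) (hp2 : p ≠ 2) (hk : Nat.card π.ker = p) (hQ : NoCov p Q) : False := by
  have hodd : p % 2 = 1 := by
    rcases hp.eq_two_or_odd with h1 | h1
    · exact absurd h1 hp2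
    · exact h1
  have hkp : ∀ {c : L}, π c = 1 → c ^ p = 1 := by
    intro c hc
    have h7 := pow_card_eq_one' (x := (⟨c, hc⟩ : π.ker))
    rw [hk] at h7
    exact congrArg Subtype.val h7
  have hD : ∀ l ∈ D π, π l = 1 → l = 1 := fun l hl h1 =>
    meet_eq_one h hp hk perfect_N f_surj f_ker hQ hl h1
  obtain ⟨X, hX, hXp⟩ := exists_D h (ψ_mem_N gx_mem)
  obtain ⟨Y, hY, hYp⟩ := exists_D h (ψ_mem_N gy_mem)
  rw [NormalH.ψ_gx] at hXp
  rw [NormalH.ψ_gy] at hYp
  obtain ⟨r5, rx, ry, rz⟩ := relt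
  have hRH := rels_HN
  -- the lift of `z`
  obtain ⟨Z, hZp, hZ⟩ : ∃ Z, π Z = hz ∧ Z * Z = 1 := by
    obtain ⟨Z₀, hZ₀⟩ := h.surj hz
    have h1 : π (Z₀ * Z₀) = 1 := by rw [map_mul, hZ₀, ← pow_two, hRH.r7]
    obtain ⟨e, he, he'⟩ := exists_half hodd (hkp h1)
    have he1 : π e = 1 := by
      obtain ⟨j, rfl⟩ := mem_zpowers_iff.1 he
      rw [map_zpow, h1, one_zpow]
    refine ⟨e * Z₀, by rw [map_mul, he1, one_mul, hZ₀], ?_⟩
    calc e * Z₀ * (e * Z₀) = e * (Z₀ * e) * Z₀ := by group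
      _ = e * e * (Z₀ * Z₀) := by rw [← h.comm he1]; group
      _ = 1 := he'
  obtain ⟨hR, hX4, hXZ⟩ := rels hD hX hY hXp hYp hZp hZ
  -- `u = X ^ 2`
  set U : L := X ^ 2 with hU
  have hUi : U⁻¹ = U := inv_eq_of_mul_eq_one_left hX4
  have hUX : U * X = X * U := by rw [hU]; group
  -- in HN: `t` is inverted by `x ^ 2`
  have hinv : (hx ^ 2)⁻¹ * ht * hx ^ 2 = ht⁻¹ := by
    have h1 : hx⁻¹ * ht * hx = (ht ^ 2)⁻¹ := eq_inv_of_mul_eq_one_left rx
    have h2 : (hx ^ 2)⁻¹ * ht * hx ^ 2 = hx⁻¹ * (hx⁻¹ * ht * hx) * hx := by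
      rw [pow_two, mul_inv_rev]
      simp only [mul_assoc]
    rw [h2, h1]
    have h3 : hx⁻¹ * (ht ^ 2)⁻¹ * hx = ((hx⁻¹ * ht * hx) ^ 2)⁻¹ := by rw [pow_two, pow_two]; group
    rw [h3, h1]
    have h4 : (((ht ^ 2)⁻¹) ^ 2)⁻¹ = ht ^ 5 * ht⁻¹ := by group
    rw [h4, r5, one_mul]
  have hUp : π U = hx ^ 2 := by rw [hU, map_pow, hXp]
  -- the lift of `t`
  obtain ⟨T, hTp, hT⟩ : ∃ T, π T = ht ∧ U⁻¹ * T * U = T⁻¹ := by
    obtain ⟨T₀, hT₀⟩ := h.surj ht
    have h1 : π (U⁻¹ * T₀ * U * T₀) = 1 := by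
      rw [map_mul, map_mul, map_mul, map_inv, hUp, hT₀, hinv, inv_mul_cancel]
    obtain ⟨e, he, he'⟩ := exists_half hodd (hkp h1)
    have he1 : π e = 1 := by
      obtain ⟨j, rfl⟩ := mem_zpowers_iff.1 he
      rw [map_zpow, h1, one_zpow]
    refine ⟨e * T₀, by rw [map_mul, he1, one_mul, hT₀], ?_⟩
    have h2 : U⁻¹ * (e * T₀) * U * (e * T₀) = 1 := by
      calc U⁻¹ * (e * T₀) * U * (e * T₀) = (U⁻¹ * e) * T₀ * U * (e * T₀) := by group
        _ = e * (U⁻¹ * T₀ * U) * (e * T₀) := by rw [← h.comm he1]; group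
        _ = e * ((U⁻¹ * T₀ * U) * e) * T₀ := by group
        _ = e * e * (U⁻¹ * T₀ * U * T₀) := by rw [← h.comm he1]; group
        _ = 1 := he'
    exact eq_inv_of_mul_eq_one_left h2
  have hTU : U * T * U⁻¹ = T⁻¹ := by rw [hUi]; rw [hUi] at hT; exact hT
  -- a kernel element which is equal to its inverse is trivial
  have hkill : ∀ {c : L}, π c = 1 → c = c⁻¹ → c = 1 := fun {c} hc hci =>
    eq_one_of_sq hodd (hkp hc) (by nth_rewrite 1 [hci]; exact inv_mul_cancel c)
  -- conjugation with `U` fixes the kernel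
  have hcU : ∀ {c : L}, π c = 1 → U * c * U⁻¹ = c := fun {c} hc => by
    rw [← h.comm hc, mul_inv_cancel_right]
  have h5 : T ^ 5 = 1 := by
    have hc : π (T ^ 5) = 1 := by rw [map_pow, hTp, r5]
    refine hkill hc ?_
    conv_lhs => rw [← hcU hc]
    rw [← conj_pow, hTU, inv_pow]
  have hx' : (X⁻¹ * T * X) * T ^ 2 = 1 := by
    have hc : π ((X⁻¹ * T * X) * T ^ 2) = 1 := by
      rw [map_mul, map_mul, map_mul, map_pow, map_inv, hXp, hTp, rx]
    set c := (X⁻¹ * T * X) * T ^ 2 with hcdef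
    refine hkill hc ?_
    have h1 : U * (X⁻¹ * T * X) * U⁻¹ = X⁻¹ * T⁻¹ * X := by
      have h2 : U * X⁻¹ = X⁻¹ * U := by
        calc U * X⁻¹ = X⁻¹ * (X * U) * X⁻¹ := by group
          _ = X⁻¹ * (U * X) * X⁻¹ := by rw [hUX]
          _ = _ := by group
      calc U * (X⁻¹ * T * X) * U⁻¹ = (U * X⁻¹) * T * (X * U⁻¹) := by group
        _ = X⁻¹ * U * T * (U⁻¹ * (U * X) * U⁻¹) := by rw [h2]; group
        _ = X⁻¹ * U * T * (U⁻¹ * (X * U) * U⁻¹) := by rw [hUX]
        _ = X⁻¹ * (U * T * U⁻¹) * X := by group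
        _ = X⁻¹ * T⁻¹ * X := by rw [hTU]
    have h3 : X⁻¹ * T * X = c * (T ^ 2)⁻¹ := by rw [hcdef]; group
    have h4 : c = X⁻¹ * T⁻¹ * X * (T ^ 2)⁻¹ := by
      calc c = U * c * U⁻¹ := (hcU hc).symm
        _ = U * (X⁻¹ * T * X) * U⁻¹ * (U * T * U⁻¹) ^ 2 := by rw [hcdef, conj_pow]; group
        _ = X⁻¹ * T⁻¹ * X * (T ^ 2)⁻¹ := by rw [h1, hTU, inv_pow]
    have h6 : X⁻¹ * T⁻¹ * X = T ^ 2 * c⁻¹ := by
      have : X⁻¹ * T⁻¹ * X = (X⁻¹ * T * X)⁻¹ := by group
      rw [this, h3]; group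
    have hci : π c⁻¹ = 1 := by rw [map_inv, hc, inv_one]
    rw [h6, ← h.comm hci, mul_inv_cancel_right] at h4
    exact h4
  have hy' : T⁻¹ * Y⁻¹ * T * Y = 1 := by
    have hc : π (T⁻¹ * Y⁻¹ * T * Y) = 1 := by
      rw [map_mul, map_mul, map_mul, map_inv, map_inv, hYp, hTp, ry]
    set c := T⁻¹ * Y⁻¹ * T * Y with hcdef
    -- `Y⁻¹ T Y = T c`, `T⁻¹ Y⁻¹ T = c Y⁻¹`
    have h1 : Y⁻¹ * T * Y = T * c := by rw [hcdef]; group
    have h2 : T⁻¹ * Y⁻¹ * T = c * Y⁻¹ := by rw [hcdef]; group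
    have hc5 : c ^ 5 = 1 := by
      have h3 : (Y⁻¹ * T * Y) ^ 5 = Y⁻¹ * T ^ 5 * Y := by
        have := conj_pow (i := 5) (a := Y⁻¹) (b := T)
        rwa [inv_inv] at this
      have h4 : Commute T c := (h.comm hc T).symm
      rw [h1, h4.mul_pow, h5, one_mul, mul_one, inv_mul_cancel] at h3
      exact h3
    have hc6 : c ^ 6 = 1 := by
      have h3 : (T⁻¹ * Y⁻¹ * T) ^ 6 = T⁻¹ * (Y⁻¹) ^ 6 * T := by
        have := conj_pow (i := 6) (a := T⁻¹) (b := Y⁻¹)
        rwa [inv_inv] at this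
      have h4 : Commute c Y⁻¹ := h.comm hc Y⁻¹
      rw [h2, h4.mul_pow, inv_pow, hR.r1, inv_one, mul_one, mul_one, inv_mul_cancel] at h3
      exact h3
    have h7 : c ^ 6 = c ^ 5 * c := pow_succ c 5
    rw [hc6, hc5, one_mul] at h7
    exact h7.symm
  have hz' : (Z * T) ^ 3 = 1 := by
    have hc : π ((Z * T) ^ 3) = 1 := by rw [map_pow, map_mul, hZp, hTp, rz]
    refine hkill hc ?_
    have hZi : Z⁻¹ = Z := inv_eq_of_mul_eq_one_left hZ
    have h1 : U * (Z * T) * U⁻¹ = Z * T⁻¹ := by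
      calc U * (Z * T) * U⁻¹ = (U * Z) * T * U⁻¹ := by group
        _ = Z * (U * T * U⁻¹) := by rw [hXZ]; group
        _ = Z * T⁻¹ := by rw [hTU]
    have h2 : Z * T⁻¹ = Z * (Z * T)⁻¹ * Z⁻¹ := by
      calc Z * T⁻¹ = Z * T⁻¹ * (Z * Z) := by rw [hZ, mul_one]
        _ = Z * T⁻¹ * Z⁻¹ * Z⁻¹ := by rw [hZi]; group
        _ = _ := by group
    calc (Z * T) ^ 3 = U * (Z * T) ^ 3 * U⁻¹ := (hcU hc).symm
      _ = (Z * (Z * T)⁻¹ * Z⁻¹) ^ 3 := by rw [← conj_pow, h1, h2]
      _ = Z * ((Z * T) ^ 3)⁻¹ * Z⁻¹ := by rw [conj_pow, inv_pow]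
      _ = ((Z * T) ^ 3)⁻¹ := by
        have hci : π ((Z * T) ^ 3)⁻¹ = 1 := by rw [map_inv, hc, inv_one]
        rw [← h.comm hci, mul_inv_cancel_right]
  obtain ⟨s, sx, sy, sz, st⟩ := Hom.exists_hom hR h5 hx' hy' hz'
  have hs : π.comp s = MonoidHom.id _ := by
    apply PresentedGroup.ext
    intro a
    cases a
    · show π (s Pres.hx) = Pres.hx; rw [sx, hXp]
    · show π (s Pres.hy) = Pres.hy; rw [sy, hYp]
    · show π (s Pres.hz) = Pres.hz; rw [sz, hZp]
    · show π (s Pres.ht) = Pres.ht; rw [st, hTp]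
  exact not_split h hp hk hs

/-- **Odd covers of `HN`.** -/
theorem noCov {p : ℕ} (hp : p.Prime) (hp2 : p ≠ 2) (hQ : NoCov p Q) : NoCov p Cfsg.Spor.HN :=
  fun _ _ _ _ h hk => false_of_pce h hp hp2 hk hQ

end Cfsg.Agent.H47.HNOdd
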