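import Cfsg.Agent.H51.Mult

/-!
# The fibre product of two perfect central extensions with kernels of coprime orders (helper47)

* `fibre` : from `PCE π₁`, `PCE π₂` over the same group with kernels of coprime orders `m`, `n` a perfect central
  extension with kernel of order `m * n`.
* `perfect_of_gen` : `X` perfect, `π : D → X` onto, the kernel has exponent dividing `m`, `D` generated by elements
  with `x ^ n = 1`, `m`, `n` coprime: then `D` is perfect.
-/

set_option autoImplicit false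

namespace Cfsg.Agent.H47.Fibre

open Subgroup Cfsg.Agent.H51.Mult

universe u v

variable {L₁ L₂ : Type u} {X : Type v} [Group L₁] [Group L₂] [Group X]

/-- the fibre product -/
def FP (π₁ : L₁ →* X) (π₂ : L₂ →* X) : Subgroup (L₁ × L₂) :=
  (π₁.comp (MonoidHom.fst L₁ L₂)).eqLocus (π₂.comp (MonoidHom.snd L₁ L₂))

theorem mem_FP {π₁ : L₁ →* X} {π₂ : L₂ →* X} {x : L₁ × L₂} : x ∈ FP π₁ π₂ ↔ π₁ x.1 = π₂ x.2 := Iff.rfl

/-- the projection of the fibre product -/
def pr (π₁ : L₁ →* X) (π₂ : L₂ →* X) : FP π₁ π₂ →* X := (π₁.comp (MonoidHom.fst L₁ L₂)).comp (FP π₁ π₂).subtype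

theorem pr_surj {π₁ : L₁ →* X} {π₂ : L₂ →* X} (h₁ : Function.Surjective π₁) (h₂ : Function.Surjective π₂) :
    Function.Surjective (pr π₁ π₂) := by
  intro x
  obtain ⟨a, ha⟩ := h₁ x
  obtain ⟨b, hb⟩ := h₂ x
  exact ⟨⟨(a, b), mem_FP.2 (ha.trans hb.symm)⟩, ha⟩

/-- the kernel -/
def kerEquiv (π₁ : L₁ →* X) (π₂ : L₂ →* X) : (pr π₁ π₂).ker ≃ π₁.ker × π₂.ker where
  toFun x := (⟨x.1.1.1, x.2⟩, ⟨x.1.1.2, (mem_FP.1 x.1.2).symm.trans x.2⟩)
  invFun y := ⟨⟨(y.1.1, y.2.1), mem_FP.2 ((MonoidHom.mem_ker.1 y.1.2).trans (MonoidHom.mem_ker.1 y.2.2).symm)⟩, y.1.2⟩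
  left_inv _ := rfl
  right_inv _ := rfl

theorem card_of_surj {G H : Type*} [Group G] [Group H] [Finite G] (f : G →* H) (hf : Function.Surjective f) :
    Nat.card G = Nat.card f.ker * Nat.card H := by
  have h2 := f.ker.card_mul_index
  rw [Subgroup.index_ker, MonoidHom.range_eq_top.2 hf, Subgroup.card_top] at h2
  exact h2.symm

/-- a projection of the commutator subgroup -/
theorem dvd_card_commutator {L M : Type*} [Group L] [Group M] [Finite L] (f : L →* M)
    (hf : Function.Surjective f) (hM : commutator M = ⊤) : Nat.card M ∣ Nat.card (commutator L) := by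
  have h1 : (commutator L).map f = ⊤ := by
    rw [commutator_def, Subgroup.map_commutator, Subgroup.map_top_of_surjective f hf, ← commutator_def, hM]
  have h2 := Subgroup.card_map_dvd (H := commutator L) f
  rwa [h1, Subgroup.card_top] at h2

/-- **The fibre product of perfect central extensions with kernels of coprime orders.** -/
theorem fibre [Finite L₁] [Finite L₂] {π₁ : L₁ →* X} {π₂ : L₂ →* X} (h₁ : PCE π₁) (h₂ : PCE π₂)
    (hc : Nat.Coprime (Nat.card π₁.ker) (Nat.card π₂.ker)) :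
    ∃ (L : Type u) (_ : Group L) (_ : Finite L) (π : L →* X), PCE π ∧
      Nat.card π.ker = Nat.card π₁.ker * Nat.card π₂.ker := by
  have hfin : Finite (FP π₁ π₂) := inferInstance
  have hX : Finite X := Finite.of_surjective π₁ h₁.surj
  have hs := pr_surj h₁.surj h₂.surj
  have hk : Nat.card (pr π₁ π₂).ker = Nat.card π₁.ker * Nat.card π₂.ker := by
    rw [Nat.card_congr (kerEquiv π₁ π₂), Nat.card_prod]
  refine ⟨FP π₁ π₂, inferInstance, hfin, pr π₁ π₂, ⟨hs, ?_, ?_⟩, hk⟩
  · rintro ⟨⟨a, b⟩, hab⟩ hx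
    have ha : π₁ a = 1 := hx
    have hb : π₂ b = 1 := (mem_FP.1 hab).symm.trans ha
    rw [mem_center_iff]
    rintro ⟨⟨c, d⟩, hcd⟩
    exact Subtype.ext (Prod.ext (h₁.comm ha c).symm (h₂.comm hb d).symm)
  · have c1 := card_of_surj π₁ h₁.surj
    have c2 := card_of_surj π₂ h₂.surj
    have c := card_of_surj _ hs
    rw [hk] at c
    have d1 : Nat.card L₁ ∣ Nat.card (commutator (FP π₁ π₂)) := by
      refine dvd_card_commutator ((MonoidHom.fst L₁ L₂).comp (FP π₁ π₂).subtype) ?_ h₁.perf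
      intro a
      obtain ⟨b, hb⟩ := h₂.surj (π₁ a)
      exact ⟨⟨(a, b), mem_FP.2 hb.symm⟩, rfl⟩
    have d2 : Nat.card L₂ ∣ Nat.card (commutator (FP π₁ π₂)) := by
      refine dvd_card_commutator ((MonoidHom.snd L₁ L₂).comp (FP π₁ π₂).subtype) ?_ h₂.perf
      intro b
      obtain ⟨a, ha⟩ := h₁.surj (π₂ b)
      exact ⟨⟨(a, b), mem_FP.2 ha⟩, rfl⟩
    rw [c1] at d1
    rw [c2] at d2
    have d3 : Nat.card (FP π₁ π₂) ∣ Nat.card (commutator (FP π₁ π₂)) := by
      rw [c]
      have h3 := Nat.lcm_dvd d1 d2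
      rw [Nat.lcm_mul_right, hc.lcm_eq_mul] at h3
      exact h3
    exact eq_top_of_card_eq _ (le_antisymm (Nat.le_of_dvd Nat.card_pos (card_subgroup_dvd_card _))
      (Nat.le_of_dvd Nat.card_pos d3))

/-- `D` is generated by elements of order dividing `n`, the kernel of `D → X` has exponent dividing `m`. -/
theorem perfect_of_gen {D : Type*} [Group D] {π : D →* X} (hX : commutator X = ⊤) (hs : Function.Surjective π)
    {m n : ℕ} (hmn : Nat.Coprime m n) (hk : ∀ k, π k = 1 → k ^ m = 1) {S : Set D} (hS : closure S = ⊤)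
    (hn : ∀ s ∈ S, s ^ n = 1) : commutator D = ⊤ := by
  rw [eq_top_iff, ← hS, closure_le]
  intro s hsS
  have h1 : π s ∈ (commutator D).map π := by
    rw [commutator_def, Subgroup.map_commutator, Subgroup.map_top_of_surjective π hs, ← commutator_def, hX]
    exact mem_top _
  obtain ⟨c, hc, hcs⟩ := h1
  have h2 : π (c⁻¹ * s) = 1 := by rw [map_mul, map_inv, hcs, inv_mul_cancel]
  have h3 := hk _ h2
  -- in the abelianization
  have h4 : Abelianization.of s = Abelianization.of (c⁻¹ * s) := by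
    have h5 : Abelianization.of c = 1 := by
      rw [← MonoidHom.mem_ker, Abelianization.ker_of]; exact hc
    rw [map_mul, map_inv, h5, inv_one, one_mul]
  have h6 : (Abelianization.of s) ^ m = 1 := by rw [h4, ← map_pow, h3, map_one]
  have h7 : (Abelianization.of s) ^ n = 1 := by rw [← map_pow, hn s hsS, map_one]
  have h8 : Abelianization.of s = 1 := by
    have h9 := Nat.dvd_gcd (orderOf_dvd_of_pow_eq_one h6) (orderOf_dvd_of_pow_eq_one h7)
    rw [hmn.gcd_eq_one] at h9
    exact orderOf_eq_one_iff.1 (Nat.dvd_one.1 h9)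
  rw [← MonoidHom.mem_ker, Abelianization.ker_of] at h8
  exact h8

end Cfsg.Agent.H47.Fibre
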