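import Cfsg.Agent.H47.MeetTool
import Cfsg.Agent.H498.SporOut
import Cfsg.Agent.NotCT.Orders

/-!
# Trivial Sylow intersections: sporadic groups with `p ^ 3 ∤ |G|` (helper47, S5762)
-/

set_option autoImplicit false

namespace Cfsg.Agent.H47.MeetS

open Subgroup Cfsg Cfsg.Agent.H903.SylMeet

theorem not_comm_spor {G : Type*} [Group G] [IsSimpleGroup G] (h : IsSporadicGroup G) : ¬ IsMulCommutative G := by
  rcases h with h | h | h | h | h | h | h | h | h | h | h | h | h | h | h | h | h | h | h | h | h | h | h | h | h | h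
  · exact not_comm_of_card (NotCT.Orders.m11 h) (by norm_num)
  · exact not_comm_of_card (NotCT.Orders.m12 h) (by norm_num)
  · exact not_comm_of_card (NotCT.Orders.m22 h) (by norm_num)
  · exact not_comm_of_card (NotCT.Orders.m23 h) (by norm_num)
  · exact not_comm_of_card (NotCT.Orders.m24 h) (by norm_num)
  · exact not_comm_of_card (NotCT.Orders.j1 h) (by norm_num)
  · exact not_comm_of_card (NotCT.Orders.j2 h) (by norm_num)
  · exact not_comm_of_card (NotCT.Orders.j3 h) (by norm_num)
  · exact not_comm_of_card (NotCT.Orders.j4 h) (by norm_num)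
  · exact not_comm_of_card (NotCT.Orders.co1 h) (by norm_num)
  · exact not_comm_of_card (NotCT.Orders.co2 h) (by norm_num)
  · exact not_comm_of_card (NotCT.Orders.co3 h) (by norm_num)
  · exact not_comm_of_card (NotCT.Orders.mcl h) (by norm_num)
  · exact not_comm_of_card (NotCT.Orders.hs h) (by norm_num)
  · exact not_comm_of_card (NotCT.Orders.suz h) (by norm_num)
  · exact not_comm_of_card (NotCT.Orders.he h) (by norm_num)
  · exact not_comm_of_card (NotCT.Orders.ru h) (by norm_num)
  · exact not_comm_of_card (NotCT.Orders.on h) (by norm_num)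
  · exact not_comm_of_card (NotCT.Orders.ly h) (by norm_num)
  · exact not_comm_of_card (NotCT.Orders.fi22 h) (by norm_num)
  · exact not_comm_of_card (NotCT.Orders.fi23 h) (by norm_num)
  · exact not_comm_of_card (NotCT.Orders.fi24 h) (by norm_num)
  · exact not_comm_of_card (NotCT.Orders.hn h) (by norm_num)
  · exact not_comm_of_card (NotCT.Orders.th h) (by norm_num)
  · exact not_comm_of_card (NotCT.Orders.b h) (by norm_num)
  · exact not_comm_of_card (NotCT.Orders.m h) (by norm_num)

/-- **Sporadic groups with `p ^ 3 ∤ |G|`.** -/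
theorem meet_spor_abelian {G : Type*} [Group G] [Finite G] [IsSimpleGroup G] {p : ℕ} [Fact p.Prime] (hp : 5 ≤ p)
    (h : IsSporadicGroup G) (hc : ¬ p ^ 3 ∣ Nat.card G) : Meet p G :=
  meet_of_small (not_comm_spor h) (H498.SporOut.index_le_two h) (by omega) hc

end Cfsg.Agent.H47.MeetS
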