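import Cfsg.Agent.H47.MeetON

/-!
# Trivial Sylow intersections: the O'Nan group, `p = 7` (helper47, S5762): the index
-/

set_option autoImplicit false
set_option maxRecDepth 100000

namespace Cfsg.Agent.H47.MeetS.ONan

open Subgroup Cfsg Cfsg.Agent.H903.SylMeet
open Cfsg.Spor (ON)
open Cfsg.Agent.UGT.C.BalONInv (conj_f)
open Cfsg.Agent.KFacts.ON.Struct
open Cfsg.Agent.KFacts.ON.Cent (hON card_K0)
open Cfsg.Agent.KFacts.ON.Words (vv)
open Cfsg.Agent.ONType.TupK (K0)
open Cfsg.Agent.H573.Spor.ONSeven (card_ON simple_ON)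

theorem not_eight {x : ON} (hxo : orderOf x = 7) : ¬ 2 ^ (2 + 1) ∣ Nat.card (centralizer ({x} : Set ON)) := by
  intro h8
  have h2 : Fact (Nat.Prime 2) := ⟨Nat.prime_two⟩
  have hx : x ^ 7 = 1 := by rw [← hxo, pow_orderOf_eq_one]
  have hx1 : x ≠ 1 := by
    rintro h
    rw [h, orderOf_one] at hxo
    norm_num at hxo
  obtain ⟨S, hS⟩ := Sylow.exists_subgroup_card_pow_prime (G := centralizer ({x} : Set ON)) 2 h8
  obtain ⟨R, hRS⟩ : ∃ R, R = S.map (centralizer ({x} : Set ON)).subtype := ⟨_, rfl⟩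
  have hRc : Nat.card R = 2 ^ (2 + 1) := by
    rw [hRS, card_map_of_injective Subtype.val_injective, hS]
  have hR : IsPGroup 2 R := IsPGroup.of_card hRc
  have hRx : ∀ r ∈ R, r * x = x * r := by
    rw [hRS]
    rintro _ ⟨r, -, rfl⟩
    exact mem_centralizer_singleton_iff.1 r.2
  have hnt : Nontrivial R := Finite.one_lt_card_iff_nontrivial.1 (by rw [hRc]; norm_num)
  have hZ : Nontrivial ↥(center ↥R) := hR.center_nontrivial
  obtain ⟨z, hz⟩ : ∃ z : ↥(center ↥R), orderOf z = 2 := by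
    have h3 : IsPGroup 2 ↥(center ↥R) := hR.to_subgroup _
    obtain ⟨k, hk⟩ := IsPGroup.iff_card.1 h3
    have h4 : 2 ∣ Nat.card ↥(center ↥R) := by
      rw [hk]
      apply dvd_pow_self
      rintro rfl
      rw [pow_zero] at hk
      exact (Finite.one_lt_card (α := ↥(center ↥R))).ne' hk
    exact exists_prime_orderOf_dvd_card' 2 h4
  obtain ⟨s, hs1⟩ : ∃ s : ON, s = ((z : ↥R) : ON) := ⟨_, rfl⟩
  have hso : orderOf s = 2 := by rw [hs1, Subgroup.orderOf_coe, Subgroup.orderOf_coe, hz]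
  have hss : s * s = 1 := by rw [← pow_two, ← hso, pow_orderOf_eq_one]
  have hs0 : s ≠ 1 := by
    rintro h
    rw [h, orderOf_one] at hso
    omega
  have hsR : ∀ r ∈ R, r * s = s * r := by
    intro r hr
    have h3 := mem_center_iff.1 z.2 ⟨r, hr⟩
    rw [hs1]
    exact congrArg Subtype.val h3
  have hsx : s * x = x * s := by
    rw [hs1]
    exact hRx _ (z : ↥R).2
  obtain ⟨g, hg⟩ := conj_f hON hss hs0
  have hcomm : ∀ {y z : ON}, y * z = z * y → (g * y * g⁻¹) * (g * z * g⁻¹) = (g * z * g⁻¹) * (g * y * g⁻¹) := by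
    intro y z hyz
    calc (g * y * g⁻¹) * (g * z * g⁻¹) = g * (y * z) * g⁻¹ := by group
      _ = g * (z * y) * g⁻¹ := by rw [hyz]
      _ = (g * z * g⁻¹) * (g * y * g⁻¹) := by group
  have hmem : ∀ r : ↥R, g * (r : ON) * g⁻¹ ∈ zpowers Cfsg.Agent.KFacts.ON.Words.v := by
    intro r
    obtain ⟨k, hk⟩ := hR r
    refine CpAutON.Seven.two_K0 (x := g * x * g⁻¹) (n := k) ?_ ?_ ?_ ?_ (hcomm (hRx r r.2)) ?_
    · rw [conj_pow, hx]; group
    · intro h
      apply hx1
      calc x = g⁻¹ * (g * x * g⁻¹) * g := by group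
        _ = 1 := by rw [h]; group
    · rw [mem_K0, ← hg]
      exact hcomm hsx.symm
    · rw [mem_K0, ← hg]
      exact hcomm (hsR r r.2)
    · have h3 : (r : ON) ^ 2 ^ k = 1 := congrArg Subtype.val hk
      rw [conj_pow, h3]; group
  have h3 : Nat.card R ≤ Nat.card (zpowers Cfsg.Agent.KFacts.ON.Words.v) := by
    refine Nat.card_le_card_of_injective (fun r => ⟨_, hmem r⟩) fun a b hab => ?_
    have h3 : g * (a : ON) * g⁻¹ = g * (b : ON) * g⁻¹ := congrArg Subtype.val hab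
    exact Subtype.ext (mul_left_cancel (mul_right_cancel h3))
  rw [hRc, Nat.card_zpowers] at h3
  have h4 : orderOf Cfsg.Agent.KFacts.ON.Words.v ≤ 4 := orderOf_le_of_pow_eq_one (by norm_num) CpAutON.Codes.v_four
  omega

theorem not_dvd_cent {x : ON} (hx : orderOf x = 7) {r : ℕ} (hr : r = 11 ∨ r = 31) :
    ¬ r ∣ Nat.card (centralizer ({x} : Set ON)) := by
  intro h
  have hp : Fact r.Prime := ⟨by rcases hr with rfl | rfl <;> norm_num⟩
  obtain ⟨u, hu⟩ := exists_prime_orderOf_dvd_card' r h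
  exact no_comm_all hx hr (by rw [Subgroup.orderOf_coe, hu]) (mem_centralizer_singleton_iff.1 u.2)

theorem index_le {x : ON} (hx : orderOf x = 7) : 3250 ≤ (normalizer (zpowers x : Set ON)).index := by
  have h0 : (normalizer (zpowers x : Set ON)).index ≠ 0 := index_ne_zero_of_finite
  have h1 : 2 ^ 6 ∣ (normalizer (zpowers x : Set ON)).index :=
    pow_dvd_index (p := 7) hx (a := 6) (b := 1) (c := 2) Nat.prime_two (by rw [card_ON]; norm_num) (by norm_num)
      (not_eight hx)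
  have h2 : 11 ^ 1 ∣ (normalizer (zpowers x : Set ON)).index :=
    pow_dvd_index_of_odd (p := 7) hx (a := 1) (b := 0) (by norm_num) (by rw [card_ON]; norm_num) (by norm_num)
      (not_dvd_cent hx (Or.inl rfl))
  have h3 : 31 ^ 1 ∣ (normalizer (zpowers x : Set ON)).index :=
    pow_dvd_index_of_odd (p := 7) hx (a := 1) (b := 0) (by norm_num) (by rw [card_ON]; norm_num) (by norm_num)
      (not_dvd_cent hx (Or.inr rfl))
  have h4 : 2 ^ 6 * (11 ^ 1 * 31 ^ 1) ∣ (normalizer (zpowers x : Set ON)).index :=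
    Nat.Coprime.mul_dvd_of_dvd_of_dvd (by norm_num) h1 (Nat.Coprime.mul_dvd_of_dvd_of_dvd (by norm_num) h2 h3)
  have h5 := Nat.le_of_dvd (Nat.pos_of_ne_zero h0) h4
  omega

end Cfsg.Agent.H47.MeetS.ONan

namespace Cfsg.Agent.H47.MeetS

open Cfsg Cfsg.Agent.H903.SylMeet

theorem meet7_ON {G : Type*} [Group G] [Finite G] [IsSimpleGroup G] (h : Spor.IsoON G) : Meet 7 G := by
  obtain ⟨e⟩ := h
  have hn : Nat.card Spor.ON = 460815505920 := H573.Spor.ONSeven.card_ON
  have hsim : IsSimpleGroup Spor.ON := H573.Spor.ONSeven.simple_ON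
  have hs1 : IsSporadicGroup Spor.ON := by
    have : Spor.IsoON Spor.ON := ⟨MulEquiv.refl _⟩
    unfold IsSporadicGroup; tauto
  refine Meet.congr e.symm (meet_of_index (not_comm_spor hs1) (H498.SporOut.index_le_two hs1) (by norm_num) (k := 3)
    (s := 57) (n := 3250) (by rw [hn]; norm_num) (by norm_num) (fun y hy => ONan.index_le hy) (by norm_num))

end Cfsg.Agent.H47.MeetS
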