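import Mathlib

/-!
# The group `⟨x, y⟩`, `x ^ p = y ^ p = 1`, `c = [x, y]` central (helper47, S5762)

* `card_H` : its order is `p ^ 3` if `c ≠ 1`;
* `conj_rep` : its elements are conjugate to powers of `c`, of `y` or of `x y ^ m`, `m < p`.
-/

set_option autoImplicit false

namespace Cfsg.Agent.H47.MeetExt

variable {G : Type*} [Group G]

structure Ext (p : ℕ) (x y c : G) : Prop where
  xc : c * x = x * c
  yc : c * y = y * c
  xy : x * y * x⁻¹ * y⁻¹ = c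
  xp : x ^ p = 1
  yp : y ^ p = 1
  c1 : c ≠ 1

namespace Ext

variable {p : ℕ} {x y c : G}

/-- the elements -/
def E (x y c : G) (i j k : ℤ) : G := x ^ i * y ^ j * c ^ k

theorem yx (h : Ext p x y c) (n m : ℤ) : y ^ m * x ^ n = x ^ n * y ^ m * c ^ (-(n * m)) := by
  have hx : Commute x c := h.xc.symm
  have hy : Commute y c := h.yc.symm
  have h1 : y * x * y⁻¹ = x * c⁻¹ := by
    have h2 : x * y = c * (y * x) := by
      rw [← h.xy]; group
    have h3 : y * x = c⁻¹ * (x * y) := by rw [h2]; group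
    rw [h3, ← mul_assoc, hx.symm.inv_left.eq]; group
  have h2 : y * x ^ n * y⁻¹ = x ^ n * c ^ (-n) := by
    rw [← conj_zpow, h1, (hx.inv_right).mul_zpow, inv_zpow', ]
  have h3 : (x ^ n)⁻¹ * y * x ^ n = y * c ^ (-n) := by
    have h4 : y * x ^ n = x ^ n * c ^ (-n) * y := by rw [← h2]; group
    rw [mul_assoc, h4, mul_assoc (x ^ n), ← mul_assoc, inv_mul_cancel, one_mul]
    exact ((hy.zpow_right (-n)).eq).symm
  have h5 : (x ^ n)⁻¹ * y ^ m * x ^ n = y ^ m * c ^ (-(n * m)) := by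
    have h6 : ((x ^ n)⁻¹ * y * (x ^ n)⁻¹⁻¹) ^ m = (x ^ n)⁻¹ * y ^ m * (x ^ n)⁻¹⁻¹ := conj_zpow
    rw [inv_inv] at h6
    rw [← h6, h3, (hy.zpow_right (-n)).mul_zpow, ← zpow_mul, neg_mul]
  rw [mul_assoc, ← h5]
  group

theorem E_mul (h : Ext p x y c) (i j k i' j' k' : ℤ) :
    E x y c i j k * E x y c i' j' k' = E x y c (i + i') (j + j') (k + k' - i' * j) := by
  have hx : ∀ a b : ℤ, c ^ a * x ^ b = x ^ b * c ^ a := fun a b =>
    ((show Commute c x from h.xc).zpow_zpow a b).eq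
  have hy : ∀ a b : ℤ, c ^ a * y ^ b = y ^ b * c ^ a := fun a b =>
    ((show Commute c y from h.yc).zpow_zpow a b).eq
  unfold E
  calc x ^ i * y ^ j * c ^ k * (x ^ i' * y ^ j' * c ^ k')
      = x ^ i * y ^ j * (c ^ k * x ^ i') * y ^ j' * c ^ k' := by group
    _ = x ^ i * (y ^ j * x ^ i') * (c ^ k * y ^ j') * c ^ k' := by rw [hx]; group
    _ = x ^ i * x ^ i' * y ^ j * (c ^ (-(i' * j)) * y ^ j') * c ^ k * c ^ k' := by rw [h.yx, hy]; group
    _ = x ^ (i + i') * y ^ (j + j') * c ^ (k + k' - i' * j) := by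
        rw [hy, sub_eq_add_neg, zpow_add, zpow_add, zpow_add, zpow_add, hx' h]
        group
where
  hx' (h : Ext p x y c) {a b : ℤ} : c ^ a * c ^ b = c ^ b * c ^ a := by rw [← zpow_add, ← zpow_add, add_comm]

theorem cp (h : Ext p x y c) : c ^ p = 1 := by
  have h1 := h.yx (p : ℤ) 1
  rw [zpow_natCast, h.xp, mul_one, one_mul, mul_one, zpow_one, zpow_neg, zpow_natCast] at h1
  exact inv_eq_one.1 (mul_left_cancel ((mul_one y).trans h1)).symm

theorem zpow_congr {a : G} (ha : a ^ p = 1) {i j : ℤ} (h : i ≡ j [ZMOD p]) : a ^ i = a ^ j := by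
  obtain ⟨k, hk⟩ := h.dvd
  rw [show j = i + p * k by rw [← hk]; ring, zpow_add, zpow_mul, zpow_natCast, ha, one_zpow, mul_one]

theorem E_congr (h : Ext p x y c) {i j k i' j' k' : ℤ} (hi : i ≡ i' [ZMOD p]) (hj : j ≡ j' [ZMOD p])
    (hk : k ≡ k' [ZMOD p]) : E x y c i j k = E x y c i' j' k' := by
  unfold E
  rw [zpow_congr h.xp hi, zpow_congr h.yp hj, zpow_congr h.cp hk]

theorem E_zero : E x y c 0 0 0 = 1 := by simp [E]

/-- the group -/
def H (h : Ext p x y c) : Subgroup G where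
  carrier := {g | ∃ i j k : ℤ, g = E x y c i j k}
  one_mem' := ⟨0, 0, 0, E_zero.symm⟩
  mul_mem' := by
    rintro _ _ ⟨i, j, k, rfl⟩ ⟨i', j', k', rfl⟩
    exact ⟨_, _, _, h.E_mul _ _ _ _ _ _⟩
  inv_mem' := by
    rintro _ ⟨i, j, k, rfl⟩
    refine ⟨-i, -j, -k - i * j, inv_eq_of_mul_eq_one_right ?_⟩
    rw [h.E_mul, show i + -i = 0 by ring, show j + -j = 0 by ring, show k + (-k - i * j) - -i * j = 0 by ring, E_zero]

theorem conj_x (h : Ext p x y c) (a i j k : ℤ) : x ^ a * E x y c i j k * (x ^ a)⁻¹ = E x y c i j (k + a * j) := by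
  have h1 : E x y c a 0 0 * E x y c i j k * E x y c (-a) 0 0 = E x y c i j (k + a * j) := by
    rw [h.E_mul, h.E_mul]
    congr 1 <;> ring
  rw [← h1]
  simp [E]

theorem conj_y (h : Ext p x y c) (b i j k : ℤ) : y ^ b * E x y c i j k * (y ^ b)⁻¹ = E x y c i j (k - b * i) := by
  have h1 : E x y c 0 b 0 * E x y c i j k * E x y c 0 (-b) 0 = E x y c i j (k - b * i) := by
    rw [h.E_mul, h.E_mul]
    congr 1 <;> ring
  rw [← h1]
  simp [E]

theorem dvd_of_c (h : Ext p x y c) [hp : Fact p.Prime] {i : ℤ} (hi : c ^ i = 1) : (p : ℤ) ∣ i := by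
  rw [← orderOf_eq_prime h.cp h.c1]
  exact orderOf_dvd_iff_zpow_eq_one.2 hi

theorem E_inj (h : Ext p x y c) [hp : Fact p.Prime] {i j k i' j' k' : ℤ} (he : E x y c i j k = E x y c i' j' k') :
    i ≡ i' [ZMOD p] ∧ j ≡ j' [ZMOD p] ∧ k ≡ k' [ZMOD p] := by
  have key : ∀ {i j k : ℤ}, E x y c i j k = 1 → (p : ℤ) ∣ i ∧ (p : ℤ) ∣ j ∧ (p : ℤ) ∣ k := by
    intro i j k h1
    have hj : (p : ℤ) ∣ j := by
      have h2 := h.conj_x 1 i j k
      rw [h1, mul_one, mul_inv_cancel, one_mul] at h2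
      apply h.dvd_of_c
      have h3 : E x y c i j (k + j) = E x y c i j k * c ^ j := by
        unfold E
        rw [zpow_add]; group
      rw [h3, h1, one_mul] at h2
      exact h2.symm
    have hi : (p : ℤ) ∣ i := by
      have h2 := h.conj_y 1 i j k
      rw [h1, mul_one, mul_inv_cancel, one_mul] at h2
      have h3 : E x y c i j (k - i) = E x y c i j k * c ^ (-i) := by
        unfold E
        rw [sub_eq_add_neg, zpow_add]; group
      rw [h3, h1, one_mul] at h2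
      have := h.dvd_of_c h2.symm
      rwa [dvd_neg] at this
    refine ⟨hi, hj, h.dvd_of_c ?_⟩
    have h2 := h.E_congr (k := k) (k' := k) (Int.modEq_zero_iff_dvd.2 hi) (Int.modEq_zero_iff_dvd.2 hj) rfl
    rw [h1] at h2
    simpa [E] using h2.symm
  have h1 : E x y c (i - i') (j - j') (k + (-k' - i' * j') - -i' * j) = 1 := by
    have h2 : E x y c i' j' k' * E x y c (-i') (-j') (-k' - i' * j') = 1 := by
      rw [h.E_mul, show i' + -i' = 0 by ring, show j' + -j' = 0 by ring,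
        show k' + (-k' - i' * j') - -i' * j' = 0 by ring, E_zero]
    rw [← he, h.E_mul, ← sub_eq_add_neg, ← sub_eq_add_neg] at h2
    exact h2
  obtain ⟨h2, h3, h4⟩ := key h1
  refine ⟨(Int.modEq_iff_dvd.2 (by rw [← neg_sub]; exact (dvd_neg.2 h2))),
    (Int.modEq_iff_dvd.2 (by rw [← neg_sub]; exact (dvd_neg.2 h3))), ?_⟩
  apply Int.modEq_iff_dvd.2
  have h5 : k' - k = -(k + (-k' - i' * j') - -i' * j) + i' * (j - j') := by ring
  rw [h5]
  exact dvd_add (dvd_neg.2 h4) (Dvd.dvd.mul_left h3 _)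

theorem card_H (h : Ext p x y c) [hp : Fact p.Prime] : Nat.card h.H = p ^ 3 := by
  have hp0 : (p : ℤ) ≠ 0 := by exact_mod_cast hp.out.ne_zero
  have hpp : 0 < (p : ℤ) := by exact_mod_cast hp.out.pos
  have h1 : Nat.card (Fin p × Fin p × Fin p) = p ^ 3 := by
    rw [Nat.card_prod, Nat.card_prod, Nat.card_eq_fintype_card, Fintype.card_fin]; ring
  rw [← h1]
  symm
  refine Nat.card_congr (Equiv.ofBijective
    (fun t : Fin p × Fin p × Fin p => (⟨E x y c (t.1 : ℕ) (t.2.1 : ℕ) (t.2.2 : ℕ), ⟨_, _, _, rfl⟩⟩ : h.H)) ⟨?_, ?_⟩)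
  · rintro ⟨i, j, k⟩ ⟨i', j', k'⟩ heq
    obtain ⟨h2, h3, h4⟩ := h.E_inj (congrArg Subtype.val heq)
    have key : ∀ a b : Fin p, ((a : ℕ) : ℤ) ≡ ((b : ℕ) : ℤ) [ZMOD p] → a = b := by
      intro a b hab
      have h5 := (Int.natCast_modEq_iff).1 hab
      rw [Nat.ModEq, Nat.mod_eq_of_lt a.2, Nat.mod_eq_of_lt b.2] at h5
      exact Fin.ext h5
    exact Prod.ext (key _ _ h2) (Prod.ext (key _ _ h3) (key _ _ h4))
  · rintro ⟨g, i, j, k, rfl⟩
    have key : ∀ i : ℤ, ∃ a : Fin p, ((a : ℕ) : ℤ) ≡ i [ZMOD p] := by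
      intro i
      have h2 := Int.emod_nonneg i hp0
      have h3 := Int.emod_lt_of_pos i hpp
      refine ⟨⟨(i % p).toNat, by omega⟩, ?_⟩
      show (((i % p).toNat : ℕ) : ℤ) ≡ i [ZMOD p]
      rw [Int.toNat_of_nonneg h2]
      exact Int.mod_modEq i p
    obtain ⟨a, ha⟩ := key i
    obtain ⟨b, hb⟩ := key j
    obtain ⟨d, hd⟩ := key k
    exact ⟨(a, b, d), Subtype.ext (h.E_congr ha hb hd)⟩

theorem pow_xy (h : Ext p x y c) (m : ℤ) (n : ℕ) : ∃ t : ℤ, (x * y ^ m) ^ n = E x y c n (m * n) t := by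
  induction n with
  | zero => exact ⟨0, by simp [E]⟩
  | succ n ih =>
    obtain ⟨t, ht⟩ := ih
    have h1 : x * y ^ m = E x y c 1 m 0 := by simp [E]
    refine ⟨t + 0 - 1 * (m * n), ?_⟩
    rw [pow_succ, ht, h1, h.E_mul]
    congr 1
    push_cast; ring

/-- **Representatives.** -/
theorem conj_rep (h : Ext p x y c) [hp : Fact p.Prime] {g : G} (hg : g ∈ h.H) :
    ∃ a : G, (∃ n : ℤ, a * g * a⁻¹ = c ^ n) ∨ (∃ n : ℤ, a * g * a⁻¹ = y ^ n) ∨
      ∃ m < p, ∃ n : ℕ, a * g * a⁻¹ = (x * y ^ m) ^ n := by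
  obtain ⟨i, j, k, rfl⟩ := hg
  have hp0 : (p : ℤ) ≠ 0 := by exact_mod_cast hp.out.ne_zero
  have hpp : 0 < (p : ℤ) := by exact_mod_cast hp.out.pos
  have hpZ : Prime (p : ℤ) := Nat.prime_iff_prime_int.1 hp.out
  -- division modulo `p`
  have div : ∀ a b : ℤ, ¬ (p : ℤ) ∣ a → ∃ d : ℤ, d * a ≡ b [ZMOD p] := by
    intro a b ha
    have hco : IsCoprime a (p : ℤ) := (hpZ.coprime_iff_not_dvd.2 ha).symm
    obtain ⟨u, v, huv⟩ := hco
    refine ⟨b * u, ?_⟩
    apply Int.modEq_iff_dvd.2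
    exact ⟨b * v, by linear_combination (-b) * huv⟩
  by_cases hi : (p : ℤ) ∣ i
  · by_cases hj : (p : ℤ) ∣ j
    · refine ⟨1, Or.inl ⟨k, ?_⟩⟩
      rw [h.E_congr (Int.modEq_zero_iff_dvd.2 hi) (Int.modEq_zero_iff_dvd.2 hj) (Int.ModEq.refl k)]
      simp [E]
    · obtain ⟨d, hd⟩ := div j (-k) hj
      refine ⟨x ^ d, Or.inr (Or.inl ⟨j, ?_⟩)⟩
      rw [h.conj_x, h.E_congr (Int.modEq_zero_iff_dvd.2 hi) (Int.ModEq.refl j)
        (show k + d * j ≡ 0 [ZMOD p] by simpa using (Int.ModEq.refl k).add hd)]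
      simp [E]
  · obtain ⟨m, hm⟩ := div i j hi
    -- natural representatives
    have h2 := Int.emod_nonneg i hp0
    have h3 := Int.emod_nonneg m hp0
    have h4 := Int.emod_lt_of_pos m hpp
    obtain ⟨n, hn⟩ : ∃ n : ℕ, (n : ℤ) ≡ i [ZMOD p] :=
      ⟨(i % p).toNat, by rw [Int.toNat_of_nonneg h2]; exact Int.mod_modEq i p⟩
    obtain ⟨m', hm', hm1⟩ : ∃ m' : ℕ, m' < p ∧ (m' : ℤ) ≡ m [ZMOD p] :=
      ⟨(m % p).toNat, by omega, by rw [Int.toNat_of_nonneg h3]; exact Int.mod_modEq m p⟩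
    obtain ⟨t, ht⟩ := h.pow_xy (m' : ℤ) n
    obtain ⟨b, hb⟩ := div i (k - t) hi
    refine ⟨y ^ b, Or.inr (Or.inr ⟨m', hm', n, ?_⟩)⟩
    rw [h.conj_y]
    have h5 : y ^ m' = y ^ (m' : ℤ) := (zpow_natCast y m').symm
    rw [h5, ht]
    refine h.E_congr hn.symm ?_ ?_
    · exact (hm.symm).trans ((hm1.symm).mul (hn.symm))
    · have h6 : k - b * i ≡ k - (k - t) [ZMOD p] := (Int.ModEq.refl k).sub hb
      simpa using h6

end Ext

end Cfsg.Agent.H47.MeetExt
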