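import Cfsg.Agent.H47.CubeTool
import Cfsg.Agent.MonsterX.ThOneClass
import Cfsg.Agent.KFacts.Th.Main
import Cfsg.Agent.R10.Close
import Cfsg.Agent.TypeM.OutLyFin
import Cfsg.Agent.KFacts.J4.DFour
import Cfsg.Agent.KFacts.J4.SheetJ4
import Cfsg.Agent.OddHalf.Table.OutRu
import Cfsg.Agent.CTwoTab.Ru
import Cfsg.Agent.Ru127.Y
import Cfsg.Agent.NotCT.Orders
import Cfsg.Agent.S1627
import Cfsg.Agent.SporadicA.M24Trans

/-!
# The cube bound for `J4`, `Ru`, `Ly`, `Th` (helper47, S5721)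
-/

set_option autoImplicit false

namespace Cfsg.Agent.H47.Cube

open Subgroup Cfsg Cfsg.Agent.H383.Cube

universe u

theorem orderOf_two {K : Type*} [Group K] {t : K} (h : t * t = 1) (h1 : t ≠ 1) : orderOf t = 2 :=
  orderOf_eq_prime (by rw [pow_two]; exact h) h1

theorem cube_Th {G : Type*} [Group G] (h : Spor.IsoTh G) : CubeBound G := by
  have hn : Nat.card Spor.Th = 90745943887872000 := NotCT.Orders.th ⟨MulEquiv.refl _⟩
  obtain ⟨e⟩ := h
  have hs : IsSimpleGroup Spor.Th := Cfsg.Agent.Th.Main1700.isTh.1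
  refine CubeBound.congr e.symm (inner_of_cent (m := 92897280) Cfsg.Agent.KFacts.Th.Main.inner hn (by norm_num)
    (by norm_num) fun t ht ht1 => ?_)
  rw [Cfsg.Agent.MonsterX.ThOneClass.card_centralizer (orderOf_two ht ht1)]

theorem cube_Ly {G : Type*} [Group G] (h : Spor.IsoLy G) : CubeBound G := by
  have hn : Nat.card Spor.Ly = 51765179004000000 := NotCT.Orders.ly ⟨MulEquiv.refl _⟩
  obtain ⟨e⟩ := h
  have hs : IsSimpleGroup Spor.Ly := Cfsg.Agent.Ly.Setup.isSimple_ly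
  refine CubeBound.congr e.symm (inner_of_cent (m := 39916800) (fun α => ?_) hn (by norm_num)
    (by norm_num) fun t ht ht1 => ?_)
  · obtain ⟨g, hg⟩ := Cfsg.Agent.TypeM.OutLyFin.inner ⟨MulEquiv.refl _⟩ α
    exact ⟨g, hg.symm⟩
  · obtain ⟨g, hg⟩ := R10.Close.one_class (orderOf_two ht ht1)
    rw [← card_cent_conj (isConj_iff.2 ⟨g, hg⟩), R10.Close.cover_τ.1]

theorem cube_J4 {G : Type*} [Group G] (h : Spor.IsoJ4 G) : CubeBound G := by
  have hn : Nat.card G = 86775571046077562880 := NotCT.Orders.j4 h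
  obtain ⟨hf, hs, ⟨F⟩⟩ := Cfsg.Agent.KFacts.J4.Base.exists_full h
  refine inner_of_cent (m := 244823040) (Cfsg.Agent.KFacts.J4.SheetJ4.inner F) hn (by norm_num)
    (by norm_num) fun t ht ht1 => ?_
  obtain ⟨g, hg⟩ := Cfsg.Agent.KFacts.J4.DFour.exists_conj_E F.C ht ht1
  rw [card_cent_conj (isConj_iff.2 ⟨g, rfl⟩)]
  have h1 := le_cent (N := normalizer (F.C.E Cfsg.Agent.J4Type.hex0 : Set G))
    (fun n hn e he => (mem_normalizer_iff.1 hn e).1 he) hg
  have hE : Nat.card (F.C.E Cfsg.Agent.J4Type.hex0) = 2 ^ 11 :=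
    F.C.E_card _ Cfsg.Agent.J4Type.HexMax.hex0_isHex
  have hN : Nat.card (normalizer (F.C.E Cfsg.Agent.J4Type.hex0 : Set G)) = 2 ^ 11 * 244823040 := by
    have hsurj : Function.Surjective F.C.π := F.C.π_surj
    have hk : Nat.card F.C.π.ker = 2 ^ 11 := by
      rw [← hE]
      refine Nat.card_congr ⟨fun x => ⟨((x : normalizer (F.C.E Cfsg.Agent.J4Type.hex0 : Set G)) : G),
        (F.C.π_ker x).1 x.2⟩, fun y => ⟨⟨y, le_normalizer y.2⟩, (F.C.π_ker _).2 y.2⟩, fun x => rfl, fun y => rfl⟩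
    have h3 := Subgroup.card_eq_card_quotient_mul_card_subgroup F.C.π.ker
    rw [Nat.card_congr (QuotientGroup.quotientKerEquivOfSurjective _ hsurj).toEquiv, hk,
      SporadicA.M24Trans.card_M24] at h3
    rw [h3, mul_comm]
  rw [hE, hN] at h1
  exact Nat.le_of_mul_le_mul_left h1 (by norm_num)

theorem cube_Ru {G : Type*} [Group G] (h : Spor.IsoRu G) : CubeBound G := by
  have hn : Nat.card G = 145926144000 := NotCT.Orders.ru h
  have hf : Finite G := Nat.finite_of_card_ne_zero (by rw [hn]; norm_num)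
  obtain ⟨C, -, hL⟩ := CTwoTab.Ru.exists_core_sz h
  have hs : IsSimpleGroup G := by
    obtain ⟨e⟩ := h
    exact (MulEquiv.isSimpleGroup_congr e).2 Cfsg.Agent.S1627.result.2.2
  refine inner_of_cent (m := 29120) (fun α => ?_) hn (by norm_num)
    (by norm_num) fun t ht ht1 => ?_
  · obtain ⟨e⟩ := h
    obtain ⟨g, hg⟩ := Cfsg.Agent.OddHalf.Table.OutRu.inner (MulAut.congr (e.trans Cfsg.Agent.RuLat.Main.equiv) α)
    refine ⟨(e.trans Cfsg.Agent.RuLat.Main.equiv).symm g, ?_⟩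
    ext x
    have h1 := congrArg (fun β : MulAut Cfsg.Agent.SporadicB.RuOrder.H => β ((e.trans Cfsg.Agent.RuLat.Main.equiv) x)) hg
    apply (e.trans Cfsg.Agent.RuLat.Main.equiv).injective
    simpa [MulAut.congr] using h1
  · rcases Cfsg.Agent.KFacts.Ru.InvC.invol_cases C ht ht1 with ⟨g, hg⟩ | ⟨g, a, ha, hg⟩
    · rw [← card_cent_conj (isConj_iff.2 ⟨g, hg⟩), Ru127.Sg.card_cent C]
      norm_num
    · rw [← card_cent_conj (isConj_iff.2 ⟨g, hg⟩), ← hL]
      exact le_cent_of_sub fun x hx => (C.v_comm a x hx).symm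

end Cfsg.Agent.H47.Cube
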