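import Cfsg.Agent.H47.CubeTool
import Cfsg.Agent.CTwoTab.Co1
import Cfsg.Agent.ConwayFacts.AutCo1
import Cfsg.Agent.CTwoTab.Co3
import Cfsg.Agent.KFacts.Co3.Sheet
import Cfsg.Agent.KFacts.Co2D4.Sheet
import Cfsg.Agent.KFacts.CoTwo.QuotInst
import Cfsg.Agent.KFacts.CoTwo.Main
import Cfsg.Agent.KFacts.FiTTh.BasInv
import Cfsg.Agent.KFacts.FiTTh.Has
import Cfsg.Agent.NotCT.Orders
import Cfsg.Agent.S0358
import Cfsg.Agent.SporadicA.M24Trans

/-!
# The cube bound for `Co1`, `Co2`, `Co3`, `Fi23` (helper47, S5721)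
-/

set_option autoImplicit false

namespace Cfsg.Agent.H47.Cube

open Subgroup Cfsg Cfsg.Agent.H383.Cube

/-- the centralizer of an image modulo a central subgroup of order two -/
theorem card_le_of_fibre {X Y : Type*} [Finite X] [Finite Y] (f : X → Y) (s : X → X)
    (h : ∀ a b, f a = f b → a = b ∨ a = s b) : Nat.card X ≤ 2 * Nat.card Y := by
  classical
  have h2 : Nat.card Bool = 2 := by simp
  rw [← h2, mul_comm, ← Nat.card_prod]
  let g : Y → Option X := fun y => if h : ∃ x, f x = y then some h.choose else none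
  refine Nat.card_le_card_of_injective (fun x : X => (f x, decide (g (f x) = some x))) ?_
  intro a b hab
  have h1 : f a = f b := congrArg Prod.fst hab
  have h3 : decide (g (f a) = some a) = decide (g (f b) = some b) := congrArg Prod.snd hab
  have hex : ∃ x, f x = f b := ⟨b, rfl⟩
  have hg : g (f b) = some hex.choose := by simp only [g, dif_pos hex]
  have hs := hex.choose_spec
  rw [h1, hg, decide_eq_decide, Option.some_inj, Option.some_inj] at h3
  by_cases h4 : hex.choose = b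
  · exact (h3.2 h4).symm.trans h4
  · have h5 : hex.choose ≠ a := fun h => h4 (h3.1 h)
    rcases h _ _ hs with h6 | h6
    · exact absurd h6 h4
    · rcases h _ _ (hs.trans h1.symm) with h7 | h7
      · exact absurd h7 h5
      · rcases h _ _ h1 with h8 | h8
        · exact h8
        · exact absurd (h6.trans h8.symm) h5

theorem orderOf_two' {K : Type*} [Group K] {t : K} (h : t * t = 1) (h1 : t ≠ 1) : orderOf t = 2 :=
  orderOf_eq_prime (by rw [pow_two]; exact h) h1

/-! ### `Fi23` -/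

theorem cube_Fi23 {G : Type*} [Group G] (h : Spor.IsoFi23 G) : CubeBound G := by
  have hn : Nat.card Spor.Fi23 = 4089470473293004800 := NotCT.Orders.fi23 ⟨MulEquiv.refl _⟩
  obtain ⟨e⟩ := h
  have hs : IsSimpleGroup Spor.Fi23 := Cfsg.Agent.S1697.result.1
  have hf : Finite Spor.Fi23 := KFacts.FiTTh.BasInv.finite
  refine CubeBound.congr e.symm (inner_of_cent (m := 10200960) KFacts.FiTTh.Has.inn hn (by norm_num)
    (by norm_num) fun t ht ht1 => ?_)
  obtain ⟨y, hy, hc⟩ := KFacts.FiTTh.BasInv.exists_conj ht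
  rw [card_cent_conj hc]
  have h1 := le_cent (N := normalizer (KFacts.FiTTh.BasDef.A KFacts.FiTTh.BasFi.e : Set Spor.Fi23))
    (fun n hn e he => (mem_normalizer_iff.1 hn e).1 he) hy
  rw [KFacts.FiTTh.BasInv.loc.cardA, KFacts.FiTTh.BasInv.cardN] at h1
  exact Nat.le_of_mul_le_mul_left h1 (by norm_num)

/-! ### `Co3` -/

theorem cube_Co3 {G : Type*} [Group G] (h : Spor.IsoCo3 G) : CubeBound G := by
  obtain ⟨e⟩ := h
  have hf : Finite _ := CTwoTab.Co3.finite_G3
  obtain ⟨w, D⟩ := CTwoTab.Co3.exists_data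
  have hi := SporRec.Co3.Chain.isCo3_G3
  have hs := hi.1
  refine CubeBound.congr (SporRec.Co3.Model.equivCo3.trans e.symm) (inner_of_cent (m := 95040)
    (KFacts.Co3.Sheet.inner_of (MulEquiv.refl _)) hi.2 (by norm_num) (by norm_num) fun t ht ht1 => ?_)
  obtain ⟨g, hg | hg⟩ := D.cls t (orderOf_two' ht ht1)
  · obtain ⟨π, N⟩ := D.ns
    rw [hg, ← card_cent_conj (isConj_iff.2 ⟨g, rfl⟩), CTwoTab.Co3.card_of_NS N]
    norm_num
  · rw [hg, ← card_cent_conj (isConj_iff.2 ⟨g, rfl⟩), ← D.card]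
    obtain ⟨f, hf1, -⟩ := D.hom
    exact le_cent_of_surj hf1

/-! ### `Co2` -/

section

open Cfsg.Agent.SporadicA.GolayBase Cfsg.Agent.SporadicA.GolayPerm
open Cfsg.Agent.SporadicStructure.M24El
open Cfsg.Agent.Co2Type.Mono Cfsg.Agent.Co2Type.TData Cfsg.Agent.Co2Type.TGroup Cfsg.Agent.Co2Type.FactsD
open Cfsg.Agent.Co2Type.TCard Cfsg.Agent.Co2Type.FactsClass Cfsg.Agent.Co2Type.Facts

/-- a permutation of order 3 in `M22` stabilising `mv` -/
def PV3 : ℕ := 984251285326018339970941658112106784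

theorem chkPV3 : (okP PV3 && Nat.blt PV3 (2 ^ 120) && Nat.beq (pimg PV3 mv) mv && !(Nat.beq PV3 idP) &&
    Nat.beq (pcomp PV3 (pcomp PV3 PV3)) idP) = true := by decide +kernel

theorem le_cent_v : 3 * 2 ^ 15 ≤ Nat.card (centralizer ({ge mv} : Set Spor.Co2)) := by
  have := KFacts.Co2D4.finite_co2
  have h := chkPV3
  rw [Bool.and_eq_true, Bool.and_eq_true, Bool.and_eq_true, Bool.and_eq_true] at h
  obtain ⟨⟨⟨⟨h1, h2⟩, h3⟩, h4⟩, h5⟩ := h
  have h2' : PV3 < 2 ^ 120 := Nat.blt_eq.mp h2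
  have h3' : pimg PV3 mv = mv := Nat.eq_of_beq_eq_true h3
  have h4' : PV3 ≠ idP := by
    intro h6
    rw [h6] at h4
    exact absurd h4 (by decide +kernel)
  have h5' : pcomp PV3 (pcomp PV3 PV3) = idP := Nat.eq_of_beq_eq_true h5
  have hc : mo2 0 PV3 ∈ centralizer ({ge mv} : Set Spor.Co2) := by
    rw [mem_centralizer_singleton_iff]
    exact (comm_E_iff inE_zero (by decide +kernel) h1 h2').2 h3'
  have ho : orderOf (⟨_, hc⟩ : centralizer ({ge mv} : Set Spor.Co2)) = 3 := by
    rw [Subgroup.orderOf_mk]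
    refine orderOf_eq_prime ?_ ?_
    · have h6 : okP (pcomp PV3 PV3) = true := okP_pcomp h1 h1
      have h8 : ∀ {P : ℕ}, isPerm P = true → (0 : ℕ) ^^^ pimg P 0 = 0 := fun hP => by
        rw [pimg_zero hP, Nat.xor_self]
      have h9 : isPerm PV3 = true := isPerm_of_ok (ok_of_okP h1)
      rw [pow_succ', pow_two, mo2_mul inE_zero inE_zero h1 h1, h8 h9, mo2_mul inE_zero inE_zero h1 h6, h8 h9, h5',
        mo2_one]
    · intro h6
      rw [← mo2_one] at h6
      exact h4' (mo2_inj inE_zero inE_zero h1 okP_idP h2' idP_lt h6).2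
  have hd3 : 3 ∣ Nat.card (centralizer ({ge mv} : Set Spor.Co2)) := ho ▸ orderOf_dvd_natCard _
  have hd2 : 2 ^ 15 ∣ Nat.card (centralizer ({ge mv} : Set Spor.Co2)) := by
    rw [← cardv]
    apply Subgroup.card_dvd_of_le
    intro x hx
    exact mem_centralizer_singleton_iff.2 (mem_cent.1 hx).2.symm
  exact Nat.le_of_dvd Nat.card_pos (Nat.Coprime.mul_dvd_of_dvd_of_dvd (by norm_num) hd3 hd2)

theorem le_cent_z : 2 ^ 18 ≤ Nat.card (centralizer ({ge mz} : Set Spor.Co2)) := by
  have := KFacts.Co2D4.finite_co2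
  rw [← card_T]
  exact le_cent_of_sub z_comm

theorem le_cent_y : 2 ^ 17 ≤ Nat.card (centralizer ({ge my} : Set Spor.Co2)) := by
  have := KFacts.Co2D4.finite_co2
  rw [← cardy]
  exact le_cent_of_sub fun x hx => (mem_cent.1 hx).2.symm

theorem cube_Co2 {G : Type*} [Group G] (h : Spor.IsoCo2 G) : CubeBound G := by
  obtain ⟨e⟩ := h
  have hf := KFacts.Co2D4.finite_co2
  have hs := Cfsg.Agent.Co2Type.SimpleCo2.simple_co2
  refine CubeBound.congr e.symm (inner_of_cent (m := 3 * 2 ^ 15)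
    (KFacts.CoTwo.Main.allInner_iso (MulEquiv.refl _)) Cfsg.Agent.Co2Type.CardCo2.card_co2 (by norm_num)
    (by norm_num) fun t ht ht1 => ?_)
  rcases classes ht ht1 with h | h | h
  · rw [← card_cent_conj h]
    exact le_trans (by norm_num) le_cent_z
  · rw [← card_cent_conj h]
    exact le_trans (by norm_num) le_cent_y
  · rw [← card_cent_conj h]
    exact le_cent_v

end

/-! ### `Co1` -/

section

open Cfsg.Agent.SporadicA.Co0Mono
open Cfsg.Agent.SporadicA.Co1Simple (allOne exists_sign_perm)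
open Cfsg.Agent.SporadicA.GolayBase Cfsg.Agent.SporadicA.GolayPerm
open Cfsg.Agent.CoOneType.SignFacts (wt wt_add_allOne sign_allOne_comm)
open Cfsg.Agent.CoOneType.ClosingFacts (mk mk_mul mk_inv exists_mk mk_eq_one mk_eq)

theorem le_cent_sign (c : golayCode) : 122411520 ≤ Nat.card (centralizer ({mk (signCo0 c)} : Set Spor.Co1)) := by
  have hf0 : Finite Co0 := Cfsg.Agent.CoOneType.FrameFix.finite_co0
  have hf1 : Finite Spor.Co1 := Nat.finite_of_card_ne_zero (by rw [Cfsg.Agent.S0399.result.2]; norm_num)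
  have hfC : Finite golayCode := Nat.finite_of_card_ne_zero (by rw [Cfsg.Agent.S0358.card_golayCode]; norm_num)
  have h1 := le_cent_of_map (fun x : golayCode × M24 => signCo0 x.1 * permCo0 x.2) (fun x y hxy => by
    obtain ⟨h1, h2⟩ := Cfsg.Agent.MonsterU.CoFrameF.sp_inj hxy
    exact Prod.ext h1 h2) (signCo0 c) (fun y : golayCode => signCo0 y) (fun x => ⟨wordPerm x.2 c, by
    obtain ⟨a, σ⟩ := x
    have h3 : (signCo0 a * permCo0 σ) * signCo0 c * (signCo0 a * permCo0 σ)⁻¹ =
        signCo0 a * (permCo0 σ * signCo0 c * (permCo0 σ)⁻¹) * (signCo0 a)⁻¹ := by group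
    rw [h3, perm_mul_sign_mul_inv, signCo0_inv, ← signCo0_add, ← signCo0_add]
    congr 1
    rw [add_comm a, add_assoc, Cfsg.Agent.SporadicA.Co1Simple.signCo0_add_self a, add_zero]⟩)
  rw [Nat.card_prod, Cfsg.Agent.S0358.card_golayCode, SporadicA.M24Trans.card_M24] at h1
  have h2 : 244823040 ≤ Nat.card (centralizer ({signCo0 c} : Set Co0)) := Nat.le_of_mul_le_mul_left h1 (by norm_num)
  have h3 := card_le_of_fibre (X := centralizer ({signCo0 c} : Set Co0))
    (Y := centralizer ({mk (signCo0 c)} : Set Spor.Co1))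
    (fun x => ⟨mk x, by
      rw [mem_centralizer_singleton_iff, ← mk_mul, mem_centralizer_singleton_iff.1 x.2, mk_mul]⟩)
    (fun x => ⟨x * signCo0 allOne, mul_mem x.2 (by
      rw [mem_centralizer_singleton_iff, ← signCo0_add, ← signCo0_add, add_comm])⟩)
    (fun a b hab => by
      rcases (mk_eq _ _).1 (congrArg Subtype.val hab) with h | h
      · exact Or.inl (Subtype.ext h)
      · exact Or.inr (Subtype.ext h))
  omega

theorem cube_Co1 {G : Type*} [Group G] (h : Spor.IsoCo1 G) : CubeBound G := by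
  obtain ⟨e⟩ := h
  have hf : Finite Spor.Co1 := Nat.finite_of_card_ne_zero (by rw [Cfsg.Agent.S0399.result.2]; norm_num)
  have hs : IsSimpleGroup Spor.Co1 := Cfsg.Agent.S0399.result.1
  refine CubeBound.congr e.symm (inner_of_cent (m := 122411520) (fun α => ?_) Cfsg.Agent.S0399.result.2 (by norm_num)
    (by norm_num) fun t ht ht1 => ?_)
  · obtain ⟨s, hs⟩ := Cfsg.Agent.ConwayFacts.AutCo1.inner α
    exact ⟨s, MulEquiv.ext hs⟩
  · obtain ⟨g, s, hr, hg⟩ := CTwoTab.Co1.exists_rep t (orderOf_two' ht ht1)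
    rw [hg, ← card_cent_conj (isConj_iff.2 ⟨g, rfl⟩)]
    rcases hr with ⟨o, -, rfl⟩ | ⟨o, -, rfl⟩ | rfl
    · exact le_cent_sign o
    · exact le_cent_sign o
    · have h1 := le_cent_of_sub (K := Spor.Co1) KFacts.Co1D4.TwoB.Lw
      rw [KFacts.Co1D4.GTwo.card_L] at h1
      exact le_trans (by norm_num) h1

end

end Cfsg.Agent.H47.Cube
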