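import Cfsg.Agent.H47.Meet3Tool
import Cfsg.Agent.BpSpor.RuThreeC
import Cfsg.Agent.CTwoTab.Ru

/-!
# Trivial Sylow 3-intersections: `Ru` (helper47, S2484)
-/

set_option autoImplicit false

namespace Cfsg.Agent.H47.MeetS

open Subgroup

/-- the 2-part of the centralizer of an element from the centralizers of the involutions -/
theorem not_pow_dvd_cent {G : Type*} [Group G] [Finite G] {r n : ℕ} [hr : Fact r.Prime] {x : G}
    (hn : n ≠ 0)
    (h : ∀ t : G, orderOf t = r → x * t = t * x →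
      ¬ r ^ n ∣ Nat.card ↥(centralizer ({t} : Set G) ⊓ centralizer ({x} : Set G))) :
    ¬ r ^ n ∣ Nat.card ↥(centralizer ({x} : Set G)) := by
  intro hd
  obtain ⟨Q, hQ⟩ := Sylow.exists_subgroup_card_pow_prime r hd
  have hQp : IsPGroup r Q := IsPGroup.of_card hQ
  have hnt : Nontrivial Q := by
    rw [← Finite.one_lt_card_iff_nontrivial, hQ]
    exact Nat.one_lt_pow hn hr.out.one_lt
  have hz := hQp.center_nontrivial
  have hzp : IsPGroup r (center Q) := hQp.to_subgroup _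
  have hdz : r ∣ Nat.card (center Q) := by
    obtain ⟨k, hk⟩ := hzp.exists_card_eq
    have h1 := Finite.one_lt_card_iff_nontrivial.2 hz
    rw [hk] at h1 ⊢
    rcases Nat.eq_zero_or_pos k with h0 | h0
    · subst h0
      rw [pow_zero] at h1
      exact absurd h1 (lt_irrefl 1)
    · exact dvd_pow_self r h0.ne'
  obtain ⟨t, ht⟩ := exists_prime_orderOf_dvd_card' r hdz
  set t' : G := (((t : Q) : centralizer ({x} : Set G)) : G) with ht'
  have h1 : orderOf t' = r := by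
    rw [ht', Subgroup.orderOf_coe, Subgroup.orderOf_coe, Subgroup.orderOf_coe, ht]
  have h2 : x * t' = t' * x := (mem_centralizer_singleton_iff.1 (t : Q).1.2).symm
  refine h t' h1 h2 ?_
  have hle : Q.map (centralizer ({x} : Set G)).subtype ≤ centralizer ({t'} : Set G) ⊓ centralizer ({x} : Set G) := by
    rintro _ ⟨q, hq, rfl⟩
    refine ⟨mem_centralizer_singleton_iff.2 ?_, q.2⟩
    have h3 := (mem_center_iff.1 t.2) ⟨q, hq⟩
    exact congrArg (fun s : Q => ((s : centralizer ({x} : Set G)) : G)) h3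
  have h4 := Subgroup.card_dvd_of_le hle
  rwa [← Nat.card_congr (Q.equivMapOfInjective _ (centralizer ({x} : Set G)).subtype_injective).toEquiv, hQ] at h4

end Cfsg.Agent.H47.MeetS

namespace Cfsg.Agent.H47.MeetS.RuThree

open Subgroup Cfsg Cfsg.Agent.RuB Cfsg.Agent.RuB.Core Cfsg.Agent.RuB.Count Cfsg.Agent.RuB.NormQ
open Cfsg.Agent.RuB.NormZ Cfsg.Agent.KFacts.Ru Cfsg.Agent.BpSpor Cfsg.Agent.BpSpor.RuThree

/-- the class 2A -/
theorem bd_z {G : Type*} [Group G] [Finite G] (C : Core G) : Cen.Bd 3 (C.z 1) := by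
  intro x hx hxz
  obtain ⟨K, hν, hμ, L, hcz⟩ := Cfsg.Agent.Ru127.Sg.exists_localData C
  have hz1 : C.z 1 ≠ 1 := fun h => one_ne_zero (C.z_eq_one h)
  have h5 := InvC.card_sig C _ Local.Zs_mem_ZZ _ (z_mem_Zs 1) hz1
  exact ⟨1, card_dvd L hz1 h5 hx hxz⟩

/-- no element of order 3 commutes with an involution of the class 2B -/
theorem bd_v {G : Type*} [Group G] [Finite G] (C : Core G) (hL : Nat.card ↥C.L = 29120) {a : A4} (ha : a ≠ 0) :
    Cen.Bd 3 (C.v a) := by
  intro x hx hxv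
  exfalso
  obtain ⟨b, l, hl, rfl⟩ := C.cent a ha x hxv
  have h1 : C.v b * l = l * C.v b := C.v_comm b l hl
  have h2 : (C.v b * l) ^ 3 = 1 := by rw [← hx]; exact pow_orderOf_eq_one _
  have h3 : C.v b * C.v b = 1 := C.v_sq b
  have h4 : C.v b * l ^ 3 = 1 := by
    have h5 : (C.v b * l) ^ 3 = C.v b ^ 3 * l ^ 3 := (Commute.mul_pow h1 3)
    rw [h5, pow_succ, pow_two, h3, one_mul] at h2
    exact h2
  have h5 : C.v b ∈ C.L := by
    rw [mul_eq_one_iff_eq_inv.1 h4]
    exact inv_mem (pow_mem hl 3)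
  have h6 : b = 0 := C.v_notin b h5
  subst h6
  have h7 : C.v 0 = 1 := by
    have h8 := C.v_add 0 0
    rw [add_zero] at h8
    exact left_eq_mul.1 h8
  rw [h7, one_mul] at hx
  have h8 : orderOf (⟨l, hl⟩ : ↥C.L) ∣ Nat.card ↥C.L := orderOf_dvd_natCard _
  rw [Subgroup.orderOf_mk, hx, hL] at h8
  norm_num at h8

theorem not_dvd {K : Type*} [Group K] [Finite K] (h : Spor.IsoRu K) {x : K} (hx : orderOf x = 3) :
    ¬ 2 ^ 6 ∣ Nat.card ↥(centralizer ({x} : Set K)) := by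
  have : Fact (Nat.Prime 2) := ⟨Nat.prime_two⟩
  obtain ⟨C, -, hL⟩ := Cfsg.Agent.CTwoTab.Ru.exists_core_sz h
  refine not_pow_dvd_cent (by norm_num) fun t ht hxt => ?_
  have ht2 : t * t = 1 := by rw [← pow_two, ← ht]; exact pow_orderOf_eq_one t
  have ht1 : t ≠ 1 := by
    rintro rfl
    rw [orderOf_one] at ht
    norm_num at ht
  have hB : Cen.Bd 3 t := by
    rcases InvC.invol_cases C ht2 ht1 with ⟨g, hg⟩ | ⟨g, a, ha, hg⟩
    · exact (bd_z C).conj (isConj_iff.2 ⟨g, hg⟩)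
    · exact (bd_v C hL ha).conj (isConj_iff.2 ⟨g, hg⟩)
  obtain ⟨n, hn⟩ := hB x hx hxt
  intro hd
  have h1 : 2 ^ 6 ∣ 32 * 3 ^ n := hd.trans hn
  have h2 : (2 ^ 6 : ℕ) ∣ 32 := (Nat.Coprime.pow 6 n (by norm_num : Nat.Coprime 2 3)).dvd_of_dvd_mul_right h1
  norm_num at h2

theorem index_le {K : Type*} [Group K] [Finite K] (h : Spor.IsoRu K) {x : K} (hx : orderOf x = 3) :
    170 ≤ (normalizer (zpowers x : Set K)).index := by
  have : Fact (Nat.Prime 3) := ⟨Nat.prime_three⟩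
  have h0 : (normalizer (zpowers x : Set K)).index ≠ 0 := index_ne_zero_of_finite
  have h1 : 2 ^ 8 ∣ (normalizer (zpowers x : Set K)).index :=
    pow_dvd_index hx (a := 8) (b := 1) (c := 5) Nat.prime_two (by rw [NotCT.Orders.ru h]; norm_num) (by norm_num)
      (not_dvd h hx)
  have h2 := Nat.le_of_dvd (Nat.pos_of_ne_zero h0) h1
  omega

end Cfsg.Agent.H47.MeetS.RuThree

namespace Cfsg.Agent.H47.MeetS

open Cfsg Cfsg.Agent.H903.SylMeet

theorem meet3_Ru {G : Type*} [Group G] [Finite G] [IsSimpleGroup G] (h : Spor.IsoRu G) : Meet 3 G :=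
  meet3_of_index (by unfold IsSporadicGroup; tauto) (by rw [NotCT.Orders.ru h]; norm_num)
    fun _ hy => RuThree.index_le h hy

end Cfsg.Agent.H47.MeetS
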