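import Cfsg.Agent.H383.Cube.Basic

/-!
# The cube bound for inner automorphisms: tools (helper47, S5721)

* `inner_of_cent` : all automorphisms are inner and all involution centralizers are large;
* `le_cent` : `|N| ≤ |E| |C(u)|` for a subgroup `N` normalizing `E`, `u ∈ E`; `le_cent_of_map` : the version for a family
  of elements.
-/

set_option autoImplicit false

namespace Cfsg.Agent.H47.Cube

open Subgroup Cfsg.Agent.H383.Cube

universe u

/-- the fixed points of an inner automorphism -/
theorem card_fix_conj {K : Type*} [Group K] (t : K) :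
    Nat.card {x : K // MulAut.conj t x = x} = Nat.card (centralizer ({t} : Set K)) := by
  refine Nat.card_congr (Equiv.subtypeEquivRight fun x => ?_)
  rw [mem_centralizer_singleton_iff, MulAut.conj_apply, mul_inv_eq_iff_eq_mul]
  exact eq_comm

theorem center_eq_bot {K : Type*} [Group K] [IsSimpleGroup K] (hna : ¬ (Nat.card K).Prime) : center K = ⊥ := by
  rcases (inferInstance : (center K).Normal).eq_bot_or_eq_top with h | h
  · exact h
  · exfalso
    apply hna
    have hc : ∀ a b : K, a * b = b * a := fun a b => (mem_center_iff.1 (h ▸ mem_top a : a ∈ center K) b).symm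
    let _ : CommGroup K := { (inferInstance : Group K) with mul_comm := hc }
    exact IsSimpleGroup.prime_card

/-- **The criterion.** -/
theorem inner_of_cent {K : Type*} [Group K] [IsSimpleGroup K] (hin : ∀ α : MulAut K, ∃ g : K, α = MulAut.conj g)
    {n m : ℕ} (hn : Nat.card K = n) (hp : ¬ n.Prime) (hm : n < m ^ 3)
    (hc : ∀ t : K, t * t = 1 → t ≠ 1 → m ≤ Nat.card (centralizer ({t} : Set K))) : CubeBound K := by
  intro α hα
  obtain ⟨t, rfl⟩ := hin α
  have h1 : t ≠ 1 := by
    rintro rfl
    rw [map_one, orderOf_one] at hα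
    omega
  have h2 : t * t = 1 := by
    have h3 : t * t ∈ center K := by
      rw [mem_center_iff]
      intro g
      have h4 : (MulAut.conj t * MulAut.conj t) g = g := by
        rw [← pow_two, ← hα, pow_orderOf_eq_one, MulAut.one_apply]
      rw [← map_mul, MulAut.conj_apply, mul_inv_eq_iff_eq_mul] at h4
      exact h4.symm
    rw [center_eq_bot (by rw [hn]; exact hp), mem_bot] at h3
    exact h3
  rw [card_fix_conj, hn]
  exact hm.trans_le (Nat.pow_le_pow_left (hc t h2 h1) 3)

/-- centralizers of conjugate elements -/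
theorem card_cent_conj {K : Type*} [Group K] {s t : K} (h : IsConj s t) :
    Nat.card (centralizer ({s} : Set K)) = Nat.card (centralizer ({t} : Set K)) := by
  obtain ⟨g, rfl⟩ := isConj_iff.1 h
  refine Nat.card_congr (Equiv.subtypeEquiv (MulAut.conj g).toEquiv fun x => ?_)
  rw [mem_centralizer_singleton_iff, mem_centralizer_singleton_iff]
  change x * s = s * x ↔ (g * x * g⁻¹) * (g * s * g⁻¹) = (g * s * g⁻¹) * (g * x * g⁻¹)
  have h1 : (g * x * g⁻¹) * (g * s * g⁻¹) = g * (x * s) * g⁻¹ := by group
  have h2 : (g * s * g⁻¹) * (g * x * g⁻¹) = g * (s * x) * g⁻¹ := by group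
  rw [h1, h2, mul_left_inj, mul_right_inj]

theorem card_cent_equiv {K L : Type*} [Group K] [Group L] (e : K ≃* L) (s : K) :
    Nat.card (centralizer ({e s} : Set L)) = Nat.card (centralizer ({s} : Set K)) := by
  refine (Nat.card_congr (Equiv.subtypeEquiv e.toEquiv fun x => ?_)).symm
  rw [mem_centralizer_singleton_iff, mem_centralizer_singleton_iff]
  change x * s = s * x ↔ e x * e s = e s * e x
  rw [← map_mul, ← map_mul]
  exact e.injective.eq_iff.symm

/-- a family `f x` of distinct elements conjugating `u` into the finite set `S` -/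
theorem le_cent_of_map {K X : Type*} [Group K] [Finite K] (f : X → K) (hf : Function.Injective f) (u : K)
    {Y : Type*} [Finite Y] (g : Y → K) (h : ∀ x, ∃ y, f x * u * (f x)⁻¹ = g y) :
    Nat.card X ≤ Nat.card Y * Nat.card (centralizer ({u} : Set K)) := by
  classical
  choose y hy using h
  -- a chosen element for every value
  let P : Y → K → Prop := fun b k => k * u * k⁻¹ = g b
  let c : Y → K := fun b => if h : ∃ k, P b k then h.choose else 1
  have hc : ∀ b k, P b k → P b (c b) := by
    intro b k hk
    have h : ∃ k, P b k := ⟨k, hk⟩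
    simp only [c, dif_pos h]
    exact h.choose_spec
  rw [← Nat.card_prod]
  refine Nat.card_le_card_of_injective (fun x : X => ((y x, ⟨(c (y x))⁻¹ * f x, ?_⟩) :
    Y × centralizer ({u} : Set K))) ?_
  · have h1 : P (y x) (f x) := hy x
    have h2 := hc _ _ h1
    rw [mem_centralizer_singleton_iff]
    have h3 : f x * u * (f x)⁻¹ = c (y x) * u * (c (y x))⁻¹ := h1.trans h2.symm
    have h4 : f x * u = c (y x) * u * (c (y x))⁻¹ * f x := by rw [← h3]; group
    calc (c (y x))⁻¹ * f x * u = (c (y x))⁻¹ * (f x * u) := by group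
      _ = (c (y x))⁻¹ * (c (y x) * u * (c (y x))⁻¹ * f x) := by rw [h4]
      _ = u * ((c (y x))⁻¹ * f x) := by group
  · intro x x' hx
    have h1 : y x = y x' := congrArg Prod.fst hx
    have h2 : (c (y x))⁻¹ * f x = (c (y x'))⁻¹ * f x' := congrArg (fun p => (p.2 : K)) hx
    rw [h1] at h2
    exact hf (mul_left_cancel h2)

/-- `|N| ≤ |E| |C(u)|` -/
theorem le_cent {K : Type*} [Group K] [Finite K] {E N : Subgroup K} (hN : ∀ n ∈ N, ∀ e ∈ E, n * e * n⁻¹ ∈ E)
    {u : K} (hu : u ∈ E) : Nat.card N ≤ Nat.card E * Nat.card (centralizer ({u} : Set K)) :=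
  le_cent_of_map (fun n : N => (n : K)) Subtype.val_injective u (fun e : E => (e : K)) fun n =>
    ⟨⟨_, hN n n.2 u hu⟩, rfl⟩

/-- a subgroup of the centralizer -/
theorem le_cent_of_sub {K : Type*} [Group K] [Finite K] {L : Subgroup K} {u : K} (h : ∀ x ∈ L, x * u = u * x) :
    Nat.card L ≤ Nat.card (centralizer ({u} : Set K)) := by
  apply Subgroup.card_le_of_le
  intro x hx
  exact mem_centralizer_singleton_iff.2 (h x hx)

/-- a surjection from the centralizer -/
theorem le_cent_of_surj {K H : Type*} [Group K] [Finite K] [Group H] {u : K}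
    {f : centralizer ({u} : Set K) →* H} (hf : Function.Surjective f) :
    Nat.card H ≤ Nat.card (centralizer ({u} : Set K)) := by
  have : Finite (centralizer ({u} : Set K)) := inferInstance
  exact Nat.card_le_card_of_surjective f hf

end Cfsg.Agent.H47.Cube
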