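import Cfsg.Agent.Fischer.TriDef

/-!
# Kernel checks on the 920808 points of the threefold cover (helper47)

The spider relation `(dcbdefdhi)^10 = 1` on all bit planes; the element `(dcbakldefgjdhi)^17` and its square move the
point 0.
-/

set_option autoImplicit false
set_option maxRecDepth 100000
set_option Elab.async false

namespace Cfsg.Agent.H47.FiThreeChk

open Cfsg.Agent.Lib.PermNet Cfsg.Agent.Fischer.Fi24RepLib Cfsg.Agent.Fischer.TriDef
open Cfsg.Agent.Fischer.Fi24RepDef (rep)
open Cfsg.Spor.Fi24 (Gen)

/-- the spider word -/
def sp0 : List Gen := [.d, .c, .b, .d, .e, .f, .d, .h, .i]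

/-- the word of the central element -/
def w14 : List Gen := [.d, .c, .b, .a, .k, .l, .d, .e, .f, .g, .j, .d, .h, .i]

/-- the relation of length 90 -/
noncomputable def relsSp : List (List Net × List Net) := [(T.nw (rep 10 sp0) false, T.nw [] false)]

theorem e0 : chkL 20 983040 0 relsSp = true := by decide +kernel
theorem e1 : chkL 20 983040 1 relsSp = true := by decide +kernel
theorem e2 : chkL 20 983040 2 relsSp = true := by decide +kernel
theorem e3 : chkL 20 983040 3 relsSp = true := by decide +kernel
theorem e4 : chkL 20 983040 4 relsSp = true := by decide +kernel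
theorem e5 : chkL 20 983040 5 relsSp = true := by decide +kernel
theorem e6 : chkL 20 983040 6 relsSp = true := by decide +kernel
theorem e7 : chkL 20 983040 7 relsSp = true := by decide +kernel
theorem e8 : chkL 20 983040 8 relsSp = true := by decide +kernel
theorem e9 : chkL 20 983040 9 relsSp = true := by decide +kernel
theorem e10 : chkL 20 983040 10 relsSp = true := by decide +kernel
theorem e11 : chkL 20 983040 11 relsSp = true := by decide +kernel
theorem e12 : chkL 20 983040 12 relsSp = true := by decide +kernel
theorem e13 : chkL 20 983040 13 relsSp = true := by decide +kernel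
theorem e14 : chkL 20 983040 14 relsSp = true := by decide +kernel
theorem e15 : chkL 20 983040 15 relsSp = true := by decide +kernel
theorem e16 : chkL 20 983040 16 relsSp = true := by decide +kernel
theorem e17 : chkL 20 983040 17 relsSp = true := by decide +kernel
theorem e18 : chkL 20 983040 18 relsSp = true := by decide +kernel
theorem e19 : chkL 20 983040 19 relsSp = true := by decide +kernel

theorem z1 : Nat.beq (ptWord (T.nw (rep 17 w14) false) 0) 0 = false := by decide +kernel
theorem z2 : Nat.beq (ptWord (T.nw (rep 34 w14) false) 0) 0 = false := by decide +kernel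

theorem chkSp (b : ℕ) (hb : b < 20) : chkL 20 983040 b relsSp = true := by
  interval_cases b
  · exact e0
  · exact e1
  · exact e2
  · exact e3
  · exact e4
  · exact e5
  · exact e6
  · exact e7
  · exact e8
  · exact e9
  · exact e10
  · exact e11
  · exact e12
  · exact e13
  · exact e14
  · exact e15
  · exact e16
  · exact e17
  · exact e18
  · exact e19

end Cfsg.Agent.H47.FiThreeChk
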