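import Cfsg.Agent.H47.Meet3Tool

/-!
# Trivial Sylow 3-intersections: `M₁₁`, `M₂₂`, `M₂₃`, `J₁`, `HS` (helper47, S2484)
-/

set_option autoImplicit false

namespace Cfsg.Agent.H47.MeetS

open Subgroup Cfsg Cfsg.Agent.H903.SylMeet

theorem meet3_M11 {G : Type*} [Group G] [Finite G] [IsSimpleGroup G] (h : Spor.IsoM11 G) : Meet 3 G :=
  meet3_of_small (by unfold IsSporadicGroup; tauto) (by rw [NotCT.Orders.m11 h]; norm_num)

theorem meet3_M22 {G : Type*} [Group G] [Finite G] [IsSimpleGroup G] (h : Spor.IsoM22 G) : Meet 3 G :=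
  meet3_of_small (by unfold IsSporadicGroup; tauto) (by rw [NotCT.Orders.m22 h]; norm_num)

theorem meet3_M23 {G : Type*} [Group G] [Finite G] [IsSimpleGroup G] (h : Spor.IsoM23 G) : Meet 3 G :=
  meet3_of_small (by unfold IsSporadicGroup; tauto) (by rw [NotCT.Orders.m23 h]; norm_num)

theorem meet3_J1 {G : Type*} [Group G] [Finite G] [IsSimpleGroup G] (h : Spor.IsoJ1 G) : Meet 3 G :=
  meet3_of_small (by unfold IsSporadicGroup; tauto) (by rw [NotCT.Orders.j1 h]; norm_num)

theorem meet3_HS {G : Type*} [Group G] [Finite G] [IsSimpleGroup G] (h : Spor.IsoHS G) : Meet 3 G :=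
  meet3_of_small (by unfold IsSporadicGroup; tauto) (by rw [NotCT.Orders.hs h]; norm_num)

end Cfsg.Agent.H47.MeetS
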