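import Cfsg.Agent.H47.Meet3Tool
import Cfsg.Agent.H573.Spor.He

/-!
# Trivial Sylow 3-intersections: the Held group (helper47, S2484)
-/

set_option autoImplicit false
set_option maxRecDepth 100000

namespace Cfsg.Agent.H47.MeetS.HeThree

open Subgroup Cfsg Cfsg.Agent.H903.SylMeet Cfsg.Agent.H68.MeetB
open Cfsg.Spor.He (Gen)
open Cfsg.Agent.SporadicB.HePerm (act wd phi)
open Cfsg.Agent.FixBN.HeStab Cfsg.Agent.KFacts.He.Lv Cfsg.Agent.CpAutHe.Cnt Cfsg.Agent.CpAutHe.Bound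
open Cfsg.Agent.H573.Spor.HeR

def rp (L : List Gen) (i : ℕ) : List Gen :=
  match i with
  | 0 => []
  | 1 => L
  | _ => L ++ L

theorem rp_eq (L : List Gen) {i : ℕ} (hi : i < 3) : wd L ^ i = wd (rp L i) := by
  match i, hi with
  | 0, _ => rw [pow_zero]; exact wd_nil.symm
  | 1, _ => rw [pow_one]; rfl
  | 2, _ =>
    rw [pow_two, ← wd_append]; rfl

def w (i j k : ℕ) : List Gen := rp A i ++ (rp B j ++ rp C k)

theorem w_eq {i j k : ℕ} (hi : i < 3) (hj : j < 3) (hk : k < 3) :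
    wd A ^ i * wd B ^ j * wd C ^ k = wd (w i j k) := by
  rw [rp_eq A hi, rp_eq B hj, rp_eq C hk, mul_assoc, ← wd_append, ← wd_append]
  rfl

theorem cert : ∀ i j k i' j' k' : Fin 3, act ([.a, .f] ++ w i j k) 29 = act (w i' j' k' ++ [.a, .f]) 29 →
    i = 0 ∧ j = 0 ∧ k = 0 := by
  decide +kernel

theorem ca : wd A * wd C = wd C * wd A := by
  rw [← wd_append, ← wd_append]; exact eq_of_chkB (by decide +kernel)

theorem cb : wd B * wd C = wd C * wd B := by
  rw [← wd_append, ← wd_append]; exact eq_of_chkB (by decide +kernel)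

theorem ab : wd A * wd B = wd B * wd A * wd C := by
  rw [← wd_append, ← wd_append, ← wd_append]; exact eq_of_chkB (by decide +kernel)

theorem meetIn : MeetIn 3 Cfsg.Spor.He := by
  have : Fact (Nat.Prime 3) := ⟨by norm_num⟩
  have hf : Finite Cfsg.Spor.He := finite_he
  have h : MeetExt.Ext 3 (wd A) (wd B) (wd C) := by
    constructor
    · exact ca.symm
    · exact cb.symm
    · rw [ab, mul_assoc (wd B) (wd A) (wd C), ca]
      have : wd B * (wd C * wd A) * (wd A)⁻¹ * (wd B)⁻¹ = wd B * wd C * (wd B)⁻¹ := by group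
      rw [this, cb]
      group
    · exact pow_of_chk (by decide +kernel)
    · exact pow_of_chk (by decide +kernel)
    · exact ne_one_of_act 15 (by decide +kernel)
  refine Ext.meetIn h (by rw [card_he]; norm_num) (wd [.a, .f]) ?_
  intro i j k i' j' k' hi hj hk hi' hj' hk' he
  rw [w_eq hi hj hk, w_eq hi' hj' hk', ← wd_append, ← wd_append] at he
  have h1 : act ([.a, .f] ++ w i j k) 29 = act (w i' j' k' ++ [.a, .f]) 29 := by
    have h2 := congrArg (fun s : Cfsg.Spor.He => (((phi s : Equiv.Perm (Fin 2058)) (29 : Fin 2058) : Fin 2058) : ℕ)) he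
    have h3 := act_eq ([.a, .f] ++ w i j k) (29 : Fin 2058)
    have h4 := act_eq (w i' j' k' ++ [.a, .f]) (29 : Fin 2058)
    exact h3.trans (h2.trans h4.symm)
  obtain ⟨h5, h6, h7⟩ := cert ⟨i, hi⟩ ⟨j, hj⟩ ⟨k, hk⟩ ⟨i', hi'⟩ ⟨j', hj'⟩ ⟨k', hk'⟩ h1
  exact ⟨congrArg Fin.val h5, congrArg Fin.val h6, congrArg Fin.val h7⟩

end Cfsg.Agent.H47.MeetS.HeThree

namespace Cfsg.Agent.H47.MeetS

open Subgroup Cfsg Cfsg.Agent.H903.SylMeet Cfsg.Agent.H68.MeetB

theorem meet3_He {G : Type*} [Group G] [Finite G] [IsSimpleGroup G] (h : Spor.IsoHe G) : Meet 3 G := by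
  have hs : IsSporadicGroup G := by unfold IsSporadicGroup; tauto
  obtain ⟨e⟩ := h
  exact meet3_of_in hs (HeThree.meetIn.congr e.symm)

end Cfsg.Agent.H47.MeetS
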