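import Cfsg.Agent.H47.Meet3Tool
import Cfsg.Agent.H573.Spor.J2

/-!
# Trivial Sylow 3-intersections: `J₂` (helper47, S2484)
-/

set_option autoImplicit false
set_option maxRecDepth 100000

namespace Cfsg.Agent.H47.MeetS.JTwo

open Subgroup Cfsg Cfsg.Agent.H903.SylMeet Cfsg.Agent.H68.MeetB
open Cfsg.Agent.J2.HundredGens Cfsg.Agent.SporadicA.J2Hundred
open Cfsg.Agent.H573.Spor.J2R

def C' : List ℕ := A.reverse ++ (B.reverse ++ (A ++ B))

def rp (L : List ℕ) (i : ℕ) : List ℕ :=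
  match i with
  | 0 => []
  | 1 => L
  | _ => L ++ L

theorem rp_eq (L : List ℕ) {i : ℕ} (hi : i < 3) : el L ^ i = el (rp L i) := by
  match i, hi with
  | 0, _ => exact el_nil.symm
  | 1, _ => rw [pow_one]; rfl
  | 2, _ => rw [pow_two, el_mul]; rfl

def w (i j k : ℕ) : List ℕ := rp A i ++ (rp B j ++ rp C' k)

theorem w_eq {i j k : ℕ} (hi : i < 3) (hj : j < 3) (hk : k < 3) :
    el A ^ i * el B ^ j * el C' ^ k = el (w i j k) := by
  rw [rp_eq A hi, rp_eq B hj, rp_eq C' hk, mul_assoc, el_mul, el_mul]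
  rfl

theorem cert : ∀ i j k i' j' k' : Fin 3, run ([0, 4] ++ w i j k) 14 = run (w i' j' k' ++ [0, 4]) 14 →
    i = 0 ∧ j = 0 ∧ k = 0 := by
  decide +kernel

theorem meetIn : MeetIn 3 G := by
  have : Fact (Nat.Prime 3) := ⟨by norm_num⟩
  have h : MeetExt.Ext 3 (el A) (el B) (el C') := by
    constructor
    · rw [el_mul, el_mul]; exact el_eq (by decide +kernel)
    · rw [el_mul, el_mul]; exact el_eq (by decide +kernel)
    · rw [mul_inv_eq_iff_eq_mul, mul_inv_eq_iff_eq_mul, el_mul, el_mul, el_mul]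
      exact el_eq (by decide +kernel)
    · exact el_cube (by decide +kernel)
    · exact el_cube (by decide +kernel)
    · rw [← el_nil]; exact el_ne 8 (by decide +kernel)
  refine Ext.meetIn h (by rw [card_G]; norm_num) (el [0, 4]) ?_
  intro i j k i' j' k' hi hj hk hi' hj' hk' he
  rw [w_eq hi hj hk, w_eq hi' hj' hk', el_mul, el_mul] at he
  have h1 : run ([0, 4] ++ w i j k) 14 = run (w i' j' k' ++ [0, 4]) 14 := by
    have h2 := congrArg (fun s : G => (((s : Equiv.Perm (Fin 100)) (14 : Fin 100) : Fin 100) : ℕ)) he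
    have h3 := pw_val ([0, 4] ++ w i j k) 14
    have h4 := pw_val (w i' j' k' ++ [0, 4]) 14
    exact h3.symm.trans (h2.trans h4)
  obtain ⟨h5, h6, h7⟩ := cert ⟨i, hi⟩ ⟨j, hj⟩ ⟨k, hk⟩ ⟨i', hi'⟩ ⟨j', hj'⟩ ⟨k', hk'⟩ h1
  exact ⟨congrArg Fin.val h5, congrArg Fin.val h6, congrArg Fin.val h7⟩

end Cfsg.Agent.H47.MeetS.JTwo

namespace Cfsg.Agent.H47.MeetS

open Subgroup Cfsg Cfsg.Agent.H903.SylMeet Cfsg.Agent.H68.MeetB

theorem meetIn_J2 : MeetIn 3 Spor.J2 := by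
  obtain ⟨f⟩ := Cfsg.Agent.J2.HundredGens.J2_iso Cfsg.Agent.S1619.result.2.2.2
  exact JTwo.meetIn.congr f.symm

theorem meet3_J2 {G : Type*} [Group G] [Finite G] [IsSimpleGroup G] (h : Spor.IsoJ2 G) : Meet 3 G := by
  have hs : IsSporadicGroup G := by unfold IsSporadicGroup; tauto
  obtain ⟨e⟩ := h
  exact meet3_of_in hs (meetIn_J2.congr e.symm)

end Cfsg.Agent.H47.MeetS
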