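import Cfsg.Agent.H47.Meet3Tool
import Cfsg.Agent.H898.J3Cent
import Cfsg.Agent.CpAutJThree.Row

/-!
# Trivial Sylow 3-intersections: `J₃` (helper47, S2484)

`s = (3 ^ 5 - 1) / 2 = 121`. If `y` of order 3 commutes with an involution, then `|C(y)| = 1080`; otherwise
`2 ^ 6 * 17 * 19` divides `|G : N(Y)|`.
-/

set_option autoImplicit false

namespace Cfsg.Agent.H47.MeetS.JThree

open Subgroup Cfsg

variable {K : Type*} [Group K]

theorem not_dvd_of [Finite K] {x : K} (hx : orderOf x = 3) {p : ℕ} (hp : p.Prime) (h3 : ¬ 3 ∣ p)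
    (h : ∀ y : K, orderOf y = p → Nat.card ↥(centralizer ({y} : Set K)) = p) :
    ¬ p ∣ Nat.card ↥(centralizer ({x} : Set K)) := by
  intro hd
  have : Fact p.Prime := ⟨hp⟩
  obtain ⟨y, hy⟩ := exists_prime_orderOf_dvd_card' p hd
  have hy' : orderOf (y : K) = p := by rw [← hy]; exact Subgroup.orderOf_coe y
  have h1 := h y hy'
  have h2 : x ∈ centralizer ({(y : K)} : Set K) :=
    mem_centralizer_singleton_iff.2 (mem_centralizer_singleton_iff.1 y.2).symm
  have h4 : orderOf x ∣ p := by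
    rw [← h1]
    have := orderOf_dvd_natCard (⟨x, h2⟩ : ↥(centralizer ({(y : K)} : Set K)))
    rwa [Subgroup.orderOf_mk] at this
  rw [hx] at h4
  exact h3 h4

theorem index_le [Finite K] (h : Spor.IsoJ3 K) {x : K} (hx : orderOf x = 3) :
    14642 ≤ (normalizer (zpowers x : Set K)).index := by
  obtain ⟨hcard, hM, hone, -⟩ := CpAutJThree.base h
  have h3 : Fact (Nat.Prime 3) := ⟨by norm_num⟩
  have h0 : (normalizer (zpowers x : Set K)).index ≠ 0 := index_ne_zero_of_finite
  by_cases hd : 2 ∣ Nat.card ↥(centralizer ({x} : Set K))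
  · have : Fact (Nat.Prime 2) := ⟨Nat.prime_two⟩
    obtain ⟨t, ht⟩ := exists_prime_orderOf_dvd_card' 2 hd
    have ht' : orderOf (t : K) = 2 := by rw [← ht]; exact Subgroup.orderOf_coe t
    obtain ⟨c0, hc0, ⟨s, hs, hsc⟩, hc0c⟩ := CpAutJThree.exc h
    obtain ⟨g, hg⟩ := CpAutJThree.conj_three hM hone hc0 hx hs ht' hsc (mem_centralizer_singleton_iff.1 t.2)
    have hC : Nat.card ↥(centralizer ({x} : Set K)) = 1080 := by
      rw [← CpAutJThree.card_centralizer_conj g hg]; exact hc0c
    have h1 := index_cent_le (p := 3) hx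
    have h2 := (centralizer ({x} : Set K)).card_mul_index
    rw [hC, hcard] at h2
    omega
  · have h17 := not_dvd_of hx (p := 17) (by norm_num) (by norm_num) fun y hy => (H898.J3Cent.seventeen h hy).1
    have h19 := not_dvd_of hx (p := 19) (by norm_num) (by norm_num) fun y hy => H898.J3Cent.card_nineteen h hy
    have d2 : 2 ^ 6 ∣ (normalizer (zpowers x : Set K)).index :=
      pow_dvd_index_of_odd (p := 3) hx (a := 6) (b := 1) Nat.prime_two (by rw [hcard]; norm_num) (by norm_num) hd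
    have d17 : 17 ^ 1 ∣ (normalizer (zpowers x : Set K)).index :=
      pow_dvd_index_of_odd (p := 3) hx (a := 1) (b := 0) (by norm_num) (by rw [hcard]; norm_num) (by norm_num) h17
    have d19 : 19 ^ 1 ∣ (normalizer (zpowers x : Set K)).index :=
      pow_dvd_index_of_odd (p := 3) hx (a := 1) (b := 0) (by norm_num) (by rw [hcard]; norm_num) (by norm_num) h19
    have h4 : 2 ^ 6 * 17 ^ 1 * 19 ^ 1 ∣ (normalizer (zpowers x : Set K)).index :=
      Nat.Coprime.mul_dvd_of_dvd_of_dvd (by norm_num) (Nat.Coprime.mul_dvd_of_dvd_of_dvd (by norm_num) d2 d17) d19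
    have h5 := Nat.le_of_dvd (Nat.pos_of_ne_zero h0) h4
    omega

end Cfsg.Agent.H47.MeetS.JThree

namespace Cfsg.Agent.H47.MeetS

open Cfsg Cfsg.Agent.H903.SylMeet

theorem meet3_J3 {G : Type*} [Group G] [Finite G] [IsSimpleGroup G] (h : Spor.IsoJ3 G) : Meet 3 G := by
  have : Fact (Nat.Prime 3) := ⟨by norm_num⟩
  have hs : IsSporadicGroup G := by unfold IsSporadicGroup; tauto
  exact MeetS.meet_of_index (not_comm_spor hs) (H498.SporOut.index_le_two hs) (by norm_num) (k := 5) (s := 121)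
    (n := 14642) (by rw [NotCT.Orders.j3 h]; norm_num) (by norm_num) (fun _ hy => JThree.index_le h hy) (by norm_num)

end Cfsg.Agent.H47.MeetS
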