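import Cfsg.Agent.H47.MeetIdx
import Cfsg.Agent.CpAutJ4.Row

/-!
# Trivial Sylow intersections: `J4`, `p = 11` (helper47, S5762)
-/

set_option autoImplicit false

namespace Cfsg.Agent.H47.MeetS.JFour

open Subgroup Cfsg Cfsg.Agent.J4Type Cfsg.Agent.H903.SylMeet
open Cfsg.Agent.CpAut Cfsg.Agent.CpAutJ4

universe u

variable {G : Type u} [Group G] [Finite G]

instance fact11 : Fact (Nat.Prime 11) := ⟨by norm_num⟩

theorem card_z (F : Hex G) : 2 ^ 21 ∣ Nat.card (centralizer ({F.z} : Set G)) := by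
  have h1 := NormE.card_normalizer_inf F HexMax.hex0_isHex
  have h2 : Nat.card (normalizer (F.E hex0 : Set G) ⊓ centralizer ({F.z} : Set G) : Subgroup G) ∣
      Nat.card (centralizer ({F.z} : Set G)) := Subgroup.card_dvd_of_le inf_le_right
  rw [h1] at h2
  exact dvd_trans (by norm_num) h2

theorem index_z (F : Hex G) {x : G} (hx : orderOf x = 11) (hxz : x * F.z = F.z * x) :
    2 ^ 17 ≤ (normalizer (zpowers x : Set G)).index := by
  let C : Cent G := F.toCent
  have hxC : x ∈ centralizer ({C.z} : Set G) := mem_centralizer_singleton_iff.2 hxz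
  have hzz : C.z * C.z = 1 := KFacts.J4.Easy.zz C
  have hz1 : C.z ≠ 1 := KFacts.J4.Easy.z1 C
  have hx11 : x ^ 11 = 1 := by rw [← hx, pow_orderOf_eq_one]
  have hx1 : x ≠ 1 := by
    rintro rfl
    rw [orderOf_one] at hx
    exact absurd hx (by norm_num)
  let x' : ↥(centralizer ({C.z} : Set G)) := ⟨x, hxC⟩
  have hx' : orderOf x' = 11 := by rw [Subgroup.orderOf_mk, hx]
  -- `P x ≠ 1`
  have hP1 : C.P x' ≠ 1 := by
    intro h
    obtain ⟨q, hq, i, hi⟩ := (C.P_ker x').1 h
    have hi' : x = q * C.ρ ^ i := hi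
    obtain ⟨q', hq', h2⟩ := KFacts.J4.AutP.pow_eq (C := C) hq i 3
    have h3 : (C.ρ ^ i) ^ 3 = 1 := by
      rw [← pow_mul, mul_comm, pow_mul, KFacts.J4.AutP.rho_cube, one_pow]
    rw [h3, mul_one, ← hi'] at h2
    have h4 : x ^ 12 = 1 := by
      rw [show (12 : ℕ) = 3 * 4 from rfl, pow_mul, h2, KFacts.J4.AutP.Q_pow_four hq']
    rw [show (12 : ℕ) = 11 + 1 from rfl, pow_succ, hx11, one_mul] at h4
    exact hx1 h4
  have hPx : orderOf (C.P x') = 11 := orderOf_map C.P hx' hP1
  have hPM : ∀ c, C.P c ∈ M24 := by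
    intro c
    have h1 : C.P c ∈ C.P.range := ⟨c, rfl⟩
    rw [C.P_range] at h1
    exact h1.1
  have hPn : C.P x' none = none := by
    rcases KFacts.J4.Easy.P_cases C x' with h | h
    · exact h.1
    · exfalso
      have h1 : ∀ n : ℕ, ((C.P x') ^ (2 * n)) none = none := by
        intro n
        induction n with
        | zero => rfl
        | succ n ih =>
          rw [show 2 * (n + 1) = 2 * n + 1 + 1 by ring, pow_succ, pow_succ, Equiv.Perm.mul_apply,
            Equiv.Perm.mul_apply, h.1, h.2, ih]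
      have h2 : (C.P x') ^ (2 * 5 + 1) = 1 := by
        change (C.P x') ^ 11 = 1
        rw [← hPx, pow_orderOf_eq_one]
      have h3 : ((C.P x') ^ (2 * 5 + 1)) none = some 0 := by
        rw [pow_succ', Equiv.Perm.mul_apply, h1, h.1]
      rw [h2] at h3
      exact absurd h3 (by decide)
  have S : Sit C.Q x C.z C.ρ :=
    { x_order := hx
      z_ne := hz1
      zz := hzz
      zQ := C.z_mem_Q
      card := C.Q_card
      sq := C.Q_sq
      comm := C.Q_comm
      cent := C.Q_cent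
      xz := hxz
      xQ := C.Q_conj x hxz
      ρ3 := by
        have h := KFacts.J4.AutP.rho_cube C
        rwa [pow_succ, pow_two] at h
      ρz := C.ρ_comm
      ρQ := C.Q_conj C.ρ C.ρ_comm
      ρfix := C.ρ_fix
      xρ := C.P_inner x' hPn }
  refine pow_dvd_index_sub (p := 11) (r := 2) (a := 17) (b := 1) (c := 3) (centralizer ({C.z} : Set G)) C.Q hxC hx
    Nat.prime_two (card_z F) (by norm_num) ?_ (by rw [S.card_cent]; norm_num)
  rintro c hcC hcx ⟨n, hn⟩
  let c' : ↥(centralizer ({C.z} : Set G)) := ⟨c, hcC⟩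
  have hc1 : c' ^ 2 ^ n = 1 := Subtype.ext hn
  have hcx' : c' * x' = x' * c' := Subtype.ext hcx
  have h1 : C.P c' = 1 := Eleven.eq_one_of_pow (hPM x') hPx (hPM c') n
    (by rw [← map_pow, hc1, map_one]) (by rw [← map_mul, hcx', map_mul])
  obtain ⟨q, hq, i, hi⟩ := (C.P_ker c').1 h1
  have hi' : c = q * C.ρ ^ i := hi
  rw [hi'] at hn
  rw [hi', KFacts.J4.AutP.mem_Q_of_two hq hn, mul_one]
  exact hq

omit [Finite G] in
theorem card_N (K : Frame G) : Nat.card (normalizer (K.E hex0 : Set G)) = 2 ^ 11 * 244823040 := by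
  have hE : Nat.card (K.E hex0) = 2 ^ 11 := K.E_card _ HexMax.hex0_isHex
  have hsurj : Function.Surjective K.π := K.π_surj
  have hk : Nat.card K.π.ker = 2 ^ 11 := by
    rw [← hE]
    refine Nat.card_congr ⟨fun x => ⟨((x : normalizer (K.E hex0 : Set G)) : G),
      (K.π_ker x).1 x.2⟩, fun y => ⟨⟨y, le_normalizer y.2⟩, (K.π_ker _).2 y.2⟩, fun x => rfl, fun y => rfl⟩
  have h3 := Subgroup.card_eq_card_quotient_mul_card_subgroup K.π.ker
  rw [Nat.card_congr (QuotientGroup.quotientKerEquivOfSurjective _ hsurj).toEquiv, hk,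
    SporadicA.M24Trans.card_M24] at h3
  rw [h3, mul_comm]

theorem index_duad (K : Frame G) {p q : GolayPt} (hpq : p ≠ q) {x : G} (hx : orderOf x = 11)
    (hxz : x * K.ε {p, q} = K.ε {p, q} * x) : 2 ^ 17 ≤ (normalizer (zpowers x : Set G)).index := by
  have hH := FusionConj.isHex_hex0
  have hE := K.E_elem hex0 hH
  have hxN : x ∈ Subgroup.normalizer (K.E hex0 : Set G) := DuadCent.duad_cent K hpq hxz
  have hx11 : x ^ 11 = 1 := by rw [← hx, pow_orderOf_eq_one]
  have hx1 : x ≠ 1 := by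
    rintro rfl
    rw [orderOf_one] at hx
    exact absurd hx (by norm_num)
  have hxE : x ∉ K.E hex0 := by
    intro h
    have h1 := hE.1 x h
    have h2 : orderOf x ∣ 2 := orderOf_dvd_of_pow_eq_one (by rw [pow_two, h1])
    rw [hx] at h2
    exact absurd h2 (by norm_num)
  let x' : ↥(Subgroup.normalizer (K.E hex0 : Set G)) := ⟨x, hxN⟩
  have hx' : orderOf x' = 11 := by rw [Subgroup.orderOf_mk, hx]
  have hπx : orderOf ((K.π x' : M24) : Equiv.Perm GolayPt) = 11 := by
    rw [Subgroup.orderOf_coe]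
    exact orderOf_map K.π hx' (fun h => hxE ((K.π_ker x').1 h))
  have hconj : ∀ c ∈ Subgroup.normalizer (K.E hex0 : Set G), ∀ t ∈ K.E hex0, c * t * c⁻¹ ∈ K.E hex0 :=
    fun c hc t ht => (Subgroup.mem_normalizer_iff.1 hc t).1 ht
  -- fixed points of `x` on `E`
  have hfix := card_fix hx (K.E hex0 : Set G) (hconj x hxN)
  have h1 : Nat.card {a : G // a ∈ (K.E hex0 : Set G) ∧ x * a = a * x} =
      Nat.card ↥(K.E hex0 ⊓ centralizer ({x} : Set G)) := by
    refine Nat.card_congr ⟨fun a => ⟨a, a.2.1, ?_⟩, fun a => ⟨a, a.2.1, ?_⟩, fun a => rfl, fun a => rfl⟩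
    · exact mem_centralizer_singleton_iff.2 a.2.2.symm
    · exact (mem_centralizer_singleton_iff.1 a.2.2).symm
  rw [h1] at hfix
  have hEc : Nat.card ↥(K.E hex0 : Set G) = 2 ^ 11 := K.E_card hex0 hH
  have hEc' : Nat.card ↥(K.E hex0) = 2 ^ 11 := K.E_card hex0 hH
  rw [hEc] at hfix
  have h2 : Nat.card ↥(K.E hex0 ⊓ centralizer ({x} : Set G)) ∣ 2 ^ 11 := by
    rw [← hEc']
    exact card_dvd_of_le inf_le_left
  obtain ⟨m, hm, hm2⟩ := (Nat.dvd_prime_pow Nat.prime_two).1 h2
  rw [hm2] at hfix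
  have h3 : Nat.card ↥(K.E hex0 ⊓ centralizer ({x} : Set G)) = 2 := by
    have h4 : m = 1 ∨ m = 11 := by
      interval_cases m <;> first | (left; rfl) | (right; rfl) | (exfalso; revert hfix; decide)
    rcases h4 with rfl | rfl
    · rw [hm2, pow_one]
    · exfalso
      have h5 : K.E hex0 ⊓ centralizer ({x} : Set G) = K.E hex0 := by
        apply eq_of_le_of_card_ge inf_le_left
        rw [hm2, hEc']
      apply hxE
      apply K.A_cent hex0 hH
      intro a ha _
      rw [← h5] at ha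
      exact (mem_centralizer_singleton_iff.1 ha.2).symm
  refine pow_dvd_index_sub (p := 11) (r := 2) (a := 17) (b := 1) (c := 3) (normalizer (K.E hex0 : Set G)) (K.E hex0)
    hxN hx Nat.prime_two (by rw [card_N K]; norm_num) (by norm_num) ?_ (by rw [h3]; norm_num)
  rintro c hcN hcx ⟨n, hn⟩
  let c' : ↥(Subgroup.normalizer (K.E hex0 : Set G)) := ⟨c, hcN⟩
  have hc1 : c' ^ 2 ^ n = 1 := Subtype.ext hn
  have hcx' : c' * x' = x' * c' := Subtype.ext hcx
  have h4 : ((K.π c' : M24) : Equiv.Perm GolayPt) = 1 :=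
    Eleven.eq_one_of_pow (K.π x').2 hπx (K.π c').2 n
      (by
        have h5 : (K.π c') ^ 2 ^ n = 1 := by rw [← map_pow, hc1, map_one]
        exact congrArg Subtype.val h5)
      (by
        have h5 : K.π c' * K.π x' = K.π x' * K.π c' := by rw [← map_mul, hcx', map_mul]
        exact congrArg Subtype.val h5)
  exact (K.π_ker c').1 (Subtype.ext h4)

theorem index_eleven (x : Cfsg.Spor.J4) (hx : orderOf x = 11) :
    2 ^ 17 ≤ (normalizer (zpowers x : Set Cfsg.Spor.J4)).index := by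
  have hJ : Cfsg.IsJ4 Cfsg.Spor.J4 := Cfsg.Agent.S1703.result
  obtain ⟨hfin, -, ⟨F⟩⟩ := KFacts.J4.Base.exists_full (K := Cfsg.Spor.J4) ⟨MulEquiv.refl _⟩
  have h0 : (none : GolayPt) ≠ some 0 := by decide
  have hnc := F.C.duad_not_conj none (some 0) h0
  have hz1 : F.C.z ≠ 1 := KFacts.J4.Easy.z1 F.C.toCent
  have hzz : F.C.z * F.C.z = 1 := KFacts.J4.Easy.zz F.C.toCent
  have he1 : F.C.ε {none, some 0} ≠ 1 := DuadUniq.duad_ne_one F.C.toFrame h0
  have hH := FusionConj.isHex_hex0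
  have hee : F.C.ε {none, some 0} * F.C.ε {none, some 0} = 1 :=
    (F.C.E_elem hex0 hH).1 _ (F.C.ε_mem _ (by rw [Finset.card_pair h0]; decide))
  -- the two classes of involutions
  have hcls : ∀ u : Cfsg.Spor.J4, u * u = 1 → u ≠ 1 → IsConj u F.C.z ∨ IsConj u (F.C.ε {none, some 0}) := by
    intro u hu hu1
    rcases Final.invol hJ u hu hu1 with h | h <;> rcases Final.invol hJ _ hzz hz1 with hz | hz <;>
      rcases Final.invol hJ _ hee he1 with he | he
    · exact absurd (hz.trans he.symm) hnc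
    · exact Or.inl (h.trans hz.symm)
    · exact Or.inr (h.trans he.symm)
    · exact absurd (hz.trans he.symm) hnc
    · exact absurd (hz.trans he.symm) hnc
    · exact Or.inr (h.trans he.symm)
    · exact Or.inl (h.trans hz.symm)
    · exact absurd (hz.trans he.symm) hnc
  by_cases h2 : 2 ∣ Nat.card ↥(centralizer ({x} : Set Cfsg.Spor.J4))
  · have : Fact (Nat.Prime 2) := ⟨Nat.prime_two⟩
    obtain ⟨u, hu⟩ := exists_prime_orderOf_dvd_card' 2 h2
    have hu' : orderOf (u : Cfsg.Spor.J4) = 2 := by rw [Subgroup.orderOf_coe, hu]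
    have hux : (u : Cfsg.Spor.J4) * x = x * u := mem_centralizer_singleton_iff.1 u.2
    have huu : (u : Cfsg.Spor.J4) * u = 1 := by rw [← pow_two, ← hu', pow_orderOf_eq_one]
    have hu1 : (u : Cfsg.Spor.J4) ≠ 1 := by
      intro h
      rw [h, orderOf_one] at hu'
      exact absurd hu' (by norm_num)
    have key : ∀ w g : Cfsg.Spor.J4, g * u * g⁻¹ = w → (g * x * g⁻¹) * w = w * (g * x * g⁻¹) := by
      rintro w g rfl
      calc g * x * g⁻¹ * (g * u * g⁻¹) = g * (x * u) * g⁻¹ := by group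
        _ = g * (u * x) * g⁻¹ := by rw [hux]
        _ = g * u * g⁻¹ * (g * x * g⁻¹) := by group
    have hxg : ∀ g : Cfsg.Spor.J4, orderOf (g * x * g⁻¹) = 11 := by
      intro g
      rw [← hx]
      exact MulEquiv.orderOf_eq (MulAut.conj g) x
    have hidx : ∀ g : Cfsg.Spor.J4, (normalizer (zpowers (g * x * g⁻¹) : Set Cfsg.Spor.J4)).index ≤
        (normalizer (zpowers x : Set Cfsg.Spor.J4)).index := by
      intro g
      have h := index_normalizer_conj g⁻¹ (g * x * g⁻¹)
      have h1 : g⁻¹ * (g * x * g⁻¹) * g⁻¹⁻¹ = x := by group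
      rwa [h1] at h
    rcases hcls u huu hu1 with h | h
    · obtain ⟨g, hg⟩ := isConj_iff.1 h
      exact (index_z F.C.toHex (hxg g) (key _ g hg)).trans (hidx g)
    · obtain ⟨g, hg⟩ := isConj_iff.1 h
      exact (index_duad F.C.toFrame h0 (hxg g) (key _ g hg)).trans (hidx g)
  · refine Nat.le_of_dvd (Nat.pos_of_ne_zero index_ne_zero_of_finite)
      (pow_dvd_index_of_odd (p := 11) hx (a := 17) (b := 4) Nat.prime_two ?_ (by norm_num) h2)
    rw [NotCT.Orders.j4 ⟨MulEquiv.refl _⟩]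
    norm_num

end Cfsg.Agent.H47.MeetS.JFour

namespace Cfsg.Agent.H47.MeetS

open Cfsg Cfsg.Agent.H903.SylMeet

theorem meet11_J4 {G : Type*} [Group G] [Finite G] [IsSimpleGroup G] (h : Spor.IsoJ4 G) : Meet 11 G := by
  have hs : IsSporadicGroup G := by unfold IsSporadicGroup; tauto
  obtain ⟨e⟩ := h
  obtain ⟨hfin, hsim, -⟩ := KFacts.J4.Base.exists_full (K := Cfsg.Spor.J4) ⟨MulEquiv.refl _⟩
  have hs1 : IsSporadicGroup Spor.J4 := by
    have : Spor.IsoJ4 Spor.J4 := ⟨MulEquiv.refl _⟩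
    unfold IsSporadicGroup; tauto
  refine Meet.congr e.symm (meet_of_index (not_comm_spor hs1) (H498.SporOut.index_le_two hs1) (by norm_num) (k := 3)
    (s := 133) (n := 2 ^ 17) (by rw [NotCT.Orders.j4 ⟨MulEquiv.refl _⟩]; norm_num) (by norm_num)
    (fun y hy => JFour.index_eleven y hy) (by norm_num))

end Cfsg.Agent.H47.MeetS
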