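import Cfsg.Agent.H47.Meet3Mat
import Cfsg.Agent.H47.MeetJ4

/-!
# Trivial Sylow 3-intersections: `J₄` (helper47, S2484)
-/

set_option autoImplicit false

namespace Cfsg.Agent.H47.MeetS

open Subgroup Cfsg Cfsg.Agent.H903.SylMeet Cfsg.Agent.H68.MeetB Cfsg.Agent.J4Type

/-- lifting modulo a normal subgroup of order prime to `p` -/
theorem MeetIn.of_surj {N M : Type*} [Group N] [Group M] [Finite N] {p : ℕ} [hp : Fact p.Prime] (f : N →* M)
    (hf : Function.Surjective f) (hk : ¬ p ∣ Nat.card f.ker) (h : MeetIn p M) : MeetIn p N := by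
  intro R hR
  obtain ⟨x, hx⟩ := h (R.map f) (hR.map f)
  obtain ⟨x', rfl⟩ := hf x
  refine ⟨x', fun y hy hxy => ?_⟩
  have h1 : f y = 1 := hx (f y) ⟨y, hy, rfl⟩ ⟨_, hxy, by rw [map_mul, map_mul, map_inv]⟩
  obtain ⟨k, hk'⟩ := hR ⟨y, hy⟩
  have h2 : y ^ p ^ k = 1 := congrArg Subtype.val hk'
  have h1' : y ∈ f.ker := h1
  have h3 : orderOf (⟨y, h1'⟩ : f.ker) ∣ Nat.card f.ker := orderOf_dvd_natCard _
  rw [Subgroup.orderOf_mk] at h3
  have h4 : orderOf y ∣ p ^ k := orderOf_dvd_of_pow_eq_one h2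
  obtain ⟨j, hj, hj'⟩ := (Nat.dvd_prime_pow hp.out).1 h4
  rcases Nat.eq_zero_or_pos j with h0 | h0
  · rw [h0, pow_zero] at hj'
    exact orderOf_eq_one_iff.1 hj'
  · exact absurd ((dvd_pow_self p h0.ne').trans (hj' ▸ h3)) hk

theorem meetIn_J4 : MeetIn 3 Spor.J4 := by
  have : Fact (Nat.Prime 3) := ⟨by norm_num⟩
  obtain ⟨hfin, -, ⟨F⟩⟩ := KFacts.J4.Base.exists_full (K := Cfsg.Spor.J4) ⟨MulEquiv.refl _⟩
  let K := F.C.toFrame
  have hE : Nat.card (K.E hex0) = 2 ^ 11 := K.E_card _ HexMax.hex0_isHex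
  have hk : Nat.card K.π.ker = 2 ^ 11 := by
    rw [← hE]
    refine Nat.card_congr ⟨fun x => ⟨((x : normalizer (K.E hex0 : Set Cfsg.Spor.J4)) : Cfsg.Spor.J4),
      (K.π_ker x).1 x.2⟩, fun y => ⟨⟨y, le_normalizer y.2⟩, (K.π_ker _).2 y.2⟩, fun x => rfl, fun y => rfl⟩
  have h1 : MeetIn 3 (normalizer (K.E hex0 : Set Cfsg.Spor.J4)) :=
    MeetIn.of_surj K.π K.π_surj (by rw [hk]; norm_num) meetIn_M24
  refine MeetIn.of_hom (normalizer (K.E hex0 : Set Cfsg.Spor.J4)).subtype Subtype.val_injective ?_ h1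
  rw [range_subtype]
  intro hd
  have h2 := (normalizer (K.E hex0 : Set Cfsg.Spor.J4)).card_mul_index
  rw [JFour.card_N K, NotCT.Orders.j4 ⟨MulEquiv.refl _⟩] at h2
  obtain ⟨m, hm⟩ := hd
  rw [hm] at h2
  omega

theorem meet3_J4 {G : Type*} [Group G] [Finite G] [IsSimpleGroup G] (h : Spor.IsoJ4 G) : Meet 3 G := by
  have hs : IsSporadicGroup G := by unfold IsSporadicGroup; tauto
  obtain ⟨e⟩ := h
  exact meet3_of_in hs (meetIn_J4.congr e.symm)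

end Cfsg.Agent.H47.MeetS
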