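import Cfsg.Agent.H47.Meet3Tool
import Cfsg.Agent.H573.Spor.Mathieu

/-!
# Trivial Sylow 3-intersections: `M₁₂`, `M₂₄` (helper47, S2484)
-/

set_option autoImplicit false
set_option maxRecDepth 100000

namespace Cfsg.Agent.H47.MeetS.Mat

open Subgroup Cfsg Cfsg.Agent.H903.SylMeet Cfsg.Agent.H68.MeetB
open Cfsg.Agent.SporadicStructure.TabPerm Cfsg.Agent.SporadicA.GolayBase
open Cfsg.Agent.H573.Spor.Mat

def pr (s : GolayPt → GolayPt) (i : ℕ) (p : GolayPt) : GolayPt :=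
  match i with
  | 0 => p
  | 1 => s p
  | _ => s (s p)

theorem pow_eq (s : Equiv.Perm GolayPt) {i : ℕ} (hi : i < 3) (p : GolayPt) : (s ^ i) p = pr s i p := by
  match i, hi with
  | 0, _ => rfl
  | 1, _ => rw [pow_one]; rfl
  | 2, _ => rw [pow_two]; rfl

def w (i j k : ℕ) (p : GolayPt) : GolayPt := pr a i (pr b j (pr c k p))

theorem w_eq {i j k : ℕ} (hi : i < 3) (hj : j < 3) (hk : k < 3) (p : GolayPt) :
    (a ^ i * b ^ j * c ^ k) p = w i j k p := by
  rw [Equiv.Perm.mul_apply, Equiv.Perm.mul_apply, pow_eq a hi, pow_eq b hj, pow_eq c hk]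
  rfl

theorem cert : ∀ i j k i' j' k' : Fin 3, (x (w i j k (some 1)) = w i' j' k' (x (some 1)) ∧
    x (w i j k (some 11)) = w i' j' k' (x (some 11))) →
    i = 0 ∧ j = 0 ∧ k = 0 := by
  decide +kernel

theorem main (M : Subgroup (Equiv.Perm GolayPt)) (hM : Spor.M12 ≤ M) (h2 : ¬ 81 ∣ Nat.card M) :
    MeetIn 3 M := by
  have : Fact (Nat.Prime 3) := ⟨by norm_num⟩
  have h : MeetExt.Ext 3 (⟨a, hM a_mem⟩ : M) ⟨b, hM b_mem⟩ ⟨c, hM c_mem⟩ := by
    constructor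
    · exact Subtype.ext ac.symm
    · exact Subtype.ext bc.symm
    · apply Subtype.ext
      change a * b * a⁻¹ * b⁻¹ = c
      rw [ab, mul_assoc b a c, ac]
      have : b * (c * a) * a⁻¹ * b⁻¹ = b * c * b⁻¹ := by group
      rw [this, bc]
      group
    · exact Subtype.ext a3
    · exact Subtype.ext b3
    · exact fun h => c_ne (congrArg Subtype.val h)
  refine Ext.meetIn h (by norm_num; exact h2) ⟨x, hM x_mem⟩ ?_
  intro i j k i' j' k' hi hj hk hi' hj' hk' he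
  have h1 : x * (a ^ i * b ^ j * c ^ k) = (a ^ i' * b ^ j' * c ^ k') * x := congrArg Subtype.val he
  have h3 : ∀ p, x (w i j k p) = w i' j' k' (x p) := by
    intro p
    have h4 := congrArg (fun s : Equiv.Perm GolayPt => s p) h1
    rw [Equiv.Perm.mul_apply, w_eq hi hj hk, Equiv.Perm.mul_apply, w_eq hi' hj' hk'] at h4
    exact h4
  obtain ⟨h5, h6, h7⟩ := cert ⟨i, hi⟩ ⟨j, hj⟩ ⟨k, hk⟩ ⟨i', hi'⟩ ⟨j', hj'⟩ ⟨k', hk'⟩ ⟨h3 _, h3 _⟩
  exact ⟨congrArg Fin.val h5, congrArg Fin.val h6, congrArg Fin.val h7⟩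

end Cfsg.Agent.H47.MeetS.Mat

namespace Cfsg.Agent.H47.MeetS

open Subgroup Cfsg Cfsg.Agent.H903.SylMeet Cfsg.Agent.H68.MeetB

theorem meetIn_M24 : MeetIn 3 M24 := Mat.main M24 (fun _ h => h.1) (by rw [S0364.result]; norm_num)

theorem meetIn_M12 : MeetIn 3 Spor.M12 :=
  Mat.main Spor.M12 le_rfl (by rw [MTwelveType.SylowModel.card_M12]; norm_num)

theorem meet3_M24 {G : Type*} [Group G] [Finite G] [IsSimpleGroup G] (h : Spor.IsoM24 G) : Meet 3 G := by
  have hs : IsSporadicGroup G := by unfold IsSporadicGroup; tauto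
  obtain ⟨e⟩ := h
  exact meet3_of_in hs (meetIn_M24.congr e.symm)

theorem meet3_M12 {G : Type*} [Group G] [Finite G] [IsSimpleGroup G] (h : Spor.IsoM12 G) : Meet 3 G := by
  have hs : IsSporadicGroup G := by unfold IsSporadicGroup; tauto
  obtain ⟨e⟩ := h
  exact meet3_of_in hs (meetIn_M12.congr e.symm)

end Cfsg.Agent.H47.MeetS
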