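import Cfsg.Agent.H47.Meet3Tool
import Cfsg.Agent.H573.Spor.ONThree

/-!
# Trivial Sylow 3-intersections: `O'N` (helper47, S2484)
-/

set_option autoImplicit false

namespace Cfsg.Agent.H47.MeetS

open Subgroup Cfsg Cfsg.Agent.H903.SylMeet

theorem exists_inner_of_pGroup {G : Type*} [Group G] [Finite G] {p : ℕ} [hp : Fact p.Prime]
    (hi : (MulAut.conj : G →* MulAut G).range.index ≤ 2) (h2 : p ≠ 2) {P : Subgroup (MulAut G)} (hP : IsPGroup p P)
    {y : MulAut G} (hy : y ∈ P) : ∃ t : G, MulAut.conj t = y := by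
  have hN : ((MulAut.conj : G →* MulAut G).range).Normal := normal_inn
  have hy2 : y ^ 2 ∈ (MulAut.conj : G →* MulAut G).range := by
    have h1 := Subgroup.pow_index_mem (MulAut.conj : G →* MulAut G).range y
    rcases index_cases hi with h | h <;> rw [h] at h1
    · rw [pow_one] at h1
      exact pow_mem h1 2
    · exact h1
  obtain ⟨k, hk⟩ := hP ⟨y, hy⟩
  have hk' : y ^ p ^ k = 1 := congrArg Subtype.val hk
  have hodd : Odd (p ^ k) := (hp.out.odd_of_ne_two h2).pow
  obtain ⟨m, hm⟩ := hodd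
  have h3 : y = (y ^ 2) ^ (m + 1) := by
    rw [← pow_mul, show 2 * (m + 1) = p ^ k + 1 by omega, pow_succ, hk', one_mul]
  rw [h3]
  obtain ⟨t, ht⟩ := hy2
  exact ⟨t ^ (m + 1), by rw [map_pow, ht]⟩

/-- abelian Sylow subgroups -/
theorem meet_of_comm' {G : Type*} [Group G] [Finite G] [IsSimpleGroup G] {p : ℕ} [hp : Fact p.Prime]
    (hT : ¬ IsMulCommutative G) (hi : (MulAut.conj : G →* MulAut G).range.index ≤ 2) (h2 : p ≠ 2)
    (hc : ∀ P : Sylow p G, IsMulCommutative (P : Subgroup G)) : Meet p G := by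
  let P : Sylow p (MulAut G) := default
  refine meet_of_comm hT P fun a ha b hb => ?_
  obtain ⟨s, rfl⟩ := exists_inner_of_pGroup hi h2 P.isPGroup' ha
  obtain ⟨t, rfl⟩ := exists_inner_of_pGroup hi h2 P.isPGroup' hb
  have hQ : IsPGroup p ((P : Subgroup (MulAut G)).comap MulAut.conj) :=
    P.isPGroup'.comap_of_injective _ (conj_injective hT)
  obtain ⟨S, hS⟩ := hQ.exists_le_sylow
  have h1 := (hc S).is_comm.comm ⟨s, hS ha⟩ ⟨t, hS hb⟩
  rw [← map_mul, ← map_mul]
  exact congrArg (fun u : S => MulAut.conj (u : G)) h1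

theorem meet3_ON {G : Type*} [Group G] [Finite G] [IsSimpleGroup G] (h : Spor.IsoON G) : Meet 3 G := by
  have : Fact (Nat.Prime 3) := ⟨by norm_num⟩
  have hs : IsSporadicGroup G := by unfold IsSporadicGroup; tauto
  exact meet_of_comm' (not_comm_spor hs) (H498.SporOut.index_le_two hs) (by norm_num) fun P => H573.Spor.on_3 h P

end Cfsg.Agent.H47.MeetS
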