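import Cfsg.Agent.H47.MeetIdx
import Cfsg.Agent.H47.MeetExt
import Cfsg.Agent.H68.MeetBase

/-!
# Trivial Sylow 3-intersections in sporadic groups: tools (helper47, S2484)

* `meet3_of_in` : inner version;
* `Ext.meetIn` : Sylow subgroups of order `p ^ 3`, non-abelian of exponent `p`, one conjugating element.
-/

set_option autoImplicit false

namespace Cfsg.Agent.H47.MeetS

open Subgroup Cfsg Cfsg.Agent.H903.SylMeet Cfsg.Agent.H68.MeetB

theorem autInner_of {G : Type*} [Group G] [Finite G] {p : ℕ} [Fact p.Prime] (h2 : p ≠ 2)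
    (hi : (MulAut.conj : G →* MulAut G).range.index ≤ 2) : CpAut.AutInner p G := by
  intro s hs
  obtain ⟨t, ht⟩ := exists_inner hi h2 hs
  exact ⟨t, ht.symm⟩

theorem meet3_of_in {G : Type*} [Group G] [Finite G] [IsSimpleGroup G] (hs : IsSporadicGroup G) (h : MeetIn 3 G) :
    Meet 3 G := by
  have : Fact (Nat.Prime 3) := ⟨by norm_num⟩
  exact MeetIn.meet (autInner_of (by norm_num) (H498.SporOut.index_le_two hs)) (not_comm_spor hs) h

theorem meet3_of_small {G : Type*} [Group G] [Finite G] [IsSimpleGroup G] (hs : IsSporadicGroup G)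
    (h : ¬ 3 ^ 3 ∣ Nat.card G) : Meet 3 G := by
  have : Fact (Nat.Prime 3) := ⟨by norm_num⟩
  exact meet_of_small (not_comm_spor hs) (H498.SporOut.index_le_two hs) (by norm_num) h

/-- counting, `|P| = 3 ^ 3` -/
theorem meet3_of_index {G : Type*} [Group G] [Finite G] [IsSimpleGroup G] (hs : IsSporadicGroup G)
    (h : ¬ 3 ^ 4 ∣ Nat.card G) (hB : ∀ y : G, orderOf y = 3 → 170 ≤ (normalizer (zpowers y : Set G)).index) :
    Meet 3 G := by
  have : Fact (Nat.Prime 3) := ⟨by norm_num⟩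
  exact MeetS.meet_of_index (not_comm_spor hs) (H498.SporOut.index_le_two hs) (by norm_num) (k := 3) (s := 13) (n := 170)
    h (by norm_num) hB (by norm_num)

theorem Ext.exists_nat {G : Type*} [Group G] {p : ℕ} [hp : Fact p.Prime] {x y c : G} (h : MeetExt.Ext p x y c) {g : G}
    (hg : g ∈ h.H) : ∃ i j k : ℕ, i < p ∧ j < p ∧ k < p ∧ g = x ^ i * y ^ j * c ^ k := by
  obtain ⟨i, j, k, rfl⟩ := hg
  have hp0 : (p : ℤ) ≠ 0 := by exact_mod_cast hp.out.ne_zero
  have hpp : 0 < (p : ℤ) := by exact_mod_cast hp.out.pos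
  have key : ∀ i : ℤ, ∃ n : ℕ, n < p ∧ (n : ℤ) ≡ i [ZMOD p] := by
    intro i
    have h2 := Int.emod_nonneg i hp0
    have h3 := Int.emod_lt_of_pos i hpp
    refine ⟨(i % p).toNat, by omega, ?_⟩
    rw [Int.toNat_of_nonneg h2]
    exact Int.mod_modEq i p
  obtain ⟨a, ha, ha'⟩ := key i
  obtain ⟨b, hb, hb'⟩ := key j
  obtain ⟨d, hd, hd'⟩ := key k
  refine ⟨a, b, d, ha, hb, hd, ?_⟩
  rw [← h.E_congr ha' hb' hd']
  simp [MeetExt.Ext.E]

theorem Ext.meetIn {G : Type*} [Group G] [Finite G] {p : ℕ} [hp : Fact p.Prime] {x y c : G}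
    (h : MeetExt.Ext p x y c) (hG : ¬ p ^ 4 ∣ Nat.card G) (g : G)
    (hg : ∀ i j k i' j' k' : ℕ, i < p → j < p → k < p → i' < p → j' < p → k' < p →
      g * (x ^ i * y ^ j * c ^ k) = (x ^ i' * y ^ j' * c ^ k') * g → i = 0 ∧ j = 0 ∧ k = 0) : MeetIn p G := by
  refine MeetIn.of_one h.H (IsPGroup.of_card h.card_H) ?_ ⟨g, ?_⟩
  · intro hd
    apply hG
    rw [← h.H.card_mul_index, h.card_H, pow_succ]
    exact Nat.mul_dvd_mul_left _ hd
  · intro u hu hgu
    obtain ⟨i, j, k, hi, hj, hk, hu'⟩ := Ext.exists_nat h hu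
    obtain ⟨i', j', k', hi', hj', hk', hv⟩ := Ext.exists_nat h hgu
    obtain ⟨rfl, rfl, rfl⟩ := hg i j k i' j' k' hi hj hk hi' hj' hk' (by
      rw [← hu', ← hv]; group)
    rw [hu']
    simp

end Cfsg.Agent.H47.MeetS
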