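import Cfsg.Agent.H47.MeetAb
import Cfsg.Agent.H149.Sp.Conway
import Cfsg.Agent.CpAutCoOneFive.Main
import Cfsg.Agent.CpAutMSeven.RanksH

/-!
# Trivial Sylow 5-intersections: `Co3`, `Co2`, `Co1` (helper47, S5762)
-/

set_option autoImplicit false

namespace Cfsg.Agent.H47.MeetS

open Subgroup Cfsg Cfsg.Agent.H903.SylMeet

instance fact5 : Fact (Nat.Prime 5) := ⟨by norm_num⟩
instance fact7 : Fact (Nat.Prime 7) := ⟨by norm_num⟩

/-- a subgroup of order divisible by the full power of `p` meets every class of `p`-elements -/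
theorem exists_conj_mem {G : Type*} [Group G] [Finite G] {p n : ℕ} [Fact p.Prime] (hG : ¬ p ^ (n + 1) ∣ Nat.card G)
    {H : Subgroup G} (hH : p ^ n ∣ Nat.card H) {a : G} {k : ℕ} (ha : a ^ p ^ k = 1) : ∃ g : G, g * a * g⁻¹ ∈ H := by
  obtain ⟨Q, hQ⟩ := Sylow.exists_subgroup_card_pow_prime p hH
  have hQc : Nat.card (Q.map H.subtype) = p ^ n := by
    rw [← Nat.card_congr (Q.equivMapOfInjective _ H.subtype_injective).toEquiv, hQ]
  have hQp : IsPGroup p (Q.map H.subtype) := IsPGroup.of_card hQc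
  have hz : IsPGroup p (zpowers a) := by
    have h1 : orderOf a ∣ p ^ k := orderOf_dvd_of_pow_eq_one ha
    obtain ⟨j, -, hj⟩ := (Nat.dvd_prime_pow Fact.out).1 h1
    exact IsPGroup.of_card (n := j) (by rw [Nat.card_zpowers, hj])
  obtain ⟨S, hS⟩ := hQp.exists_le_sylow
  obtain ⟨T, hT⟩ := hz.exists_le_sylow
  have hSQ : (S : Subgroup G) = Q.map H.subtype := by
    symm
    apply Subgroup.eq_of_le_of_card_ge hS
    rw [hQc]
    obtain ⟨m, hm⟩ := S.isPGroup'.exists_card_eq
    rw [hm]
    apply Nat.pow_le_pow_right (Fact.out : p.Prime).pos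
    by_contra hlt
    exact hG ((pow_dvd_pow p (by omega)).trans (hm ▸ Subgroup.card_subgroup_dvd_card (S : Subgroup G)))
  obtain ⟨g, hg⟩ := MulAction.exists_smul_eq G T S
  refine ⟨g, ?_⟩
  have h1 : g * a * g⁻¹ ∈ ((g • T : Sylow p G) : Subgroup G) := by
    rw [Sylow.coe_subgroup_smul]
    exact ⟨a, hT (mem_zpowers a), rfl⟩
  rw [hg, hSQ] at h1
  obtain ⟨q, -, hq⟩ := h1
  rw [← hq]
  exact q.2

/-! ### subgroups of `Co0` -/

section

open Cfsg.Agent.H149.Sp Cfsg.Agent.H163.PG

theorem meet_emb {G : Type*} [Group G] [Finite G] [IsSimpleGroup G] (hs : IsSporadicGroup G) (f : G →* Co0)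
    (hf : Function.Injective f) {v : leechLattice} (hv : v ≠ 0) (hfix : ∀ g, f g • v = v)
    (hd : 1771 ∣ Nat.card G) (h5 : ¬ 5 ^ 4 ∣ Nat.card G) : Meet 5 G := by
  have hadj : ∀ r : ℕ, r = 7 ∨ r = 11 ∨ r = 23 → ¬ Adj G 5 r := by
    rintro r (rfl | rfl | rfl)
    · exact not_adj_57 f hf hv hfix
    · exact not_adj_of_emb f hf p5 p11 (by norm_num) (by norm_num)
    · exact not_adj_of_emb f hf p5 p23 (by norm_num) (by norm_num)
  have hr : ∀ r : ℕ, r.Prime → r ∣ 1771 → r = 7 ∨ r = 11 ∨ r = 23 := by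
    intro r hr h
    rw [show 1771 = 7 * (11 * 23) by norm_num, hr.dvd_mul, hr.dvd_mul, Nat.prime_dvd_prime_iff_eq hr (by norm_num),
      Nat.prime_dvd_prime_iff_eq hr (by norm_num), Nat.prime_dvd_prime_iff_eq hr (by norm_num)] at h
    exact h
  refine meet_of_bound (not_comm_spor hs) (H498.SporOut.index_le_two hs) (by norm_num) (k := 3) (s := 31)
    (B := Nat.card G / 1771) h5 (by norm_num) (fun y hy => ?_) ?_
  · rw [Nat.le_div_iff_mul_le (by norm_num)]
    refine card_mul_le _ hd fun r hr1 hr2 => ?_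
    have h3 := hr r hr1 hr2
    refine not_dvd_normalizer hy hr1 ?_ ?_
    · rcases h3 with rfl | rfl | rfl <;> norm_num
    · intro x hx hxy
      apply hadj r h3
      refine ⟨x * y, ?_⟩
      rw [(show Commute x y from hxy).orderOf_mul_eq_mul_orderOf_of_coprime, hx, hy, mul_comm]
      rw [hx, hy]
      rcases h3 with rfl | rfl | rfl <;> norm_num
  · have h1 : Nat.card G / 1771 * 1771 ≤ Nat.card G := Nat.div_mul_le_self _ _
    have h2 : 0 < Nat.card G := Nat.card_pos
    omega

theorem meet5_Co3 {G : Type*} [Group G] [Finite G] [IsSimpleGroup G] (h : Spor.IsoCo3 G) : Meet 5 G := by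
  have hn : Nat.card G = 495766656000 := NotCT.Orders.co3 h
  have hs : IsSporadicGroup G := by unfold IsSporadicGroup; tauto
  obtain ⟨e⟩ := h
  exact meet_emb hs ((Subgroup.inclusion (inf_le_left : Spor.Co3 ≤ Co0)).comp e.toMonoidHom)
    ((Subgroup.inclusion_injective (inf_le_left : Spor.Co3 ≤ Co0)).comp e.injective) leechV_ne (fun g => (e g).2.2)
    (by rw [hn]; norm_num) (by rw [hn]; norm_num)

theorem meet5_Co2 {G : Type*} [Group G] [Finite G] [IsSimpleGroup G] (h : Spor.IsoCo2 G) : Meet 5 G := by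
  have hn : Nat.card G = 42305421312000 := NotCT.Orders.co2 h
  have hs : IsSporadicGroup G := by unfold IsSporadicGroup; tauto
  obtain ⟨e⟩ := h
  exact meet_emb hs ((Subgroup.inclusion (inf_le_left : Spor.Co2 ≤ Co0)).comp e.toMonoidHom)
    ((Subgroup.inclusion_injective (inf_le_left : Spor.Co2 ≤ Co0)).comp e.injective) leechU_ne (fun g => (e g).2.2)
    (by rw [hn]; norm_num) (by rw [hn]; norm_num)

end

/-! ### `Co1` -/

section

open Module Polynomial
open Cfsg.Agent.SigZeroCo2.Rank (fix mem_fix)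
open Cfsg.Agent.H149.Sp

/-- Two commuting automorphisms of prime orders, the first one moving fewer than `(p - 1) (q - 1)` dimensions -/
theorem finrank_le_add' {V : Type*} [AddCommGroup V] [Module ℚ V] [FiniteDimensional ℚ V] {p q : ℕ} (hp : p.Prime)
    (hq : q.Prime) (hpq : p ≠ q) {x y : End ℚ V} (hx : x ^ p = 1) (hy : y ^ q = 1) (hc : x * y = y * x)
    (hbig : finrank ℚ V < finrank ℚ (fix x) + (q - 1) * (p - 1)) :
    finrank ℚ V ≤ finrank ℚ (fix x) + finrank ℚ (fix y) := by
  have hc' : Commute x y := hc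
  have hwq : (x * y) ^ q = x ^ q := by rw [hc'.mul_pow, hy, mul_one]
  have hwp : (x * y) ^ p = y ^ p := by rw [hc'.mul_pow, hx, one_mul]
  have key : ∀ v, (x ^ q) ((y ^ p) v - v) = (y ^ p) v - v := by
    intro v
    by_contra hne
    set u := (x ^ q) ((y ^ p) v - v) - ((y ^ p) v - v) with hu
    have hu0 : u ≠ 0 := sub_ne_zero.2 hne
    have hue : u = aeval (x * y) ((X ^ q - 1) * (X ^ p - 1) : ℚ[X]) v := by
      simp only [map_mul, map_sub, aeval_X, map_one, map_pow, hwq, hwp, Module.End.mul_apply,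
        LinearMap.sub_apply, Module.End.one_apply]
      rw [hu, map_sub]
      abel
    have hinv : ∀ w ∈ LinearMap.range (x - LinearMap.id), (x * y) w ∈ LinearMap.range (x - LinearMap.id) := by
      rintro _ ⟨w, rfl⟩
      refine ⟨(x * y) w, ?_⟩
      have h1 : x (y w) = y (x w) := LinearMap.congr_fun hc w
      simp only [LinearMap.sub_apply, LinearMap.id_apply, Module.End.mul_apply, map_sub]
      rw [← h1]
    have h1 := totient_le_of_mem (x * y) _ hinv (Nat.mul_pos hq.pos hp.pos) (u := u) ?_ hu0 ?_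
    · rw [Nat.totient_mul ((Nat.coprime_primes hq hp).2 (Ne.symm hpq)), Nat.totient_prime hq, Nat.totient_prime hp] at h1
      have := finrank_range_add x
      omega
    · obtain ⟨R, hR⟩ : (X - 1 : ℚ[X]) ∣ X ^ q - 1 := by simpa using sub_one_dvd_pow_sub_one (X : ℚ[X]) q
      refine ⟨aeval x R ((y ^ p) v - v), ?_⟩
      have h3 : x ^ q - 1 = (x - 1) * aeval x R := by
        have h4 := congrArg (aeval x) hR
        rw [map_mul, map_sub, map_sub, map_pow, aeval_X, map_one] at h4
        exact h4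
      have h5 : u = (x ^ q - 1) ((y ^ p) v - v) := by
        rw [hu, LinearMap.sub_apply]; rfl
      rw [h5, h3, Module.End.mul_apply]
      rfl
    · rw [hue, ← Module.End.mul_apply, ← map_mul, CpAutBig.TwoPrimes.cyclotomic_mul hp hq hpq, map_mul]
      have h3 : aeval (x * y) (X ^ (q * p) - 1 : ℚ[X]) = 0 := by
        rw [map_sub, map_pow, aeval_X, map_one, pow_mul, hwq, ← pow_mul, mul_comm q p, pow_mul, hx, one_pow, sub_self]
      rw [h3, zero_mul, LinearMap.zero_apply]
  have hfy : fix (y ^ p) = fix y := fix_pow_of_coprime hy ((Nat.coprime_primes hp hq).2 hpq)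
  have hfx : fix (x ^ q) = fix x := fix_pow_of_coprime hx ((Nat.coprime_primes hq hp).2 (Ne.symm hpq))
  have h1 : LinearMap.range (y ^ p - LinearMap.id) ≤ fix x := by
    rintro _ ⟨v, rfl⟩
    rw [← hfx, mem_fix]
    simpa using key v
  have h2 := finrank_range_add (y ^ p)
  rw [hfy] at h2
  have h3 := Submodule.finrank_mono h1
  omega

open Cfsg.Agent.SigZeroCo2.Lin Cfsg.Agent.LThreeBX.NoSeven Cfsg.Agent.CoOneType.ClosingFacts
open Cfsg.Agent.CpAutBig.SevenFix (r7 isPerm_r7 r7_pow r7_ne orderOf_r7)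
open Cfsg.Agent.SporadicA.Co0Mono (signCo0)
open Cfsg.Agent.SporadicA.Co1Simple (allOne)

theorem fd_r7 : fd r7 = 6 := by
  have h1 := fr_mk_eq (a := r7) (n := 7) (by decide) r7_pow
  have h2 : LThreeMB.fr (QuotientGroup.mk r7 : Spor.Co1) = 2 ^ 6 := CpAutMSeven.RanksH.fr_s0
  rw [h2] at h1
  exact (Nat.pow_right_injective le_rfl h1).symm

/-- no element of order 5 commutes with a conjugate of `r7` -/
theorem r7_not_comm {g b : Co0} (hb : orderOf b = 5) : (g * r7 * g⁻¹) * b ≠ b * (g * r7 * g⁻¹) := by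
  intro hc
  have hc' : r7 * (g⁻¹ * b * g) = (g⁻¹ * b * g) * r7 := by
    calc r7 * (g⁻¹ * b * g) = g⁻¹ * ((g * r7 * g⁻¹) * b) * g := by group
      _ = g⁻¹ * (b * (g * r7 * g⁻¹)) * g := by rw [hc]
      _ = (g⁻¹ * b * g) * r7 := by group
  have hb' : orderOf (g⁻¹ * b * g) = 5 := by
    rw [← hb]
    have h2 : (MulAut.conj g⁻¹) b = g⁻¹ * b * g := by
      rw [MulAut.conj_apply, inv_inv]
    rw [← h2]
    exact MulEquiv.orderOf_eq (MulAut.conj g⁻¹) b
  have h1 := fd_le (Or.inl rfl) hb'
  have h2 := finrank_le_add' (p := 7) (q := 5) (by norm_num) (by norm_num) (by norm_num) (x := rep r7)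
    (y := rep (g⁻¹ * b * g)) (by rw [← map_pow, r7_pow, map_one])
    (by rw [← map_pow, ← hb', pow_orderOf_eq_one, map_one]) (by rw [← map_mul, hc', map_mul]) (by
      rw [finrank_Sp]
      have h3 : finrank ℚ (fix (rep r7)) = 6 := fd_r7
      rw [h3]
      norm_num)
  rw [finrank_Sp] at h2
  have h3 : finrank ℚ (fix (rep r7)) = 6 := fd_r7
  have h4 : finrank ℚ (fix (rep (g⁻¹ * b * g))) ≤ 8 := h1
  omega

theorem not_49 {x : Co0} (hx : orderOf x = 5) : ¬ 7 ^ 2 ∣ Nat.card (centralizer ({x} : Set Co0)) := by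
  have hfin : Finite Co0 := Cfsg.Agent.CoOneType.FrameFix.finite_co0
  intro h
  obtain ⟨g, hg⟩ := exists_conj_mem (p := 7) (n := 2) (by rw [S0397.result]; norm_num) h (a := r7) (k := 1)
    (by rw [pow_one]; exact r7_pow)
  exact r7_not_comm hx (mem_centralizer_singleton_iff.1 hg)

theorem card_cent_co0 {x : Co0} (hx : orderOf x = 5) :
    Nat.card (centralizer ({x} : Set Co0)) * 115115 ≤ Nat.card Co0 := by
  have hfin : Finite Co0 := Cfsg.Agent.CoOneType.FrameFix.finite_co0
  by_cases h5 : 5 ^ 4 ∣ Nat.card (centralizer ({x} : Set Co0))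
  · obtain ⟨w, hw⟩ := CpAutCoOneFive.Main.conj_c_of_card hx h5
    obtain ⟨e⟩ := CpAutCoOneFive.Main.centralizer_equiv (by norm_num) hx CpAutCoOneFive.Cls.orderOf_c hw
    rw [Nat.card_congr e.toEquiv, S0397.result]
    have h1 := Nat.le_of_dvd (by norm_num) CpAutCoOneFive.ClC.card_dvd_c
    exact (Nat.mul_le_mul_right _ h1).trans (by norm_num)
  · -- the primes `7, 11, 13, 23` and `5`
    have hd : Nat.card (centralizer ({x} : Set Co0)) ∣ 8315553613086720000 := by
      rw [← S0397.result]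
      exact Subgroup.card_subgroup_dvd_card _
    have hnd : ∀ r : ℕ, P5 r → 7 < r → ¬ r ∣ Nat.card (centralizer ({x} : Set Co0)) := by
      intro r hr h7 hdr
      have := Fact.mk hr.prime
      obtain ⟨b, hb⟩ := exists_prime_orderOf_dvd_card' r hdr
      exact co0_not_comm p5 hr (by omega) (by omega) hx (by rw [Subgroup.orderOf_coe, hb])
        (mem_centralizer_singleton_iff.1 b.2).symm
    have h11 := hnd 11 p11 (by norm_num)
    have h13 := hnd 13 p13 (by norm_num)
    have h23 := hnd 23 p23 (by norm_num)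
    have h49 := not_49 hx
    obtain ⟨m, hm⟩ := hd
    have key : ∀ {a r k : ℕ}, r.Prime → r ^ (k + 1) ∣ a * m → ¬ r ^ (k + 1) ∣ a → r ∣ m := by
      intro a r k hr h1 h2
      by_contra h3
      exact h2 (((Nat.Prime.coprime_iff_not_dvd hr).2 h3).pow_left _ |>.dvd_of_dvd_mul_right h1)
    have m5 : 5 ∣ m := key (k := 3) (by norm_num) (by rw [← hm]; norm_num) h5
    have m7 : 7 ∣ m := key (k := 1) (by norm_num) (by rw [← hm]; norm_num) h49
    have m11 : 11 ∣ m := key (k := 0) (by norm_num) (by rw [← hm]; norm_num) (by simpa using h11)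
    have m13 : 13 ∣ m := key (k := 0) (by norm_num) (by rw [← hm]; norm_num) (by simpa using h13)
    have m23 : 23 ∣ m := key (k := 0) (by norm_num) (by rw [← hm]; norm_num) (by simpa using h23)
    have hmm : 115115 ∣ m := by
      rw [show 115115 = 5 * (7 * (11 * (13 * 23))) by norm_num]
      exact Nat.Coprime.mul_dvd_of_dvd_of_dvd (by norm_num) m5 (Nat.Coprime.mul_dvd_of_dvd_of_dvd (by norm_num) m7
        (Nat.Coprime.mul_dvd_of_dvd_of_dvd (by norm_num) m11 (Nat.Coprime.mul_dvd_of_dvd_of_dvd (by norm_num) m13 m23)))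
    have hm0 : 0 < m := by
      rcases Nat.eq_zero_or_pos m with h | h
      · rw [h, mul_zero] at hm
        norm_num at hm
      · exact h
    have h1 := Nat.le_of_dvd hm0 hmm
    rw [S0397.result, hm]
    exact Nat.mul_le_mul_left _ h1

theorem card_cent_co1 {s : Spor.Co1} (hs : orderOf s = 5) :
    Nat.card (centralizer ({s} : Set Spor.Co1)) * 115115 ≤ Nat.card Spor.Co1 := by
  have hfin : Finite Co0 := Cfsg.Agent.CoOneType.FrameFix.finite_co0
  have hf1 : Finite Spor.Co1 := Nat.finite_of_card_ne_zero (by rw [Cfsg.Agent.S0399.result.2]; norm_num)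
  obtain ⟨a, rfl, ha⟩ := exists_odd (n := 5) (by decide) (show s ^ 5 = 1 by rw [← hs, pow_orderOf_eq_one])
  have hao : orderOf a = 5 := by
    refine orderOf_eq_prime ha ?_
    rintro rfl
    have : (QuotientGroup.mk 1 : Spor.Co1) = 1 := rfl
    change orderOf (QuotientGroup.mk 1 : Spor.Co1) = 5 at hs
    rw [this, orderOf_one] at hs
    norm_num at hs
  have h1 := card_cent_co0 hao
  have h2 : Nat.card (centralizer ({mk a} : Set Spor.Co1)) * 2 ≤ Nat.card (centralizer ({a} : Set Co0)) := by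
    have hl : ∀ k : centralizer ({mk a} : Set Spor.Co1), ∃ g : Co0, mk g = k ∧ g * a = a * g := by
      intro k
      obtain ⟨g, hg⟩ := exists_mk (k : Spor.Co1)
      refine ⟨g, hg, ?_⟩
      have h3 := mem_centralizer_singleton_iff.1 k.2
      rw [← hg] at h3
      exact (comm_of_mk (by decide) ha h3.symm).symm
    choose g hg1 hg2 using hl
    have hc : ∀ x : Co0, x * signCo0 allOne = signCo0 allOne * x := fun x => by
      have h3 : signCo0 allOne ∈ center Co0 := (mem_center_iff _).2 (Or.inr rfl)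
      exact Subgroup.mem_center_iff.1 h3 x
    have h3 : Nat.card Bool = 2 := by simp
    rw [← h3, ← Nat.card_prod]
    refine Nat.card_le_card_of_injective (fun k => (⟨g k.1 * (if k.2 then signCo0 allOne else 1), ?_⟩ :
      centralizer ({a} : Set Co0))) ?_
    · rw [mem_centralizer_singleton_iff]
      split_ifs
      · rw [mul_assoc, ← hc, ← mul_assoc, hg2, mul_assoc]
      · rw [mul_one, hg2]
    · rintro ⟨k, i⟩ ⟨l, j⟩ hkl
      have h4 : g k * (if i then signCo0 allOne else 1) = g l * (if j then signCo0 allOne else 1) :=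
        congrArg Subtype.val hkl
      have hmk : ∀ b : Bool, mk (if b then signCo0 allOne else 1) = 1 := by
        intro b
        rw [mk_eq_one]
        cases b
        · exact Or.inl rfl
        · exact Or.inr rfl
      have h5 : (k : Spor.Co1) = l := by
        have h6 := congrArg mk h4
        rw [mk_mul, mk_mul, hmk, hmk, mul_one, mul_one, hg1, hg1] at h6
        exact h6
      have h6 : k = l := Subtype.ext h5
      subst h6
      have h7 := mul_left_cancel h4
      cases i <;> cases j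
      · rfl
      · exact absurd h7.symm n_ne
      · exact absurd h7 n_ne
      · rfl
  rw [S0397.result] at h1
  rw [Cfsg.Agent.S0399.result.2]
  have h3 := Nat.mul_le_mul_right 115115 h2
  linarith

theorem meet5_Co1 {G : Type*} [Group G] [Finite G] [IsSimpleGroup G] (h : Spor.IsoCo1 G) : Meet 5 G := by
  have hs : IsSporadicGroup G := by unfold IsSporadicGroup; tauto
  obtain ⟨e⟩ := h
  have hf1 : Finite Spor.Co1 := Nat.finite_of_card_ne_zero (by rw [Cfsg.Agent.S0399.result.2]; norm_num)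
  have hsim : IsSimpleGroup Spor.Co1 := Cfsg.Agent.S0399.result.1
  have hs1 : IsSporadicGroup Spor.Co1 := by
    have : Spor.IsoCo1 Spor.Co1 := ⟨MulEquiv.refl _⟩
    unfold IsSporadicGroup; tauto
  refine Meet.congr e.symm (meet_of_bound (not_comm_spor hs1) (H498.SporOut.index_le_two hs1) (by norm_num) (k := 4)
    (s := 156) (B := 4 * (Nat.card Spor.Co1 / 115115)) (by rw [Cfsg.Agent.S0399.result.2]; norm_num) (by norm_num)
    (fun y hy => ?_) ?_)
  · have h1 := card_normalizer_le hy
    have h2 := (Nat.le_div_iff_mul_le (by norm_num)).2 (card_cent_co1 hy)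
    omega
  · rw [Cfsg.Agent.S0399.result.2]
    norm_num

end

end Cfsg.Agent.H47.MeetS
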