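import Cfsg.Agent.H47.MeetIdx
import Cfsg.Agent.CpAutFiSeven.None

/-!
# Trivial Sylow intersections: `Fi24'`, `p = 7` (helper47, S5762)
-/

set_option autoImplicit false
set_option maxRecDepth 100000

namespace Cfsg.Agent.H47.MeetS.Fi

open Subgroup Cfsg Cfsg.Spor Cfsg.Agent.H903.SylMeet
open Cfsg.Agent.R08.FiTwentyFour (L)
open Cfsg.Agent.CpAutFiSeven

instance fact7 : Fact (Nat.Prime 7) := ⟨by norm_num⟩

instance finF : Finite Fi24 := R08.FiTwentyFour.finite_Fi24

instance finF' : Finite Spor.Fi24' := inferInstanceAs (Finite ↥(commutator Fi24))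

theorem card_C {d : Fi24} (hd : d ∈ L) : Nat.card Fi24 = 306936 * Nat.card (centralizer ({d} : Set Fi24)) := by
  have h1 := R08.TetBig.orb (⊤ : Subgroup Fi24) d L (fun y => by
    constructor
    · intro hy
      obtain ⟨g, hg⟩ := isConj_L hd hy
      exact ⟨g, mem_top g, hg⟩
    · rintro ⟨g, -, rfl⟩
      exact R08.FiTwentyFour.conj hd g)
  rwa [card_top, R08.FiTwentyFour.ncard_L, top_inf_eq] at h1

theorem card_norm_le {x d : Fi24} (hx : orderOf x = 7) (hd : d ∈ L) (hxd : x * d = d * x) :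
    Nat.card (normalizer (zpowers x : Set Fi24)) ≤ 42 * Nat.card (centralizer ({d} : Set Fi24)) := by
  classical
  obtain ⟨t, ht⟩ := tri hx hd hxd
  set K := normalizer (zpowers x : Set Fi24) with hK
  rw [R08.TetBig.orb K d {y | ∃ g ∈ K, g * d * g⁻¹ = y} (fun y => Iff.rfl)]
  refine Nat.mul_le_mul ?_ (Nat.card_le_card_of_injective (Subgroup.inclusion inf_le_right)
    (Subgroup.inclusion_injective _))
  let A : Finset Fi24 := (Finset.univ.filter fun i : Fin 7 × Fin 7 => i.1 ≠ i.2).image fun i => t i.1 i.2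
  have hA : A.card ≤ 42 := Finset.card_image_le.trans (by decide)
  refine le_trans ?_ hA
  rw [← Set.ncard_coe_finset A]
  refine Set.ncard_le_ncard ?_ (Finset.finite_toSet A)
  rintro _ ⟨g, hg, rfl⟩
  have h1 : g * d * g⁻¹ ∈ L := R08.FiTwentyFour.conj hd g
  have h2 : x * (g * d * g⁻¹) = g * d * g⁻¹ * x := by
    have h3 : g⁻¹ * x * g ∈ zpowers x := by
      have h4 := (mem_normalizer_iff.1 (inv_mem hg) x).1 (mem_zpowers x)
      rwa [inv_inv] at h4
    have h5 : zpowers x ≤ centralizer ({d} : Set Fi24) := zpowers_le.2 (mem_centralizer_singleton_iff.2 hxd)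
    have h6 := mem_centralizer_singleton_iff.1 (h5 h3)
    calc x * (g * d * g⁻¹) = g * ((g⁻¹ * x * g) * d) * g⁻¹ := by group
      _ = g * (d * (g⁻¹ * x * g)) * g⁻¹ := by rw [h6]
      _ = g * d * g⁻¹ * x := by group
  obtain ⟨i, j, hij, h3⟩ := ht.surj _ h1 h2
  rw [Finset.mem_coe]
  exact Finset.mem_image.2 ⟨(i, j), Finset.mem_filter.2 ⟨Finset.mem_univ _, hij⟩, h3.symm⟩

theorem index_le {x : Spor.Fi24'} (hx : orderOf x = 7) : 3250 ≤ (normalizer (zpowers x : Set Spor.Fi24')).index := by
  have hn : Nat.card Spor.Fi24' = 1255205709190661721292800 := R08.FiTwentyFour.card_commutator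
  have h0 : (normalizer (zpowers x : Set Spor.Fi24')).index ≠ 0 := index_ne_zero_of_finite
  by_cases h : ∃ d ∈ L, (x : Fi24) * d = d * x
  · obtain ⟨d, hd, hxd⟩ := h
    have h1 := card_norm_le ((Subgroup.orderOf_coe x).trans hx) hd hxd
    have h2 : Nat.card (normalizer (zpowers x : Set Spor.Fi24')) ≤
        Nat.card (normalizer (zpowers (x : Fi24) : Set Fi24)) :=
      card_normalizer_map (commutator Fi24).subtype Subtype.val_injective x
    have h3 := card_C hd
    rw [card_F] at h3
    have h4 := (normalizer (zpowers x : Set Spor.Fi24')).card_mul_index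
    rw [hn] at h4
    by_contra hlt
    push Not at hlt
    have h5 : Nat.card (normalizer (zpowers x : Set Spor.Fi24')) * (normalizer (zpowers x : Set Spor.Fi24')).index ≤
        42 * Nat.card (centralizer ({d} : Set Fi24)) * 3249 :=
      Nat.mul_le_mul (h2.trans h1) (by omega)
    omega
  · push Not at h
    have h1 := not_four_cent hx h
    have h2 : 2 ^ 19 ∣ (normalizer (zpowers x : Set Spor.Fi24')).index :=
      pow_dvd_index (p := 7) hx (a := 19) (b := 1) (c := 1) Nat.prime_two (by rw [hn]; norm_num) (by norm_num) h1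
    have h3 := Nat.le_of_dvd (Nat.pos_of_ne_zero h0) h2
    omega

end Cfsg.Agent.H47.MeetS.Fi

namespace Cfsg.Agent.H47.MeetS

open Cfsg Cfsg.Agent.H903.SylMeet

theorem meet7_Fi24 {G : Type*} [Group G] [Finite G] [IsSimpleGroup G] (h : Spor.IsoFi24' G) : Meet 7 G := by
  obtain ⟨e⟩ := h
  have hn : Nat.card Spor.Fi24' = 1255205709190661721292800 := R08.FiTwentyFour.card_commutator
  have hsim : IsSimpleGroup Spor.Fi24' := R08.FiTwentyFour.isFi24'.1
  have hs1 : IsSporadicGroup Spor.Fi24' := by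
    have : Spor.IsoFi24' Spor.Fi24' := ⟨MulEquiv.refl _⟩
    unfold IsSporadicGroup; tauto
  refine Meet.congr e.symm (meet_of_index (not_comm_spor hs1) (H498.SporOut.index_le_two hs1) (by norm_num) (k := 3)
    (s := 57) (n := 3250) (by rw [hn]; norm_num) (by norm_num) (fun y hy => Fi.index_le hy) (by norm_num))

end Cfsg.Agent.H47.MeetS
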