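import Cfsg.Agent.H47.MeetIdx
import Cfsg.Agent.CpAutHe.Seven

/-!
# Trivial Sylow intersections: the Held group, `p = 7` (helper47, S5762)
-/

set_option autoImplicit false
set_option maxRecDepth 100000

namespace Cfsg.Agent.H47.MeetS.Held

open Subgroup Cfsg Cfsg.Agent.H903.SylMeet
open Cfsg.Spor.He (Gen)
open Cfsg.Agent.SporadicB.HePerm (act wd phi fixer mem_fixer allBelow of_allBelow)
open Cfsg.Agent.FixBN.HeStab Cfsg.Agent.KFacts.He.Lv Cfsg.Agent.CpAutHe.Cnt Cfsg.Agent.CpAutHe.Bound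
open Cfsg.Agent.CpAutHe.Seven (simple_he ne_one_of_act)

instance fact7 : Fact (Nat.Prime 7) := ⟨by norm_num⟩
instance fact17 : Fact (Nat.Prime 17) := ⟨by norm_num⟩

/-- the word of an element of order 17 -/
def U0 : List Gen := [.b, .c, .d, .f]

theorem chkU : chkB (pw U0 17) [] = true := by decide +kernel

theorem u0_pow : wd U0 ^ 17 = 1 := by
  have h := eq_of_chkB chkU
  rwa [wd_pw, wd_nil] at h

theorem u0_ne : wd U0 ≠ 1 := ne_one_of_act 5 (by decide +kernel)

theorem orderOf_u0 : orderOf (wd U0) = 17 := orderOf_eq_prime u0_pow u0_ne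

theorem chkF : allBelow 2058 (fun i => Nat.beq i 1334 || !(Nat.beq (act U0 i) i)) = true := by decide +kernel

theorem fixed {i : Fin 2058} (hi : phi (wd U0) i = i) : (i : ℕ) = 1334 := by
  have h := of_allBelow chkF i i.2
  rw [Bool.or_eq_true] at h
  rcases h with h | h
  · exact Nat.eq_of_beq_eq_true h
  · rw [act_eq, hi, Nat.beq_refl] at h
    exact absurd h (by decide)

theorem chkG : Nat.beq (act U0 1334) 1334 = true := by decide +kernel

theorem fixed' : phi (wd U0) (1334 : Fin 2058) = 1334 := by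
  apply Fin.ext
  have h := Nat.eq_of_beq_eq_true chkG
  rw [← act_eq]
  exact h

theorem card_stab : Nat.card ↥(phi.range ⊓ fixer 0) = 1958400 := by
  have h1 := chain3 (phi.range ⊓ fixer 0) (fun w hw => prod_mem_stab hw)
  have h2 := card_stab_le
  rw [fix3_eq_bot, card_bot] at h1
  omega

/-- elements of order 7 have no fixed point -/
theorem no_fix {x : Cfsg.Spor.He} (hx : orderOf x = 7) (i : Fin 2058) : phi x i ≠ i := by
  intro hi
  obtain ⟨k, hk⟩ := walk_spec 17 i
  have hk0 : phi k i = 0 := by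
    apply Fin.ext
    rw [hk]
    exact Nat.eq_of_beq_eq_true (of_allBelow chkWalk i i.2)
  have h1 : phi (k * x * k⁻¹) 0 = 0 := by
    rw [← hk0, map_mul, map_mul, map_inv, Equiv.Perm.mul_apply, Equiv.Perm.mul_apply, inv_app, hi]
  have h2 : phi (k * x * k⁻¹) ∈ phi.range ⊓ fixer 0 := ⟨⟨_, rfl⟩, h1⟩
  have h3 : orderOf (phi (k * x * k⁻¹)) = 7 := by
    rw [orderOf_injective phi phi_injective, ← hx]
    exact MulEquiv.orderOf_eq (MulAut.conj k) x
  have h4 : orderOf (⟨phi (k * x * k⁻¹), h2⟩ : ↥(phi.range ⊓ fixer 0)) = 7 := by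
    rw [Subgroup.orderOf_mk, h3]
  have h5 := orderOf_dvd_natCard (⟨phi (k * x * k⁻¹), h2⟩ : ↥(phi.range ⊓ fixer 0))
  rw [h4, card_stab] at h5
  norm_num at h5

theorem not_seventeen {x : Cfsg.Spor.He} (hx : orderOf x = 7) :
    ¬ 17 ∣ Nat.card (centralizer ({x} : Set Cfsg.Spor.He)) := by
  intro h
  obtain ⟨u, hu⟩ := exists_prime_orderOf_dvd_card' 17 h
  have hu' : orderOf (u : Cfsg.Spor.He) = 17 := by rw [Subgroup.orderOf_coe, hu]
  have hux := mem_centralizer_singleton_iff.1 u.2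
  obtain ⟨g, hg⟩ := CpAutON.Gen.conj_into (p := 17) (by rw [card_he]; norm_num) hu' orderOf_u0
  have h1 : zpowers (g * (u : Cfsg.Spor.He) * g⁻¹) = zpowers (wd U0) := by
    apply Subgroup.eq_of_le_of_card_ge
    · rwa [zpowers_le]
    · rw [Nat.card_zpowers, Nat.card_zpowers, orderOf_u0]
      have h2 : orderOf (g * (u : Cfsg.Spor.He) * g⁻¹) = 17 := by
        rw [← hu']; exact MulEquiv.orderOf_eq (MulAut.conj g) _
      rw [h2]
  have h2 : wd U0 ∈ centralizer ({g * x * g⁻¹} : Set Cfsg.Spor.He) := by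
    have h3 : zpowers (g * (u : Cfsg.Spor.He) * g⁻¹) ≤ centralizer ({g * x * g⁻¹} : Set Cfsg.Spor.He) := by
      rw [zpowers_le, mem_centralizer_singleton_iff]
      calc (g * (u : Cfsg.Spor.He) * g⁻¹) * (g * x * g⁻¹) = g * (u * x) * g⁻¹ := by group
        _ = g * (x * u) * g⁻¹ := by rw [hux]
        _ = (g * x * g⁻¹) * (g * (u : Cfsg.Spor.He) * g⁻¹) := by group
    rw [h1] at h3
    exact h3 (mem_zpowers _)
  have h3 : wd U0 * (g * x * g⁻¹) = (g * x * g⁻¹) * wd U0 := mem_centralizer_singleton_iff.1 h2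
  have h4 : phi (wd U0) (phi (g * x * g⁻¹) 1334) = phi (g * x * g⁻¹) 1334 := by
    rw [← Equiv.Perm.mul_apply, ← map_mul, h3, map_mul, Equiv.Perm.mul_apply, fixed']
  have h5 : phi (g * x * g⁻¹) (1334 : Fin 2058) = 1334 := Fin.ext (fixed h4)
  exact no_fix (x := g * x * g⁻¹) (by rw [← hx]; exact MulEquiv.orderOf_eq (MulAut.conj g) x) _ h5

theorem index_le {x : Cfsg.Spor.He} (hx : orderOf x = 7) :
    3250 ≤ (normalizer (zpowers x : Set Cfsg.Spor.He)).index := by
  have h0 : (normalizer (zpowers x : Set Cfsg.Spor.He)).index ≠ 0 := index_ne_zero_of_finite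
  by_cases ho : Odd (Nat.card ↥(centralizer ({x} : Set Cfsg.Spor.He)))
  · have h1 : 2 ^ 9 ∣ (normalizer (zpowers x : Set Cfsg.Spor.He)).index :=
      pow_dvd_index_of_odd (p := 7) hx (a := 9) (b := 1) Nat.prime_two (by rw [card_he]; norm_num) (by norm_num)
        (fun h => by
          rw [Nat.odd_iff] at ho
          omega)
    have h2 : 17 ^ 1 ∣ (normalizer (zpowers x : Set Cfsg.Spor.He)).index :=
      pow_dvd_index_of_odd (p := 7) hx (a := 1) (b := 0) (by norm_num) (by rw [card_he]; norm_num) (by norm_num)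
        (not_seventeen hx)
    have h3 : 2 ^ 9 * 17 ^ 1 ∣ (normalizer (zpowers x : Set Cfsg.Spor.He)).index :=
      Nat.Coprime.mul_dvd_of_dvd_of_dvd (by norm_num) h1 h2
    have h4 := Nat.le_of_dvd (Nat.pos_of_ne_zero h0) h3
    omega
  · have h1 := CpAutHe.Seven.card_le hx ho
    have h2 := index_cent_le (p := 7) hx
    have h3 := (centralizer ({x} : Set Cfsg.Spor.He)).card_mul_index
    rw [card_he] at h3
    by_contra hlt
    push Not at hlt
    have h4 : Nat.card (centralizer ({x} : Set Cfsg.Spor.He)) * (centralizer ({x} : Set Cfsg.Spor.He)).index ≤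
        1176 * (3249 * 6) := Nat.mul_le_mul h1 (h2.trans (Nat.mul_le_mul_right _ (by omega)))
    omega

end Cfsg.Agent.H47.MeetS.Held

namespace Cfsg.Agent.H47.MeetS

open Cfsg Cfsg.Agent.H903.SylMeet

theorem meet7_He {G : Type*} [Group G] [Finite G] [IsSimpleGroup G] (h : Spor.IsoHe G) : Meet 7 G := by
  obtain ⟨e⟩ := h
  have hn : Nat.card Spor.He = 4030387200 := FixBN.HeStab.card_he
  have hsim : IsSimpleGroup Spor.He := CpAutHe.Seven.simple_he
  have hs1 : IsSporadicGroup Spor.He := by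
    have : Spor.IsoHe Spor.He := ⟨MulEquiv.refl _⟩
    unfold IsSporadicGroup; tauto
  refine Meet.congr e.symm (meet_of_index (not_comm_spor hs1) (H498.SporOut.index_le_two hs1) (by norm_num) (k := 3)
    (s := 57) (n := 3250) (by rw [hn]; norm_num) (by norm_num) (fun y hy => Held.index_le hy) (by norm_num))

end Cfsg.Agent.H47.MeetS
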