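import Cfsg.Agent.H47.MeetAb

/-!
# Trivial Sylow intersections: indices of normalizers (helper47, S5762)

* `meet_of_index` : `s ^ 2 < |G : N(Y)|` for the subgroups `Y` of order `p`, `s = (p ^ k - 1) / (p - 1)`;
* `index_normalizer_map`, `index_normalizer_conj`;
* `index_cent_le`, `index_cent_dvd` : `|G : C(y)|` divides `|G : N(Y)| (p - 1)`;
* `card_cent_hom` : `|C(y)| ≤ |C(y) ∩ ker f| |C(f y)|`;
* `pow_dvd_index_of_odd` : `|C(y)|` odd.
-/

set_option autoImplicit false

namespace Cfsg.Agent.H47.MeetS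

open Subgroup Cfsg.Agent.H903.SylMeet

section

variable {G : Type*} [Group G]

theorem comap_normalizer {H : Type*} [Group H] (f : H →* G) (hf : Function.Injective f) (y : H) :
    (normalizer (zpowers (f y) : Set G)).comap f = normalizer (zpowers y : Set H) := by
  have hm : ∀ h : H, h ∈ zpowers y ↔ f h ∈ zpowers (f y) := by
    intro h
    constructor
    · rintro ⟨i, rfl⟩
      exact ⟨i, (map_zpow f y i).symm⟩
    · rintro ⟨i, hi⟩
      exact ⟨i, hf (by rw [map_zpow]; exact hi)⟩
  ext g
  rw [mem_comap, mem_normalizer_iff, mem_normalizer_iff]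
  constructor
  · intro h k
    rw [hm, hm, map_mul, map_mul, map_inv]
    exact h (f k)
  · intro h
    have h3 : ∀ i : ℤ, f g * f (y ^ i) * (f g)⁻¹ ∈ zpowers (f y) := by
      intro i
      have h4 := (h (y ^ i)).1 ⟨i, rfl⟩
      rw [hm, map_mul, map_mul, map_inv] at h4
      exact h4
    -- the conjugation maps the cyclic group into itself
    have h5 : ∀ k : G, k ∈ zpowers (f y) → f g * k * (f g)⁻¹ ∈ zpowers (f y) := by
      rintro _ ⟨i, rfl⟩
      have h6 := h3 i
      rw [map_zpow] at h6
      exact h6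
    intro k
    refine ⟨h5 k, fun hk => ?_⟩
    obtain ⟨i, hi⟩ := hk
    have hk' : k = f (g⁻¹ * y ^ i * g) := by
      rw [map_mul, map_mul, map_inv, map_zpow]
      have hi' : f y ^ i = f g * k * (f g)⁻¹ := hi
      rw [hi']
      group
    rw [hk', ← hm, h]
    have h8 : g * (g⁻¹ * y ^ i * g) * g⁻¹ = y ^ i := by group
    rw [h8]
    exact ⟨i, rfl⟩

theorem index_normalizer_map {H : Type*} [Group H] [Finite G] (f : H →* G) (hf : Function.Injective f) (y : H) :
    (normalizer (zpowers y : Set H)).index ≤ (normalizer (zpowers (f y) : Set G)).index := by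
  rw [← comap_normalizer f hf y, index_comap, ← relIndex_top_right]
  exact relIndex_le_of_le_right le_top (by rw [relIndex_top_right]; exact index_ne_zero_of_finite)

theorem card_normalizer_map {H : Type*} [Group H] [Finite G] (f : H →* G) (hf : Function.Injective f) (y : H) :
    Nat.card (normalizer (zpowers y : Set H)) ≤ Nat.card (normalizer (zpowers (f y) : Set G)) := by
  rw [← comap_normalizer f hf y]
  exact Nat.card_le_card_of_injective (fun g => ⟨f g, g.2⟩) fun a b hab =>
    Subtype.ext (hf (congrArg (fun u : normalizer (zpowers (f y) : Set G) => (u : G)) hab))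

theorem index_normalizer_conj [Finite G] (g y : G) :
    (normalizer (zpowers y : Set G)).index ≤ (normalizer (zpowers (g * y * g⁻¹) : Set G)).index :=
  index_normalizer_map (MulAut.conj g).toMonoidHom (MulAut.conj g).injective y

variable {p : ℕ} [hp : Fact p.Prime]

theorem meet_of_index [Finite G] [IsSimpleGroup G] (hT : ¬ IsMulCommutative G)
    (hi : (MulAut.conj : G →* MulAut G).range.index ≤ 2) (h2 : p ≠ 2) {k s n : ℕ} (hk : ¬ p ^ (k + 1) ∣ Nat.card G)
    (hs : p ^ k - 1 = s * (p - 1))
    (hB : ∀ y : G, orderOf y = p → n ≤ (normalizer (zpowers y : Set G)).index)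
    (h : s * s < n) : Meet p G := by
  refine meet_of_bound hT hi h2 hk hs (B := Nat.card G / n) (fun y hy => ?_) ?_
  · rw [Nat.le_div_iff_mul_le (by omega), ← (normalizer (zpowers y : Set G)).card_mul_index]
    exact Nat.mul_le_mul_left _ (hB y hy)
  · have h1 : 0 < Nat.card G := Nat.card_pos
    rcases Nat.eq_zero_or_pos (Nat.card G / n) with h3 | h3
    · rw [h3, mul_zero]
      exact h1
    · refine lt_of_lt_of_le (Nat.mul_lt_mul_of_pos_right h h3) ?_
      rw [mul_comm]
      exact Nat.div_mul_le_self _ _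

/-- `|G : C(y)| ∣ |G : N(Y)| (p - 1)` -/
theorem index_cent_dvd [Finite G] {y : G} (hy : orderOf y = p) :
    (centralizer ({y} : Set G)).index ∣ (normalizer (zpowers y : Set G)).index * (p - 1) := by
  obtain ⟨m, hm⟩ := card_normalizer_dvd hy
  refine ⟨m, ?_⟩
  have h1 := (centralizer ({y} : Set G)).card_mul_index
  have h2 := (normalizer (zpowers y : Set G)).card_mul_index
  have h3 : 0 < Nat.card (centralizer ({y} : Set G)) := Nat.card_pos
  apply Nat.eq_of_mul_eq_mul_left h3
  calc Nat.card (centralizer ({y} : Set G)) * ((normalizer (zpowers y : Set G)).index * (p - 1))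
      = (normalizer (zpowers y : Set G)).index * (Nat.card (centralizer ({y} : Set G)) * (p - 1)) := by ring
    _ = (Nat.card (normalizer (zpowers y : Set G)) * (normalizer (zpowers y : Set G)).index) * m := by rw [hm]; ring
    _ = (Nat.card (centralizer ({y} : Set G)) * (centralizer ({y} : Set G)).index) * m := by rw [h1, h2]
    _ = Nat.card (centralizer ({y} : Set G)) * ((centralizer ({y} : Set G)).index * m) := by ring

theorem index_cent_le [Finite G] {y : G} (hy : orderOf y = p) :
    (centralizer ({y} : Set G)).index ≤ (normalizer (zpowers y : Set G)).index * (p - 1) :=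
  Nat.le_of_dvd (Nat.mul_pos (Nat.pos_of_ne_zero index_ne_zero_of_finite) (by have := hp.out.two_le; omega))
    (index_cent_dvd hy)

omit hp in
/-- `|C(y)| ≤ |C(y) ∩ ker f| |C(f y)|` -/
theorem card_cent_hom {K : Type*} [Group K] [Finite G] [Finite K] (f : G →* K) (y : G) :
    Nat.card (centralizer ({y} : Set G)) ≤
      Nat.card {q : G // q ∈ f.ker ∧ y * q = q * y} * Nat.card (centralizer ({f y} : Set K)) := by
  classical
  have hex : ∀ k : centralizer ({f y} : Set K), ∃ s : G,
      (∃ c : centralizer ({y} : Set G), f c = k) → s ∈ centralizer ({y} : Set G) ∧ f s = k := by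
    intro k
    by_cases h : ∃ c : centralizer ({y} : Set G), f c = k
    · obtain ⟨c, hc⟩ := h
      exact ⟨c, fun _ => ⟨c.2, hc⟩⟩
    · exact ⟨1, fun h' => absurd h' h⟩
  choose s hs using hex
  have hk : ∀ c : centralizer ({y} : Set G), f c ∈ centralizer ({f y} : Set K) := by
    intro c
    rw [mem_centralizer_singleton_iff, ← map_mul, ← map_mul, mem_centralizer_singleton_iff.1 c.2]
  rw [← Nat.card_prod]
  have hs' : ∀ c : centralizer ({y} : Set G), s ⟨f c, hk c⟩ ∈ centralizer ({y} : Set G) ∧ f (s ⟨f c, hk c⟩) = f c :=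
    fun c => hs ⟨f c, hk c⟩ ⟨c, rfl⟩
  refine Nat.card_le_card_of_injective (fun c => (⟨(c : G) * (s ⟨f c, hk c⟩)⁻¹, ?_, ?_⟩, ⟨f c, hk c⟩)) ?_
  · rw [MonoidHom.mem_ker, map_mul, map_inv, (hs' c).2, mul_inv_cancel]
  · exact (mem_centralizer_singleton_iff.1 (mul_mem c.2 (inv_mem (hs' c).1))).symm
  · intro c d hcd
    have h1 := congrArg Prod.snd hcd
    have h2 := congrArg (fun x : {q : G // q ∈ f.ker ∧ y * q = q * y} × centralizer ({f y} : Set K) => (x.1 : G)) hcd
    dsimp only at h1 h2
    rw [h1] at h2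
    exact Subtype.ext (mul_right_cancel h2)

/-- the index of the normalizer, for an odd centralizer -/
theorem pow_dvd_index_of_odd [Finite G] {y : G} (hy : orderOf y = p) {r a b : ℕ} (hr : r.Prime)
    (hG : r ^ (a + b) ∣ Nat.card G) (hb : ¬ r ^ (b + 1) ∣ p - 1) (hodd : ¬ r ∣ Nat.card (centralizer ({y} : Set G))) :
    r ^ a ∣ (normalizer (zpowers y : Set G)).index := by
  have h1 : r ^ (a + b) ∣ (normalizer (zpowers y : Set G)).index * (p - 1) := by
    refine dvd_trans ?_ (index_cent_dvd hy)
    rw [← (centralizer ({y} : Set G)).card_mul_index] at hG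
    exact (Nat.Coprime.pow_left _ ((Nat.Prime.coprime_iff_not_dvd hr).2 hodd)).dvd_of_dvd_mul_left hG
  by_contra h
  have hp1 : p - 1 ≠ 0 := by have := hp.out.two_le; omega
  have hi0 : (normalizer (zpowers y : Set G)).index ≠ 0 := index_ne_zero_of_finite
  have := Fact.mk hr
  rw [padicValNat_dvd_iff_le hi0] at h
  rw [padicValNat_dvd_iff_le hp1] at hb
  rw [padicValNat_dvd_iff_le (mul_ne_zero hi0 hp1), padicValNat.mul hi0 hp1] at h1
  omega

/-- the index of the normalizer and the power of a prime `r` -/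
theorem pow_dvd_index [Finite G] {y : G} (hy : orderOf y = p) {r a b c : ℕ} (hr : r.Prime)
    (hG : r ^ (a + b + c) ∣ Nat.card G) (hb : ¬ r ^ (b + 1) ∣ p - 1)
    (hc : ¬ r ^ (c + 1) ∣ Nat.card (centralizer ({y} : Set G))) : r ^ a ∣ (normalizer (zpowers y : Set G)).index := by
  have h1 : Nat.card G ∣ Nat.card (centralizer ({y} : Set G)) * ((normalizer (zpowers y : Set G)).index * (p - 1)) := by
    rw [← (centralizer ({y} : Set G)).card_mul_index]
    exact Nat.mul_dvd_mul_left _ (index_cent_dvd hy)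
  have h2 := hG.trans h1
  by_contra h
  have hp1 : p - 1 ≠ 0 := by have := hp.out.two_le; omega
  have hi0 : (normalizer (zpowers y : Set G)).index ≠ 0 := index_ne_zero_of_finite
  have hc0 : Nat.card (centralizer ({y} : Set G)) ≠ 0 := Nat.card_pos.ne'
  have := Fact.mk hr
  rw [padicValNat_dvd_iff_le hi0] at h
  rw [padicValNat_dvd_iff_le hp1] at hb
  rw [padicValNat_dvd_iff_le hc0] at hc
  rw [padicValNat_dvd_iff_le (mul_ne_zero hc0 (mul_ne_zero hi0 hp1)), padicValNat.mul hc0 (mul_ne_zero hi0 hp1),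
    padicValNat.mul hi0 hp1] at h2
  omega

/-- the same with a subgroup `H`, the `r`-elements of `C_H(y)` in a subgroup `T` -/
theorem pow_dvd_index_sub [Finite G] (H T : Subgroup G) {y : G} (hyH : y ∈ H) (hy : orderOf y = p) {r a b c : ℕ}
    (hr : r.Prime) (hG : r ^ (a + b + c) ∣ Nat.card H) (hb : ¬ r ^ (b + 1) ∣ p - 1)
    (hall : ∀ x ∈ H, x * y = y * x → (∃ n : ℕ, x ^ r ^ n = 1) → x ∈ T)
    (hT : Nat.card (T ⊓ centralizer ({y} : Set G) : Subgroup G) < r ^ (c + 1)) :
    r ^ a ≤ (normalizer (zpowers y : Set G)).index := by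
  have := Fact.mk hr
  set y' : H := ⟨y, hyH⟩ with hy'
  have hyo : orderOf y' = p := by rw [← Subgroup.orderOf_coe, hy]
  refine le_trans ?_ (index_normalizer_map H.subtype Subtype.val_injective y')
  refine Nat.le_of_dvd (Nat.pos_of_ne_zero index_ne_zero_of_finite) (pow_dvd_index hyo hr hG hb fun hc => ?_)
  obtain ⟨S, hS⟩ := Sylow.exists_subgroup_card_pow_prime r hc
  have h1 : Nat.card S ≤ Nat.card (T ⊓ centralizer ({y} : Set G) : Subgroup G) := by
    have hm : ∀ s : S, (((s : centralizer ({y'} : Set H)) : H) : G) ∈ (T ⊓ centralizer ({y} : Set G) : Subgroup G) := by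
      intro s
      have h2 : ((s : centralizer ({y'} : Set H)) : H) * y' = y' * ((s : centralizer ({y'} : Set H)) : H) :=
        mem_centralizer_singleton_iff.1 s.1.2
      have h3 : (((s : centralizer ({y'} : Set H)) : H) : G) * y = y * (((s : centralizer ({y'} : Set H)) : H) : G) :=
        congrArg Subtype.val h2
      refine ⟨hall _ s.1.1.2 h3 ⟨c + 1, ?_⟩, mem_centralizer_singleton_iff.2 h3⟩
      have h4 : s ^ r ^ (c + 1) = 1 := by rw [← hS]; exact pow_card_eq_one'
      have h5 := congrArg (fun t : S => (((t : centralizer ({y'} : Set H)) : H) : G)) h4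
      exact h5
    refine Nat.card_le_card_of_injective (fun s => ⟨_, hm s⟩) fun s t hst => ?_
    exact Subtype.ext (Subtype.ext (Subtype.ext (congrArg
      (fun x : (T ⊓ centralizer ({y} : Set G) : Subgroup G) => (x : G)) hst)))
  rw [hS] at h1
  omega

omit hp in
/-- a subgroup of order divisible by the full power of `q` meets every class of `q`-elements -/
theorem conj_mem_of_card [Finite G] {q n : ℕ} [Fact q.Prime] (hG : ¬ q ^ (n + 1) ∣ Nat.card G)
    {H : Subgroup G} (hH : q ^ n ∣ Nat.card H) {a : G} {k : ℕ} (ha : a ^ q ^ k = 1) : ∃ g : G, g * a * g⁻¹ ∈ H := by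
  obtain ⟨Q, hQ⟩ := Sylow.exists_subgroup_card_pow_prime q hH
  have hQc : Nat.card (Q.map H.subtype) = q ^ n := by
    rw [← Nat.card_congr (Q.equivMapOfInjective _ H.subtype_injective).toEquiv, hQ]
  have hQp : IsPGroup q (Q.map H.subtype) := IsPGroup.of_card hQc
  have hz : IsPGroup q (zpowers a) := by
    have h1 : orderOf a ∣ q ^ k := orderOf_dvd_of_pow_eq_one ha
    obtain ⟨j, -, hj⟩ := (Nat.dvd_prime_pow Fact.out).1 h1
    exact IsPGroup.of_card (n := j) (by rw [Nat.card_zpowers, hj])
  obtain ⟨S, hS⟩ := hQp.exists_le_sylow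
  obtain ⟨T, hT⟩ := hz.exists_le_sylow
  have hSQ : (S : Subgroup G) = Q.map H.subtype := by
    symm
    apply Subgroup.eq_of_le_of_card_ge hS
    rw [hQc]
    obtain ⟨m, hm⟩ := S.isPGroup'.exists_card_eq
    rw [hm]
    apply Nat.pow_le_pow_right (Fact.out : q.Prime).pos
    by_contra hlt
    exact hG ((pow_dvd_pow q (by omega)).trans (hm ▸ Subgroup.card_subgroup_dvd_card (S : Subgroup G)))
  obtain ⟨g, hg⟩ := MulAction.exists_smul_eq G T S
  refine ⟨g, ?_⟩
  have h1 : g * a * g⁻¹ ∈ ((g • T : Sylow q G) : Subgroup G) := by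
    rw [Sylow.coe_subgroup_smul]
    exact ⟨a, hT (mem_zpowers a), rfl⟩
  rw [hg, hSQ] at h1
  obtain ⟨b, -, hb⟩ := h1
  rw [← hb]
  exact b.2

/-- Sylow's congruence -/
theorem index_mod [Finite G] (h2 : ¬ p ^ 2 ∣ Nat.card G) {x : G} (hx : orderOf x = p) :
    (normalizer (zpowers x : Set G)).index % p = 1 := by
  obtain ⟨P, hP⟩ := CpAutON.Gen.exists_sylow h2 hx
  have h3 : Nat.card (Sylow p G) = (normalizer ((P : Subgroup G) : Set G)).index := P.card_eq_index_normalizer
  have h1 := card_sylow_modEq_one p G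
  rw [Nat.ModEq, Nat.mod_eq_of_lt hp.out.one_lt, h3, hP] at h1
  exact h1

end

end Cfsg.Agent.H47.MeetS
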