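import Mathlib

/-!
# Commuting endomorphisms of orders `7` and `11`, `31` over the field with seven elements (helper47, S5762)

* `eq_one` : `a ^ 7 = 1`, `u ^ r = 1`, `r = 11` or `31`, `a u = u a`, the fixed space of `a` has dimension at most 9:
  `u = 1`;
* `eq_one_mat` : the same for matrices.
-/

set_option autoImplicit false

namespace Cfsg.Agent.H47.MeetLin

open Module

section

variable {V : Type*} [AddCommGroup V] [Module (ZMod 7) V]

instance fact7 : Fact (Nat.Prime 7) := ⟨by norm_num⟩

/-- the number of fixed points of an endomorphism of prime power order on an invariant subspace -/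
theorem card_fix [Finite V] {r : ℕ} [hr : Fact r.Prime] {u : End (ZMod 7) V} (hu : u ^ r = 1)
    (F : Submodule (ZMod 7) V) (hF : ∀ v ∈ F, u v ∈ F) :
    7 ^ finrank (ZMod 7) F ≡ 7 ^ finrank (ZMod 7) (F ⊓ LinearMap.ker (u - 1) : Submodule (ZMod 7) V) [MOD r] := by
  classical
  have hft := Fintype.ofFinite V
  let f : Function.End ↥F := fun v => ⟨u v, hF v v.2⟩
  have hf : ∀ (n : ℕ) (v : ↥F), ((f ^ n) v : V) = (u ^ n) v := by
    intro n
    induction n with
    | zero => intro v; rfl
    | succ n ih =>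
      intro v
      have h1 : (f ^ (n + 1)) v = (f ^ n) (f v) := by
        rw [pow_succ]
        rfl
      rw [h1, ih]
      show (u ^ n) (u v) = _
      rw [pow_succ, Module.End.mul_apply]
  have hfp : f ^ r ^ 1 = 1 := by
    funext v
    apply Subtype.ext
    rw [hf, pow_one, hu]
    rfl
  have h1 := Equiv.Perm.card_fixedPoints_modEq hfp
  have h2 : Fintype.card ↥F = 7 ^ finrank (ZMod 7) F := by
    rw [Module.card_eq_pow_finrank (K := ZMod 7), ZMod.card]
  have h3 : Fintype.card f.fixedPoints =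
      7 ^ finrank (ZMod 7) (F ⊓ LinearMap.ker (u - 1) : Submodule (ZMod 7) V) := by
    have h4 : Fintype.card (F ⊓ LinearMap.ker (u - 1) : Submodule (ZMod 7) V) =
        7 ^ finrank (ZMod 7) (F ⊓ LinearMap.ker (u - 1) : Submodule (ZMod 7) V) := by
      rw [Module.card_eq_pow_finrank (K := ZMod 7), ZMod.card]
    rw [← h4]
    refine Fintype.card_congr
      { toFun := fun v => ⟨(v : ↥F), (v : ↥F).2, ?_⟩
        invFun := fun v => ⟨⟨v, v.2.1⟩, ?_⟩
        left_inv := fun v => rfl
        right_inv := fun v => rfl }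
    · rw [SetLike.mem_coe, LinearMap.mem_ker, LinearMap.sub_apply, sub_eq_zero]
      exact congrArg Subtype.val (show f v = v from v.2)
    · apply Subtype.ext
      have h5 : (u - 1) (v : V) = 0 := LinearMap.mem_ker.1 v.2.2
      rw [LinearMap.sub_apply, sub_eq_zero] at h5
      exact h5
  rw [h2, h3] at h1
  exact h1

theorem pow_inj {r : ℕ} (hr : r = 11 ∨ r = 31) {d e : ℕ} (hd : d ≤ 9) (he : e ≤ d) (h : 7 ^ d ≡ 7 ^ e [MOD r]) :
    d = e := by
  rcases hr with rfl | rfl
  · revert h
    interval_cases d <;> interval_cases e <;> decide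
  · revert h
    interval_cases d <;> interval_cases e <;> decide

theorem eq_one [Finite V] {a u : End (ZMod 7) V} (hd : finrank (ZMod 7) (LinearMap.ker (a - 1)) ≤ 9) (ha : a ^ 7 = 1)
    (hc : u * a = a * u) {r : ℕ} (hr : r = 11 ∨ r = 31) (hu : u ^ r = 1) : u = 1 := by
  have hrp : Fact r.Prime := ⟨by rcases hr with rfl | rfl <;> norm_num⟩
  have hft := Fintype.ofFinite V
  have hfd : FiniteDimensional (ZMod 7) V := Module.Finite.of_finite
  have hua : ∀ v, u (a v) = a (u v) := fun v => LinearMap.congr_fun hc v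
  -- `u` is trivial on the fixed points of `a`
  have h1 : LinearMap.ker (a - 1) ≤ LinearMap.ker (u - 1) := by
    have h2 := card_fix hu (LinearMap.ker (a - 1)) (fun v hv => by
      rw [LinearMap.mem_ker, LinearMap.sub_apply, sub_eq_zero] at hv ⊢
      rw [← hua, hv]
      rfl)
    have h3 : finrank (ZMod 7) (LinearMap.ker (a - 1) ⊓ LinearMap.ker (u - 1) : Submodule (ZMod 7) V) ≤
        finrank (ZMod 7) (LinearMap.ker (a - 1)) := Submodule.finrank_mono inf_le_left
    have h4 := pow_inj hr hd h3 h2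
    have h5 := Submodule.eq_of_le_of_finrank_eq
      (inf_le_left : LinearMap.ker (a - 1) ⊓ LinearMap.ker (u - 1) ≤ LinearMap.ker (a - 1)) h4.symm
    rw [← h5]
    exact inf_le_right
  -- the range of `u - 1`
  by_contra hne
  have h2 : LinearMap.range (u - 1) ≠ ⊥ := by
    intro h
    rw [LinearMap.range_eq_bot] at h
    exact hne (sub_eq_zero.1 h)
  have h3 := card_fix ha (LinearMap.range (u - 1)) (by
    rintro _ ⟨v, rfl⟩
    refine ⟨a v, ?_⟩
    simp only [LinearMap.sub_apply, Module.End.one_apply, map_sub, hua])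
  have h4 : finrank (ZMod 7) (LinearMap.range (u - 1)) ≠ 0 := fun h => h2 (Submodule.finrank_eq_zero.1 h)
  have h5 : finrank (ZMod 7) (LinearMap.range (u - 1) ⊓ LinearMap.ker (a - 1) : Submodule (ZMod 7) V) ≠ 0 := by
    intro h
    rw [h, pow_zero] at h3
    obtain ⟨k, hk⟩ := Nat.exists_eq_succ_of_ne_zero h4
    rw [hk, pow_succ] at h3
    have h6 : 7 ^ k * 7 ≡ 0 [MOD 7] := (Nat.modEq_zero_iff_dvd).2 (dvd_mul_left 7 _)
    exact absurd (h6.symm.trans h3) (by decide)
  obtain ⟨w, hw, hw0⟩ := Submodule.exists_mem_ne_zero_of_ne_bot (fun h => h5 (Submodule.finrank_eq_zero.2 h))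
  obtain ⟨⟨v, hv⟩, hwa⟩ := Submodule.mem_inf.1 hw
  have hwu := h1 hwa
  rw [LinearMap.mem_ker, LinearMap.sub_apply, sub_eq_zero] at hwu
  have hwu' : u w = w := hwu
  have hv' : u v = v + w := by
    rw [← hv, LinearMap.sub_apply]
    show u v = v + (u v - v)
    abel
  have h6 : ∀ k : ℕ, (u ^ k) v = v + k • w := by
    intro k
    induction k with
    | zero => simp
    | succ k ih =>
      rw [pow_succ', Module.End.mul_apply, ih, map_add, map_nsmul, hv', hwu', succ_nsmul]
      abel
  have h7 := h6 r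
  rw [hu, Module.End.one_apply] at h7
  have h8 : r • w = 0 := by
    have := congrArg (fun z => z - v) h7
    simpa using this.symm
  have h9 : ((r : ℕ) : ZMod 7) • w = 0 := by rw [Nat.cast_smul_eq_nsmul, h8]
  rcases smul_eq_zero.1 h9 with h | h
  · rcases hr with rfl | rfl
    · exact absurd h (by decide)
    · exact absurd h (by decide)
  · exact hw0 h

end

theorem eq_one_mat {n : ℕ} {A U : Matrix (Fin n) (Fin n) (ZMod 7)} (s : Finset (Fin n)) (hs : s.card ≤ 9)
    (hinj : ∀ v : Fin n → ZMod 7, A.mulVec v = v → (∀ j ∈ s, v j = 0) → v = 0) (hA : A ^ 7 = 1) (hc : U * A = A * U)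
    {r : ℕ} (hr : r = 11 ∨ r = 31) (hU : U ^ r = 1) : U = 1 := by
  have h1 : Matrix.toLin' U = 1 := by
    refine eq_one (a := Matrix.toLin' A) (u := Matrix.toLin' U) ?_ ?_ ?_ hr ?_
    · have hL : Function.Injective ((LinearMap.funLeft (ZMod 7) (ZMod 7) (fun x : s => (x : Fin n))).comp
          (LinearMap.ker (Matrix.toLin' A - 1)).subtype) := by
        rw [← LinearMap.ker_eq_bot, LinearMap.ker_eq_bot']
        intro v hv
        apply Subtype.ext
        refine hinj v ?_ fun j hj => congrFun hv ⟨j, hj⟩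
        have h2 := v.2
        rw [LinearMap.mem_ker, LinearMap.sub_apply, sub_eq_zero, Matrix.toLin'_apply] at h2
        exact h2
      have h2 := LinearMap.finrank_le_finrank_of_injective hL
      rw [Module.finrank_fintype_fun_eq_card, Fintype.card_coe] at h2
      exact h2.trans hs
    · rw [← Matrix.toLin'_pow, hA, Matrix.toLin'_one]
      rfl
    · show Matrix.toLin' U ∘ₗ Matrix.toLin' A = Matrix.toLin' A ∘ₗ Matrix.toLin' U
      rw [← Matrix.toLin'_mul, ← Matrix.toLin'_mul, hc]
    · rw [← Matrix.toLin'_pow, hU, Matrix.toLin'_one]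
      rfl
  have h2 : Matrix.toLin' U = Matrix.toLin' 1 := by rw [h1, Matrix.toLin'_one]; rfl
  exact Matrix.toLin'.injective h2

end Cfsg.Agent.H47.MeetLin
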