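import Cfsg.Agent.H47.MeetCo
import Cfsg.Agent.H47.MeetIdx
import Cfsg.Agent.MSevenT.Closed

/-!
# Trivial Sylow intersections: the Monster, `p = 7` and `p = 13` (helper47, S5762)
-/

set_option autoImplicit false
set_option maxRecDepth 100000

namespace Cfsg.Agent.H47.MeetS.Mon

open Cfsg Cfsg.Agent.H903.SylMeet
open Cfsg.Agent.LThreeMB (fr XX KChart.Cent KChart.pi KChart.chart)
open Cfsg.Agent.MonsterX Cfsg.Agent.MonsterX.Model Cfsg.Agent.MonsterX.MainSimple Cfsg.Agent.MonsterX.MainPack
open Cfsg.Agent.MonsterX.MainBasic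
open Cfsg.Agent.MonsterU
open Cfsg.Agent.MonsterU.Ch
open Cfsg.Agent.MonsterU.Lam2 (L2)
open Cfsg.Spor (Co1)
open Subgroup (centralizer mem_centralizer_singleton_iff normalizer zpowers)
open Cfsg.Agent.H149.Sp

instance fact13 : Fact (Nat.Prime 13) := ⟨by norm_num⟩

theorem card_co1 : Nat.card Co1 = 4157776806543360000 := Cfsg.Agent.S0399.result.2

/-- the fixed points in `Q` -/
theorem card_fix_le {G : Type*} [Group G] {Q : Subgroup G} {z : G} {eta : G → L2}
    {pi : Subgroup.centralizer ({z} : Set G) →* Co1} (h : Chart Q z eta pi) {p : ℕ} (ho : Odd p)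
    {x : Subgroup.centralizer ({z} : Set G)} (hx : x ^ p = 1) :
    Nat.card {q : Subgroup.centralizer ({z} : Set G) // q ∈ pi.ker ∧ x * q = q * x} ≤ fr (pi x) * 2 := by
  have h1 := MFive.card_pre h ho hx ⊤
  have h2 : Nat.card {v : L2 // v ∈ (⊤ : AddSubgroup L2) ∧ pi x • v = v} = fr (pi x) := by
    apply Nat.card_congr
    exact
      { toFun := fun v => ⟨v.1, v.2.2⟩
        invFun := fun v => ⟨v.1, trivial, v.2⟩
        left_inv := fun v => rfl
        right_inv := fun v => rfl }
  rw [h2] at h1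
  rw [← h1]
  have hfQ : Finite Q := h.fin
  have hfin : Finite {q : G // (q ∈ Q ∧ eta q ∈ (⊤ : AddSubgroup L2)) ∧ (x : G) * q = q * x} :=
    Finite.of_injective (fun q => (⟨q.1, q.2.1.1⟩ : Q)) fun a b hab =>
      Subtype.ext (congrArg (fun q : Q => (q : G)) hab)
  refine Nat.card_le_card_of_injective (fun q => ⟨(q.1 : G),
    ⟨(h.pi_eq_one _).1 ((MonoidHom.mem_ker).1 q.2.1), trivial⟩, congrArg Subtype.val q.2.2⟩) fun a b hab => ?_
  exact Subtype.ext (Subtype.ext (congrArg
    (fun q : {q : G // (q ∈ Q ∧ eta q ∈ (⊤ : AddSubgroup L2)) ∧ (x : G) * q = q * x} => (q : G)) hab))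

/-- the index of the normalizer in `C(z)` -/
theorem index_z {G : Type*} [Group G] [Finite G] {Q : Subgroup G} {z : G} {eta : G → L2}
    {pi : Subgroup.centralizer ({z} : Set G) →* Co1} (h : Chart Q z eta pi) {p : ℕ} [hp : Fact p.Prime] (h2 : p ≠ 2)
    {x : Subgroup.centralizer ({z} : Set G)} (hx : orderOf x = p) {m : ℕ}
    (hm : Nat.card (centralizer ({pi x} : Set Co1)) * m ≤ Nat.card Co1) :
    2 ^ 24 * m ≤ fr (pi x) * ((normalizer (zpowers (x : G) : Set G)).index * (p - 1)) := by
  have hf1 : Finite Co1 := Nat.finite_of_card_ne_zero (by rw [card_co1]; norm_num)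
  have ho : Odd p := hp.out.odd_of_ne_two h2
  have hxp : x ^ p = 1 := by rw [← hx, pow_orderOf_eq_one]
  have h3 := card_cent_hom pi x
  have h4 := card_fix_le h ho hxp
  have h5 : (centralizer ({x} : Set (centralizer ({z} : Set G)))).index ≤
      (normalizer (zpowers (x : G) : Set G)).index * (p - 1) :=
    (index_cent_le hx).trans (Nat.mul_le_mul_right _
      (index_normalizer_map (centralizer ({z} : Set G)).subtype Subtype.val_injective x))
  have h6 := (centralizer ({x} : Set (centralizer ({z} : Set G)))).card_mul_index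
  rw [AmalElts.card_centralizer h] at h6
  set c := Nat.card (centralizer ({x} : Set (centralizer ({z} : Set G)))) with hc
  set d := Nat.card (centralizer ({pi x} : Set Co1)) with hd
  set i := (centralizer ({x} : Set (centralizer ({z} : Set G)))).index with hi
  have hd0 : 0 < d := Nat.card_pos
  have h7 : c ≤ fr (pi x) * 2 * d := h3.trans (Nat.mul_le_mul_right _ h4)
  rw [card_co1] at hm
  refine le_trans ?_ (Nat.mul_le_mul_left _ h5)
  apply Nat.le_of_mul_le_mul_left _ hd0
  have h8 : 2 ^ 25 * (d * m) ≤ fr (pi x) * 2 * d * i := by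
    refine le_trans ?_ (Nat.mul_le_mul_right i h7)
    rw [h6]
    exact le_trans (Nat.mul_le_mul_left _ hm) (by norm_num)
  have h9 : 2 * (d * (2 ^ 24 * m)) ≤ 2 * (d * (fr (pi x) * i)) := by
    calc 2 * (d * (2 ^ 24 * m)) = 2 ^ 25 * (d * m) := by ring
      _ ≤ fr (pi x) * 2 * d * i := h8
      _ = 2 * (d * (fr (pi x) * i)) := by ring
  omega

/-! ### `Co1` -/

/-- elements of order `q` do not commute with `s` -/
theorem co1_free {s : Co1} {p q : ℕ} (hp : P5 p) (hq : P5 q) (hne : p ≠ q) (h57 : ¬ (p = 5 ∧ q = 7))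
    (h75 : ¬ (p = 7 ∧ q = 5)) (hs : orderOf s = p) : ¬ q ∣ Nat.card (centralizer ({s} : Set Co1)) := by
  intro hd
  have hf1 : Finite Co1 := Nat.finite_of_card_ne_zero (by rw [card_co1]; norm_num)
  have := Fact.mk hq.prime
  obtain ⟨b, hb⟩ := exists_prime_orderOf_dvd_card' q hd
  have h1 := mem_centralizer_singleton_iff.1 b.2
  have h2 : orderOf (b : Co1) = q := by rw [Subgroup.orderOf_coe, hb]
  rcases Nat.lt_or_gt_of_ne hne with h | h
  · exact co1_not_comm hp hq h h57 hs h2 h1.symm
  · exact co1_not_comm hq hp h (fun h3 => h75 ⟨h3.2, h3.1⟩) h2 hs h1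

theorem cent7 {s : Co1} (hs : orderOf s = 7) : Nat.card (centralizer ({s} : Set Co1)) * 3289 ≤ Nat.card Co1 := by
  have hf1 : Finite Co1 := Nat.finite_of_card_ne_zero (by rw [card_co1]; norm_num)
  refine card_mul_le _ (by rw [card_co1]; norm_num) fun r hr hd => ?_
  rw [show 3289 = 11 * (13 * 23) by norm_num, hr.dvd_mul, hr.dvd_mul, Nat.prime_dvd_prime_iff_eq hr (by norm_num),
    Nat.prime_dvd_prime_iff_eq hr (by norm_num), Nat.prime_dvd_prime_iff_eq hr (by norm_num)] at hd
  rcases hd with rfl | rfl | rfl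
  · exact co1_free (Or.inr (Or.inl rfl)) p11 (by norm_num) (by norm_num) (by norm_num) hs
  · exact co1_free (Or.inr (Or.inl rfl)) p13 (by norm_num) (by norm_num) (by norm_num) hs
  · exact co1_free (Or.inr (Or.inl rfl)) p23 (by norm_num) (by norm_num) (by norm_num) hs

theorem cent13 {s : Co1} (hs : orderOf s = 13) : Nat.card (centralizer ({s} : Set Co1)) * 253 ≤ Nat.card Co1 := by
  have hf1 : Finite Co1 := Nat.finite_of_card_ne_zero (by rw [card_co1]; norm_num)
  refine card_mul_le _ (by rw [card_co1]; norm_num) fun r hr hd => ?_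
  rw [show 253 = 11 * 23 by norm_num, hr.dvd_mul, Nat.prime_dvd_prime_iff_eq hr (by norm_num),
    Nat.prime_dvd_prime_iff_eq hr (by norm_num)] at hd
  rcases hd with rfl | rfl
  · exact co1_free p13 p11 (by norm_num) (by norm_num) (by norm_num) hs
  · exact co1_free p13 p23 (by norm_num) (by norm_num) (by norm_num) hs

open Cfsg.Agent.CpAutBig.SevenFix (r7 r7_pow)
open Cfsg.Agent.LThreeBX.NoSeven Cfsg.Agent.CoOneType.ClosingFacts in
/-- an element of order 7 and fixed rank 6 -/
theorem cent7' {s : Co1} (hs : orderOf s = 7) (hf : fr s = 2 ^ 6) :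
    Nat.card (centralizer ({s} : Set Co1)) * 16445 ≤ Nat.card Co1 := by
  have hf1 : Finite Co1 := Nat.finite_of_card_ne_zero (by rw [card_co1]; norm_num)
  obtain ⟨c, hc⟩ := isConj_iff.1 (CpAutMSeven.RanksH.isConj_s0 hs hf)
  refine card_mul_le _ (by rw [card_co1]; norm_num) fun r hr hd => ?_
  rw [show 16445 = 5 * (11 * (13 * 23)) by norm_num, hr.dvd_mul, hr.dvd_mul, hr.dvd_mul,
    Nat.prime_dvd_prime_iff_eq hr (by norm_num),
    Nat.prime_dvd_prime_iff_eq hr (by norm_num), Nat.prime_dvd_prime_iff_eq hr (by norm_num),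
    Nat.prime_dvd_prime_iff_eq hr (by norm_num)] at hd
  rcases hd with rfl | rfl | rfl | rfl
  · intro h5
    obtain ⟨b, hb5, hb1⟩ : ∃ b : Co1, orderOf b = 5 ∧ b * s = s * b := by
      obtain ⟨b, hb⟩ := exists_prime_orderOf_dvd_card' 5 h5
      exact ⟨b, by rw [Subgroup.orderOf_coe, hb], mem_centralizer_singleton_iff.1 b.2⟩
    obtain ⟨w, hw, hw5⟩ := exists_odd (n := 5) (by decide) (show b ^ 5 = 1 by rw [← hb5, pow_orderOf_eq_one])
    obtain ⟨d, hd⟩ := exists_mk c
    have hwo : orderOf w = 5 := by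
      refine orderOf_eq_prime hw5 ?_
      rintro rfl
      have h1 : (mk 1 : Co1) = 1 := rfl
      rw [← hw, h1, orderOf_one] at hb5
      norm_num at hb5
    -- `s = c⁻¹ s0 c`
    have hsc : s = mk (d⁻¹ * r7 * d⁻¹⁻¹) := by
      rw [mk_mul, mk_mul]
      have h1 : (mk r7 : Co1) = CpAutMSeven.RanksH.s0 := rfl
      have h2 : (mk d⁻¹ : Co1) = c⁻¹ := by rw [← hd]; rfl
      have h3 : (mk d⁻¹⁻¹ : Co1) = c := by rw [inv_inv, hd]
      rw [h1, h2, h3, ← hc]
      group
    rw [hsc, ← hw] at hb1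
    have h7 : (d⁻¹ * r7 * d⁻¹⁻¹) ^ 7 = 1 := by rw [conj_pow, r7_pow, mul_one, mul_inv_cancel]
    exact r7_not_comm hwo (comm_of_mk (by decide) h7 hb1.symm)
  · exact co1_free (Or.inr (Or.inl rfl)) p11 (by norm_num) (by norm_num) (by norm_num) hs
  · exact co1_free (Or.inr (Or.inl rfl)) p13 (by norm_num) (by norm_num) (by norm_num) hs
  · exact co1_free (Or.inr (Or.inl rfl)) p23 (by norm_num) (by norm_num) (by norm_num) hs

/-! ### the model -/

abbrev MG : Type := ↥InstData.M.G

theorem card_MG : Nat.card MG = 808017424794512875886459904961710757005754368000000000 := by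
  obtain ⟨e⟩ := MonsterP.Equiv.equiv
  exact NotCT.Orders.m ⟨e.symm⟩

theorem odd_index {p : ℕ} [hp : Fact p.Prime] (h8 : ¬ 2 ^ 4 ∣ p - 1) {y : MG} (hy : orderOf y = p)
    (ho : ¬ 2 ∣ Nat.card (centralizer ({y} : Set MG))) : 2 ^ 43 ∣ (normalizer (zpowers y : Set MG)).index := by
  have hfin := MFive.Row.finite_model
  refine pow_dvd_index_of_odd hy (a := 43) (b := 3) Nat.prime_two ?_ h8 ho
  rw [card_MG]
  norm_num

theorem index7 {y : MG} (hy : orderOf y = 7) : 384473665 ≤ (normalizer (zpowers y : Set MG)).index := by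
  have hfin := MFive.Row.finite_model
  have h0 : (normalizer (zpowers y : Set MG)).index ≠ 0 := Subgroup.index_ne_zero_of_finite
  by_cases h2 : 2 ∣ Nat.card (centralizer ({y} : Set MG))
  · obtain ⟨x, g, hg⟩ := MFive.Model.exists_in (MSevenT.hex7 y hy h2)
    have hx : orderOf x = 7 := by
      rw [← Subgroup.orderOf_coe, MFive.Model.orderOf_of_conj hg, hy]
    have h3 := KChart.chart KDone.lft MFive.Row.hc
    have h4 := MFive.orderOf_pi h3 (by norm_num) (by decide) hx
    have h5 : (normalizer (zpowers (x : MG) : Set MG)).index ≤ (normalizer (zpowers y : Set MG)).index := by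
      rw [← hg]
      exact index_normalizer_conj g x
    rcases CpAutMSeven.RanksH.ranks _ h4 with h6 | h6
    · have h7 := index_z h3 (by norm_num) hx (cent7 h4)
      rw [h6] at h7
      omega
    · have h7 := index_z h3 (by norm_num) hx (cent7' h4 h6)
      rw [h6] at h7
      omega
  · have h3 := Nat.le_of_dvd (Nat.pos_of_ne_zero h0) (odd_index (p := 7) (by norm_num) hy h2)
    omega

theorem meet7 : Meet 7 MG := by
  have hfin := MFive.Row.finite_model
  have hs := MFive.Row.simple_model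
  obtain ⟨e⟩ := MonsterP.Equiv.equiv
  have hsp : IsSporadicGroup MG := by
    have : Spor.IsoM MG := ⟨e.symm⟩
    unfold IsSporadicGroup; tauto
  refine meet_of_index (not_comm_spor hsp) (H498.SporOut.index_le_two hsp) (by norm_num) (k := 6) (s := 19608) ?_
    (by norm_num) (fun y hy => index7 hy) (by norm_num)
  rw [card_MG]
  norm_num

theorem meet7_M {G : Type*} [Group G] [Finite G] [IsSimpleGroup G] (h : Spor.IsoM G) : Meet 7 G := by
  obtain ⟨e⟩ := h
  obtain ⟨f⟩ := MonsterP.Equiv.equiv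
  have hfin := MFive.Row.finite_model
  have hs := MFive.Row.simple_model
  exact Meet.congr (e.trans f).symm meet7

/-! ### `p = 13` -/

instance finite_th : Finite Spor.Th := Nat.finite_of_card_ne_zero (by rw [MSevenT.card_th]; norm_num)

theorem index_th {y : Spor.Th} (hy : orderOf y = 13) : 57344 ≤ (normalizer (zpowers y : Set Spor.Th)).index := by
  have ho : ¬ 2 ∣ Nat.card (centralizer ({y} : Set Spor.Th)) := by
    intro h
    have : Fact (Nat.Prime 2) := ⟨Nat.prime_two⟩
    obtain ⟨u, hu⟩ := exists_prime_orderOf_dvd_card' 2 h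
    have hu2 : orderOf (u : Spor.Th) = 2 := by rw [Subgroup.orderOf_coe, hu]
    have h1 := Cfsg.Agent.MonsterX.ThOneClass.card_centralizer hu2
    have h2 : y ∈ centralizer ({(u : Spor.Th)} : Set Spor.Th) :=
      mem_centralizer_singleton_iff.2 (mem_centralizer_singleton_iff.1 u.2).symm
    have h3 : orderOf (⟨y, h2⟩ : centralizer ({(u : Spor.Th)} : Set Spor.Th)) = 13 := by
      rw [← Subgroup.orderOf_coe, hy]
    have h4 := orderOf_dvd_natCard (⟨y, h2⟩ : centralizer ({(u : Spor.Th)} : Set Spor.Th))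
    rw [h3, h1] at h4
    norm_num at h4
  have h1 : 2 ^ 13 ∣ (normalizer (zpowers y : Set Spor.Th)).index :=
    pow_dvd_index_of_odd hy (a := 13) (b := 2) Nat.prime_two (by rw [MSevenT.card_th]; norm_num) (by norm_num) ho
  have h2 := index_mod (by rw [MSevenT.card_th]; norm_num) hy
  have h0 : (normalizer (zpowers y : Set Spor.Th)).index ≠ 0 := Subgroup.index_ne_zero_of_finite
  obtain ⟨k, hk⟩ := h1
  omega

theorem card_centralizer_t : Nat.card (centralizer ({tG KDone.mGroup KDone.mRep} : Set MG)) =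
    2 * 4154781481226426191177580544000000 := by
  have h1 := MSevenT.Row.card_cent
  have h0 : IsB Spor.BabyMonster := S1704.result
  rw [h0.2] at h1
  exact h1

theorem card_cent_conj' {G : Type*} [Group G] (a g : G) :
    Nat.card (centralizer ({g * a * g⁻¹} : Set G)) = Nat.card (centralizer ({a} : Set G)) := by
  refine Nat.card_congr
    { toFun := fun c => ⟨g⁻¹ * c * g, mem_centralizer_singleton_iff.2 ?_⟩
      invFun := fun c => ⟨g * c * g⁻¹, mem_centralizer_singleton_iff.2 ?_⟩
      left_inv := fun c => Subtype.ext (by show g * (g⁻¹ * (c : G) * g) * g⁻¹ = c; group)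
      right_inv := fun c => Subtype.ext (by show g⁻¹ * (g * (c : G) * g⁻¹) * g = c; group) }
  · have h1 := mem_centralizer_singleton_iff.1 c.2
    calc (g⁻¹ * (c : G) * g) * a = g⁻¹ * ((c : G) * (g * a * g⁻¹)) * g := by group
      _ = g⁻¹ * ((g * a * g⁻¹) * c) * g := by rw [h1]
      _ = a * (g⁻¹ * (c : G) * g) := by group
  · have h1 := mem_centralizer_singleton_iff.1 c.2
    calc (g * (c : G) * g⁻¹) * (g * a * g⁻¹) = g * ((c : G) * a) * g⁻¹ := by group
      _ = g * (a * c) * g⁻¹ := by rw [h1]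
      _ = (g * a * g⁻¹) * (g * (c : G) * g⁻¹) := by group

/-- an element of order 13 commuting with a conjugate of `t₀` is in a Thompson group -/
theorem in_th {y : MG} (hy : orderOf y = 13)
    (ht : ∃ g : MG, (g * tG KDone.mGroup KDone.mRep * g⁻¹) * y = y * (g * tG KDone.mGroup KDone.mRep * g⁻¹)) :
    ∃ (f : Spor.Th →* MG) (y' : Spor.Th) (g : MG), Function.Injective f ∧ orderOf y' = 13 ∧ g * f y' * g⁻¹ = y := by
  have hfin := MFive.Row.finite_model
  have hsim := MFive.Row.simple_model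
  have h := KChart.chart KDone.lft MFive.Row.hc
  obtain ⟨x₃, t, hzx, T, ⟨e⟩⟩ := MSevenT.exists_TT h
  obtain ⟨f⟩ := T.exists_equiv
  have htt : t * t = 1 := by rw [← pow_two, ← T.two, pow_orderOf_eq_one]
  have ht1 : t ≠ 1 := fun h1 => by have := T.two; rw [h1, orderOf_one] at this; omega
  have hcardT : Nat.card ↥(centralizer ({x₃} : Set MG) ⊓ centralizer ({t} : Set MG)) = 90745943887872000 := by
    rw [Nat.card_congr (f.trans e).toEquiv, MSevenT.card_th]
  have htz : ¬ ∃ g, g * KDone.K.z * g⁻¹ = t := by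
    rintro ⟨g, hg⟩
    have h1 : Nat.card ↥(centralizer ({x₃} : Set MG) ⊓ centralizer ({t} : Set MG)) ∣
        Nat.card ↥(centralizer ({t} : Set MG)) := Subgroup.card_dvd_of_le inf_le_right
    rw [hcardT, ← hg, card_cent_conj', AmalElts.card_centralizer h] at h1
    norm_num at h1
  obtain ⟨k, hk⟩ : ∃ k, k * tG KDone.mGroup KDone.mRep * k⁻¹ = t := (MFive.Row.two t htt ht1).resolve_left htz
  have h13 : ¬ 13 ^ (1 + 1) ∣ Nat.card ↥(centralizer ({t} : Set MG)) := by
    rw [← hk, card_cent_conj', card_centralizer_t]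
    norm_num
  obtain ⟨g, hg⟩ := ht
  -- `u = m t m⁻¹`
  let m : MG := g * k⁻¹
  have hm : m * t * m⁻¹ = g * tG KDone.mGroup KDone.mRep * g⁻¹ := by
    rw [← hk]
    show (g * k⁻¹) * (k * tG KDone.mGroup KDone.mRep * k⁻¹) * (g * k⁻¹)⁻¹ = _
    group
  rw [← hm] at hg
  have hxt : m⁻¹ * y * m ∈ centralizer ({t} : Set MG) := by
    rw [mem_centralizer_singleton_iff]
    calc (m⁻¹ * y * m) * t = m⁻¹ * (y * (m * t * m⁻¹)) * m := by group
      _ = m⁻¹ * ((m * t * m⁻¹) * y) * m := by rw [hg]
      _ = t * (m⁻¹ * y * m) := by group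
  have hx7 : orderOf (m⁻¹ * y * m) = 13 := by
    have h1 : m⁻¹ * y * m = MulAut.conj m⁻¹ y := by rw [MulAut.conj_apply, inv_inv]
    rw [h1, ← hy]
    exact MulEquiv.orderOf_eq (MulAut.conj m⁻¹) y
  obtain ⟨c, -, hc⟩ := MSevenT.conj_into (C := centralizer ({t} : Set MG))
    (T := centralizer ({x₃} : Set MG) ⊓ centralizer ({t} : Set MG)) inf_le_right (by norm_num : Nat.Prime 13)
    h13 (by rw [hcardT]; norm_num) hx7 hxt
  set y₁ : MG := c * (m⁻¹ * y * m) * c⁻¹ with hy₁
  have hy7 : orderOf y₁ = 13 := by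
    have h1 : y₁ = MulAut.conj c (m⁻¹ * y * m) := rfl
    rw [h1, ← hx7]
    exact MulEquiv.orderOf_eq (MulAut.conj c) _
  refine ⟨(centralizer ({x₃} : Set MG) ⊓ centralizer ({t} : Set MG)).subtype.comp (f.trans e).symm.toMonoidHom,
    (f.trans e) ⟨y₁, hc⟩, m * c⁻¹, ?_, ?_, ?_⟩
  · exact Subtype.val_injective.comp (f.trans e).symm.injective
  · rw [MulEquiv.orderOf_eq]
    exact (Subgroup.orderOf_mk y₁ hc).trans hy7
  · show m * c⁻¹ * (((f.trans e).symm ((f.trans e) ⟨y₁, hc⟩) :
      ↥(centralizer ({x₃} : Set MG) ⊓ centralizer ({t} : Set MG))) : MG) * (m * c⁻¹)⁻¹ = y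
    rw [MulEquiv.symm_apply_apply]
    show m * c⁻¹ * y₁ * (m * c⁻¹)⁻¹ = y
    rw [hy₁]
    group

theorem index13 {y : MG} (hy : orderOf y = 13) : 33490 ≤ (normalizer (zpowers y : Set MG)).index := by
  have hfin := MFive.Row.finite_model
  have h0 : (normalizer (zpowers y : Set MG)).index ≠ 0 := Subgroup.index_ne_zero_of_finite
  by_cases h2 : 2 ∣ Nat.card (centralizer ({y} : Set MG))
  · have : Fact (Nat.Prime 2) := ⟨Nat.prime_two⟩
    obtain ⟨u, hu⟩ := exists_prime_orderOf_dvd_card' 2 h2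
    have hu2 : orderOf (u : MG) = 2 := by rw [Subgroup.orderOf_coe, hu]
    have huu : (u : MG) * u = 1 := by rw [← pow_two, ← hu2, pow_orderOf_eq_one]
    have hu1 : (u : MG) ≠ 1 := fun h1 => by rw [h1, orderOf_one] at hu2; omega
    have huy : (u : MG) * y = y * u := mem_centralizer_singleton_iff.1 u.2
    rcases MFive.Row.two u huu hu1 with ⟨g, hg⟩ | ⟨g, hg⟩
    · obtain ⟨x, g, hg⟩ := MFive.Model.exists_in (x := y) ⟨g, by rw [hg]; exact huy⟩
      have hx : orderOf x = 13 := by
        rw [← Subgroup.orderOf_coe, MFive.Model.orderOf_of_conj hg, hy]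
      have h3 := KChart.chart KDone.lft MFive.Row.hc
      have h4 := MFive.orderOf_pi h3 (by norm_num) (by decide) hx
      have h5 : (normalizer (zpowers (x : MG) : Set MG)).index ≤ (normalizer (zpowers y : Set MG)).index := by
        rw [← hg]
        exact index_normalizer_conj g x
      have h6 : fr (KChart.pi MFive.Row.hc x) = 1 := by
        obtain ⟨a, ha, ha13⟩ := Cfsg.Agent.LThreeBX.NoSeven.exists_odd (n := 13) (by decide)
          (show (KChart.pi MFive.Row.hc x) ^ 13 = 1 by rw [← h4, pow_orderOf_eq_one])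
        have hao : orderOf a = 13 := by
          refine orderOf_eq_prime ha13 ?_
          rintro rfl
          have h1 : (Cfsg.Agent.CoOneType.ClosingFacts.mk 1 : Co1) = 1 := rfl
          rw [← ha, h1, orderOf_one] at h4
          norm_num at h4
        have h7 := fd_le (Or.inr (Or.inr (Or.inr (Or.inl rfl)))) hao
        have h8 := fr_mk_eq (by decide) ha13
        have h9 : (QuotientGroup.mk a : Co1) = KChart.pi MFive.Row.hc x := ha
        rw [← h9, h8]
        have h10 := Nat.le_zero.1 h7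
        rw [h10, pow_zero]
      have h7 := index_z h3 (by norm_num) hx (cent13 h4)
      rw [h6] at h7
      omega
    · obtain ⟨f, y', g, hf, hy', hg'⟩ := in_th hy ⟨g, by rw [hg]; exact huy⟩
      rw [← hg']
      exact le_trans (by norm_num) ((index_th hy').trans ((index_normalizer_map f hf y').trans (index_normalizer_conj g _)))
  · have h3 := Nat.le_of_dvd (Nat.pos_of_ne_zero h0) (odd_index (p := 13) (by norm_num) hy h2)
    omega

theorem meet13 : Meet 13 MG := by
  have hfin := MFive.Row.finite_model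
  have hs := MFive.Row.simple_model
  obtain ⟨e⟩ := MonsterP.Equiv.equiv
  have hsp : IsSporadicGroup MG := by
    have : Spor.IsoM MG := ⟨e.symm⟩
    unfold IsSporadicGroup; tauto
  refine meet_of_index (not_comm_spor hsp) (H498.SporOut.index_le_two hsp) (by norm_num) (k := 3) (s := 183) ?_
    (by norm_num) (fun y hy => index13 hy) (by norm_num)
  rw [card_MG]
  norm_num

theorem meet13_M {G : Type*} [Group G] [Finite G] [IsSimpleGroup G] (h : Spor.IsoM G) : Meet 13 G := by
  obtain ⟨e⟩ := h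
  obtain ⟨f⟩ := MonsterP.Equiv.equiv
  have hfin := MFive.Row.finite_model
  have hs := MFive.Row.simple_model
  exact Meet.congr (e.trans f).symm meet13

end Cfsg.Agent.H47.MeetS.Mon
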