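import Cfsg.Agent.H903.SylMeet
import Cfsg.Agent.CpAutON.Gen

/-!
# Trivial Sylow intersections in simple groups with `|Out| ≤ 2` (helper47, S5762)

* `meet_of_small` : `p ^ 3 ∤ |G|`;
* `meet_of_bound` : `s ^ 2 |N(Y)| < |G|` for the subgroups `Y` of order `p`, `s = (p ^ k - 1) / (p - 1)`;
* `card_normalizer_dvd`, `card_mul_le` : bounds for `|N(Y)|`.
-/

set_option autoImplicit false

namespace Cfsg.Agent.H47.MeetS

open Subgroup Cfsg.Agent.H903.SylMeet

section

variable {G : Type*} [Group G]

theorem not_comm_of_card [IsSimpleGroup G] {n : ℕ} (hn : Nat.card G = n) (hp : ¬ n.Prime) : ¬ IsMulCommutative G := by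
  intro hc
  apply hp
  let _ : CommGroup G := { (inferInstance : Group G) with mul_comm := hc.is_comm.comm }
  rw [← hn]
  exact IsSimpleGroup.prime_card

/-- the inner automorphisms are normal -/
theorem normal_inn : ((MulAut.conj : G →* MulAut G).range).Normal := ⟨by
  rintro _ ⟨t, rfl⟩ g
  exact ⟨g t, (conj_apply_aut g t).symm⟩⟩

theorem card_aut [Finite G] [IsSimpleGroup G] (hT : ¬ IsMulCommutative G) :
    Nat.card (MulAut G) = Nat.card G * (MulAut.conj : G →* MulAut G).range.index := by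
  rw [← (MulAut.conj : G →* MulAut G).range.card_mul_index]
  congr 1
  exact (Nat.card_congr (MonoidHom.ofInjective (conj_injective hT)).toEquiv).symm

theorem index_cases [Finite G] (hi : (MulAut.conj : G →* MulAut G).range.index ≤ 2) :
    (MulAut.conj : G →* MulAut G).range.index = 1 ∨ (MulAut.conj : G →* MulAut G).range.index = 2 := by
  have h0 : (MulAut.conj : G →* MulAut G).range.index ≠ 0 := Subgroup.index_ne_zero_of_finite
  omega

variable {p : ℕ} [hp : Fact p.Prime]

theorem card_sylow_le [Finite G] [IsSimpleGroup G] (hT : ¬ IsMulCommutative G)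
    (hi : (MulAut.conj : G →* MulAut G).range.index ≤ 2) (h2 : p ≠ 2) {k : ℕ} (hk : ¬ p ^ (k + 1) ∣ Nat.card G)
    (P : Sylow p (MulAut G)) : Nat.card P ≤ p ^ k := by
  obtain ⟨n, hn⟩ := P.isPGroup'.exists_card_eq
  have h1 : p ^ n ∣ Nat.card (MulAut G) := hn ▸ Subgroup.card_subgroup_dvd_card (P : Subgroup (MulAut G))
  rw [card_aut hT] at h1
  have h3 : Nat.Coprime (p ^ n) (MulAut.conj : G →* MulAut G).range.index := by
    apply Nat.Coprime.pow_left
    rcases index_cases hi with h | h <;> rw [h]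
    · exact Nat.coprime_one_right p
    · exact (Nat.coprime_primes hp.out Nat.prime_two).2 h2
  have h4 := h3.dvd_of_dvd_mul_right h1
  rw [hn]
  apply Nat.pow_le_pow_right hp.out.pos
  by_contra hlt
  exact hk ((pow_dvd_pow p (by omega)).trans h4)

theorem exists_inner [Finite G] (hi : (MulAut.conj : G →* MulAut G).range.index ≤ 2) (h2 : p ≠ 2) {y : MulAut G}
    (hy : orderOf y = p) : ∃ t : G, MulAut.conj t = y := by
  have hN : ((MulAut.conj : G →* MulAut G).range).Normal := normal_inn
  have hy2 : y ^ 2 ∈ (MulAut.conj : G →* MulAut G).range := by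
    have h1 := Subgroup.pow_index_mem (MulAut.conj : G →* MulAut G).range y
    rcases index_cases hi with h | h <;> rw [h] at h1
    · rw [pow_one] at h1
      exact pow_mem h1 2
    · exact h1
  have hodd : Odd p := hp.out.odd_of_ne_two h2
  obtain ⟨m, hm⟩ := hodd
  have h3 : y = (y ^ 2) ^ (m + 1) := by
    rw [← pow_mul, show 2 * (m + 1) = p + 1 by omega, pow_succ, ← hy, pow_orderOf_eq_one, one_mul]
  rw [h3]
  obtain ⟨t, ht⟩ := hy2
  exact ⟨t ^ (m + 1), by rw [map_pow, ht]⟩

/-- **Abelian Sylow subgroups.** -/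
theorem meet_of_small [Finite G] [IsSimpleGroup G] (hT : ¬ IsMulCommutative G)
    (hi : (MulAut.conj : G →* MulAut G).range.index ≤ 2) (h2 : p ≠ 2) (hk : ¬ p ^ 3 ∣ Nat.card G) : Meet p G := by
  let P : Sylow p (MulAut G) := default
  have h1 : Nat.card P ≤ p ^ 2 := card_sylow_le hT hi h2 hk P
  obtain ⟨n, hn⟩ := P.isPGroup'.exists_card_eq
  refine meet_of_comm hT P fun a ha b hb => ?_
  have h3 : n ≤ 2 := by
    have h4 : p ^ n ≤ p ^ 2 := hn ▸ h1
    exact (Nat.pow_le_pow_iff_right hp.out.one_lt).1 h4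
  have hc : ∀ x y : (P : Subgroup (MulAut G)), x * y = y * x := by
    have h5 : n = 0 ∨ n = 1 ∨ n = 2 := by omega
    rcases h5 with rfl | rfl | rfl
    · intro x y
      rw [pow_zero] at hn
      have := (Nat.card_eq_one_iff_unique.1 hn).1
      exact Subsingleton.elim _ _
    · intro x y
      have : IsCyclic (P : Subgroup (MulAut G)) := isCyclic_of_prime_card (p := p) (by rw [hn, pow_one])
      exact (IsCyclic.isMulCommutative).is_comm.comm x y
    · exact (IsPGroup.isMulCommutative_of_card_eq_prime_sq hn).is_comm.comm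
  exact congrArg Subtype.val (hc ⟨a, ha⟩ ⟨b, hb⟩)

/-- **The counting criterion.** -/
theorem meet_of_bound [Finite G] [IsSimpleGroup G] (hT : ¬ IsMulCommutative G)
    (hi : (MulAut.conj : G →* MulAut G).range.index ≤ 2) (h2 : p ≠ 2) {k s B : ℕ} (hk : ¬ p ^ (k + 1) ∣ Nat.card G)
    (hs : p ^ k - 1 = s * (p - 1))
    (hB : ∀ y : G, orderOf y = p → Nat.card (normalizer (zpowers y : Set G)) ≤ B)
    (h : s * s * B < Nat.card G) : Meet p G := by
  classical
  let P : Sylow p (MulAut G) := default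
  apply meet_of_sylow P
  have hfin : Fintype (Subgroup (MulAut G)) := Fintype.ofFinite _
  let 𝒴 : Finset (Subgroup (MulAut G)) :=
    Finset.univ.filter fun Y => Y ≤ (P : Subgroup (MulAut G)) ∧ Nat.card Y = p
  have h1 : 𝒴.card * (p - 1) ≤ Nat.card P - 1 :=
    card_order_p_mul_le (P := (P : Subgroup (MulAut G))) 𝒴 (fun Y hY => by simpa [𝒴] using hY)
  have hp1 : 0 < p - 1 := by have := hp.out.two_le; omega
  have h3 : 𝒴.card ≤ s := by
    have h4 := card_sylow_le hT hi h2 hk P
    have h5 : 𝒴.card * (p - 1) ≤ s * (p - 1) := by rw [← hs]; omega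
    exact Nat.le_of_mul_le_mul_right h5 hp1
  refine good_of_count P.isPGroup' 𝒴 (fun Y hY hc => Finset.mem_filter.2 ⟨Finset.mem_univ _, hY, hc⟩) (fun _ => B)
    (fun Y hY => ?_) ?_
  · have hYp : Nat.card Y = p := ((Finset.mem_filter.1 hY).2).2
    have hcyc : IsCyclic Y := isCyclic_of_prime_card hYp
    obtain ⟨g, hg⟩ := hcyc.exists_zpow_surjective
    have hgp : orderOf (g : MulAut G) = p := by
      rw [Subgroup.orderOf_coe, orderOf_eq_card_of_forall_mem_zpowers (fun x => hg x), hYp]
    obtain ⟨t, ht⟩ := exists_inner hi h2 hgp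
    have htp : orderOf t = p := by
      rw [← hgp, ← ht]
      exact (orderOf_injective MulAut.conj (conj_injective hT) t).symm
    have hmem : ∀ a : G, MulAut.conj a ∈ Y ↔ a ∈ zpowers t := by
      intro a
      constructor
      · intro ha
        obtain ⟨m, hm⟩ := hg ⟨_, ha⟩
        have hm' : (g : MulAut G) ^ m = MulAut.conj a := congrArg Subtype.val hm
        rw [← ht, ← map_zpow] at hm'
        exact ⟨m, conj_injective hT hm'⟩
      · rintro ⟨m, rfl⟩
        change MulAut.conj (t ^ m) ∈ Y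
        rw [map_zpow, ht]
        exact zpow_mem g.2 m
    refine le_trans ?_ (hB t htp)
    refine Nat.card_le_card_of_injective (fun x => (⟨x.1, ?_⟩ : normalizer (zpowers t : Set G))) ?_
    · rw [mem_normalizer_iff]
      intro a
      have h6 := x.2 (MulAut.conj a)
      rw [← map_mul, ← map_inv, ← map_mul, hmem, hmem] at h6
      exact h6.symm
    · intro x y hxy
      exact Subtype.ext (congrArg (fun z : normalizer (zpowers t : Set G) => (z : G)) hxy)
  · rw [Finset.sum_const, smul_eq_mul, ← mul_assoc]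
    exact lt_of_le_of_lt (Nat.mul_le_mul_right _ (Nat.mul_le_mul h3 h3)) h

/-! ### bounds for `|N(Y)|` -/

theorem card_normalizer_dvd [Finite G] {y : G} (hy : orderOf y = p) :
    Nat.card (normalizer (zpowers y : Set G)) ∣ Nat.card (centralizer ({y} : Set G)) * (p - 1) := by
  have h1 := CpAutON.Gen.card_normalizer y
  rw [h1]
  apply Nat.mul_dvd_mul_left
  rw [← CpAutON.Gen.card_mulAut hy]
  exact Subgroup.card_subgroup_dvd_card _

theorem card_normalizer_le [Finite G] {y : G} (hy : orderOf y = p) :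
    Nat.card (normalizer (zpowers y : Set G)) ≤ Nat.card (centralizer ({y} : Set G)) * (p - 1) :=
  Nat.le_of_dvd (Nat.mul_pos Nat.card_pos (by have := hp.out.two_le; omega)) (card_normalizer_dvd hy)

/-- `|N| c ≤ |G|` if the primes dividing `c` do not divide `|N|`, for `c` a divisor of `|G|` -/
theorem card_mul_le [Finite G] (N : Subgroup G) {c : ℕ} (hc : c ∣ Nat.card G) (h : ∀ r : ℕ, r.Prime → r ∣ c → ¬ r ∣ Nat.card N) :
    Nat.card N * c ≤ Nat.card G := by
  have h1 : Nat.Coprime (Nat.card N) c := by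
    rw [Nat.coprime_iff_gcd_eq_one]
    by_contra hne
    obtain ⟨r, hr, hd⟩ := Nat.exists_prime_and_dvd hne
    exact h r hr (hd.trans (Nat.gcd_dvd_right _ _)) (hd.trans (Nat.gcd_dvd_left _ _))
  exact Nat.le_of_dvd Nat.card_pos (h1.mul_dvd_of_dvd_of_dvd (Subgroup.card_subgroup_dvd_card N) hc)

/-- a prime not adjacent to `p`, not dividing `p - 1` -/
theorem not_dvd_normalizer [Finite G] {y : G} (hy : orderOf y = p) {r : ℕ} (hr : r.Prime) (h1 : ¬ r ∣ p - 1)
    (h : ∀ x : G, orderOf x = r → x * y ≠ y * x) : ¬ r ∣ Nat.card (normalizer (zpowers y : Set G)) := by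
  intro hd
  have h2 := (hd.trans (card_normalizer_dvd hy))
  rcases hr.dvd_mul.1 h2 with h3 | h3
  · have := Fact.mk hr
    obtain ⟨x, hx⟩ := exists_prime_orderOf_dvd_card' r h3
    exact h x (by rw [Subgroup.orderOf_coe, hx]) (mem_centralizer_singleton_iff.1 x.2)
  · exact h1 h3

end

end Cfsg.Agent.H47.MeetS
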